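import Cfsg.Agent.Lib.CoOneLocal.Model

/-!
# Finite checks on the model of the orbit
-/

set_option autoImplicit false
set_option maxRecDepth 100000

namespace Cfsg.Lib.CoOneLocal

open Cfsg.Lib.Concrete

/-- The lines not through the first point. -/
def farList : List ℕ := lineList.filter (fun u => 8 ≤ u)

/-- The image of a vector under a transvection. -/
def tvA (i j a : ℕ) : ℕ := bif a.testBit j then a ^^^ 2 ^ i else a

/-- The image of a radical code under a transvection. -/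
def tvU (i j u : ℕ) : ℕ :=
  comboAux [wedge (tvA i j 1) (tvA i j 2), wedge (tvA i j 1) (tvA i j 4), wedge (tvA i j 1) (tvA i j 8),
    wedge (tvA i j 2) (tvA i j 4), wedge (tvA i j 2) (tvA i j 8), wedge (tvA i j 4) (tvA i j 8)] u

/-- The transvections. -/
def tvAll : List (ℕ × ℕ) := [(0, 1), (0, 2), (0, 3), (1, 0), (1, 2), (1, 3), (2, 0), (2, 1), (2, 3), (3, 0),
  (3, 1), (3, 2)]

/-- The transvections fixing the first point. -/
def tvFix : List (ℕ × ℕ) := [(0, 1), (0, 2), (0, 3), (1, 2), (1, 3), (2, 1), (2, 3), (3, 1), (3, 2)]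

/-- What can be reached from a root. -/
def reach (f : ℕ × ℕ → ℕ → ℕ) (T : List (ℕ × ℕ)) (root : ℕ) : ℕ → List ℕ
  | 0 => [root]
  | k + 1 => (reach f T root k ++ (reach f T root k).flatMap fun u => T.map fun p => f p u).eraseDups

/-- A product of translations. -/
def qword (c m : ℕ) : ℕ :=
  (bif c.testBit 3 then qop 3 else id) ((bif c.testBit 2 then qop 2 else id)
    ((bif c.testBit 1 then qop 1 else id) ((bif c.testBit 0 then qop 0 else id) m)))

/-- The orbit of a code under the translations. -/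
def qorb (m : ℕ) : List ℕ := (List.range 16).map fun c => qword c m

/-- The images of the far lines under the swap, by class and weight. -/
def keys (L b : ℕ) : List ℕ :=
  (farList.flatMap fun u => lset true u).map fun m =>
    2 * (sop L b m >>> 5) + b2n (wt (sop L b m) == 10)

theorem tvU_lt : ∀ p ∈ tvAll, ∀ u < 64, tvU p.1 p.2 u < 64 ∧ tvU p.1 p.2 (tvU p.1 p.2 u) = u ∧
    pfB (tvU p.1 p.2 u) = pfB u ∧ (tvU p.1 p.2 u = 0 → u = 0) := by decide +kernel

theorem tvA_lt : ∀ p ∈ tvAll, ∀ a < 16, tvA p.1 p.2 a < 16 ∧ (a ≠ 0 → tvA p.1 p.2 a ≠ 0) := by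
  decide +kernel

theorem tvFix_sub : ∀ p ∈ tvFix, p ∈ tvAll ∧ p.2 ≠ 0 := by decide +kernel

theorem tvAll_spec : ∀ p ∈ tvAll, p.1 < 4 ∧ p.2 < 4 ∧ p.1 ≠ p.2 := by decide +kernel

theorem reach_far : ∀ u ∈ farList, u ∈ reach (fun p u => tvU p.1 p.2 u) tvFix 8 5 := by decide +kernel

theorem reach_line : ∀ u ∈ lineList, u ∈ reach (fun p u => tvU p.1 p.2 u) tvAll 1 5 := by decide +kernel

theorem reach_pf : ∀ u < 64, pfB u = true →
    u ∈ reach (fun p u => tvU p.1 p.2 u) tvAll 33 5 := by decide +kernel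

theorem reach_point : ∀ a < 16, a ≠ 0 → a ∈ reach (fun p a => tvA p.1 p.2 a) tvAll 1 5 := by decide +kernel

theorem line_or_pf : ∀ u < 64, u ≠ 0 → (pfB u = true ↔ u ∉ lineList) := by decide +kernel

theorem small_u : ∀ u < 8, pfB u = false := by decide +kernel

theorem near_line : ∀ u ∈ lineList, u < 64 ∧ u ≠ 0 ∧ (8 ≤ u ↔ u ∈ farList) ∧ pfB u = false := by
  decide +kernel

theorem lset_facts : ∀ tau : Bool, ∀ u ∈ lineList,
    (∀ m ∈ lset tau u, m < 2048 ∧ m >>> 5 = u ∧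
      (rep tau u ∈ qorb m ∨ rep tau u ^^^ 1 ∈ qorb m) ∧ (m ∈ qorb (rep tau u) ∨ m ∈ qorb (rep tau u ^^^ 1))) ∧
    (∀ x y : Bool, ((lset tau u).filter fun m =>
      bif (qorb (rep tau u)).contains m then x else y).length ∈ [0, 4, 8]) ∧
    (lset tau u).Nodup ∧ rep tau u ∈ lset tau u ∧ rep tau u ^^^ 1 ∈ lset tau u := by
  decide +kernel

theorem far_orbit : ∀ tau : Bool, ∀ u ∈ farList, ∀ m ∈ lset tau u,
    ∃ c ∈ [0, 2, 4, 6, 8, 10, 12, 14], m = qword c (rep tau u) ∨ m = qword c (rep tau u) ^^^ 1 := by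
  decide +kernel

theorem lset_weight : ∀ u ∈ lineList, ∀ k < 32,
    ((32 * u ^^^ k) ∈ lset true u ↔ wt (32 * u ^^^ k) = 4 ∨ wt (32 * u ^^^ k) = 12) := by decide +kernel

theorem pf_weights : ∀ u < 64, pfB u = true →
    ∀ k < 32, wt (32 * u ^^^ k) = 6 ∨ wt (32 * u ^^^ k) = 10 := by decide +kernel

theorem pf_orbit : ∀ u ∈ List.range 64, pfB u = true → ∀ k ∈ List.range 32, ∀ k' ∈ List.range 32,
    wt (32 * u ^^^ k) = wt (32 * u ^^^ k') → 32 * u ^^^ k' ∈ qorb (32 * u ^^^ k) := by decide +kernel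

theorem pf_count : ∀ u < 64, pfB u = true → ∀ x y : Bool, ((List.range 32).filter fun k =>
    bif wt (32 * u ^^^ k) == 10 then x else y).length = 16 * b2n x + 16 * b2n y := by decide +kernel

theorem rank_check : ∀ tau : Bool, ∀ L < 512,
    (∀ u ∈ farList, ∀ m ∈ lset tau u, pfB (sop L 0 m >>> 5) = true) →
      tau = true ∧ L ∈ cases.map Prod.fst := by decide +kernel

theorem case_check : ∀ c ∈ cases, ∀ b < 8,
    (b = 7 ∧ ∀ u < 64, pfB u = true → 2 * u + b2n (c.2.testBit u) ∈ keys c.1 b) ∨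
      (∃ k ∈ keys c.1 b, k ^^^ 1 ∈ keys c.1 b) := by decide +kernel

theorem count_check : ∀ x ∈ [0, 4, 8], ∀ y ∈ [0, 16, 32],
    ((List.range 64).map fun u => if u = 0 then 31 else if pfB u = true then y else x).sum =
      31 + 35 * x + 28 * y := by decide +kernel

theorem prime_check : ∀ p ∈ [19, 311, 619, 97, 71], ∀ k ≤ 11, (2 ^ 11 - 2 ^ k) % p = 0 → k = 11 := by
  decide +kernel

end Cfsg.Lib.CoOneLocal
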