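import Cfsg.Agent.Lib.CoOneLocal.Frame

/-!
# The coordinates on the abelian subgroup and the action of the extraspecial subgroup
-/

set_option autoImplicit false
set_option linter.style.haveILetI false
set_option linter.unusedSectionVars false

namespace Cfsg.Lib.CoOneLocal

open Cfsg Module Cfsg.Lib.Linear.Orth Cfsg.Lib.Extra.Wide Cfsg.Lib.Concrete
open scoped Matrix

theorem xor_all {P : ℕ → Prop} : ∀ n : ℕ, P 0 →
    (∀ a b, a < 2 ^ n → b < 2 ^ n → P a → P b → P (a ^^^ b)) → (∀ k < n, P (2 ^ k)) → ∀ m < 2 ^ n, P m := by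
  intro n
  induction n with
  | zero => exact fun h0 _ _ m hm => by rwa [show m = 0 by omega]
  | succ n ih =>
    intro h0 hx hb m hm
    have h2 : 2 ^ (n + 1) = 2 * 2 ^ n := pow_succ' 2 n
    have low : ∀ a < 2 ^ n, P a := ih h0 (fun a b ha hb' => hx a b (by omega) (by omega))
      (fun k hk => hb k (by omega))
    by_cases h : m < 2 ^ n
    · exact low m h
    · have hr : m - 2 ^ n < 2 ^ n := by omega
      have e : m = 2 ^ n ^^^ (m - 2 ^ n) := by
        refine Nat.eq_of_testBit_eq fun i => ?_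
        conv_lhs => rw [show m = 2 ^ n + (m - 2 ^ n) by omega]
        rcases lt_trichotomy i n with hi | rfl | hi
        · rw [Nat.testBit_two_pow_add_gt hi, Nat.testBit_xor, Nat.testBit_two_pow_of_ne (by omega),
            Bool.false_xor]
        · rw [Nat.testBit_two_pow_add_eq, Nat.testBit_xor, Nat.testBit_two_pow_self,
            Nat.testBit_lt_two_pow hr]
          rfl
        · have hp : 2 ^ (n + 1) ≤ 2 ^ i := Nat.pow_le_pow_right (by norm_num) hi
          rw [Nat.testBit_lt_two_pow (by omega), Nat.testBit_xor,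
            Nat.testBit_two_pow_of_ne (by omega), Nat.testBit_lt_two_pow (by omega)]
          rfl
      rw [e]
      exact hx _ _ (by omega) (by omega) (hb n (by omega)) (low _ hr)

variable {G : Type*} [Group G]

/-- The product of the selected members of a list. -/
def gcombo : List G → ℕ → G
  | [], _ => 1
  | b :: bs, c => (bif c % 2 == 1 then b else 1) * gcombo bs (c / 2)

theorem gcombo_zero (L : List G) : gcombo L 0 = 1 := by
  induction L with
  | nil => rfl
  | cons b bs ih => simp [gcombo, ih]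

theorem gcombo_mem {H : Subgroup G} {L : List G} (h : ∀ b ∈ L, b ∈ H) (c : ℕ) : gcombo L c ∈ H := by
  induction L generalizing c with
  | nil => exact one_mem _
  | cons b bs ih =>
    refine mul_mem ?_ (ih (fun x hx => h x (List.mem_cons_of_mem _ hx)) _)
    cases c % 2 == 1
    exacts [one_mem _, h b List.mem_cons_self]

theorem gcombo_xor {L : List G} (hc : ∀ a ∈ L, ∀ b ∈ L, Commute a b) (h2 : ∀ a ∈ L, a * a = 1)
    (c d : ℕ) : gcombo L (c ^^^ d) = gcombo L c * gcombo L d := by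
  induction L generalizing c d with
  | nil => simp [gcombo]
  | cons b bs ih =>
    have hcb : ∀ x, Commute b (gcombo bs x) := fun x => by
      have : gcombo bs x ∈ Subgroup.centralizer ({b} : Set G) := gcombo_mem (fun y hy =>
        Subgroup.mem_centralizer_singleton_iff.2 (hc y (List.mem_cons_of_mem _ hy) b List.mem_cons_self).eq) x
      exact (Subgroup.mem_centralizer_singleton_iff.1 this).symm
    have hb := h2 b List.mem_cons_self
    simp only [gcombo, Nat.xor_div_two,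
      ih (fun a ha x hx => hc a (List.mem_cons_of_mem _ ha) x (List.mem_cons_of_mem _ hx))
        (fun a ha => h2 a (List.mem_cons_of_mem _ ha))]
    rw [Nat.xor_mod_two_eq]
    generalize gcombo bs (c / 2) = u, hu : c / 2 = c'
    have hcu : Commute b (gcombo bs c') := hcb _
    rcases Nat.mod_two_eq_zero_or_one c with hc' | hc' <;>
      rcases Nat.mod_two_eq_zero_or_one d with hd | hd <;> simp [hc', hd, Nat.add_mod]
    · rw [← mul_assoc, hcu.eq, mul_assoc]
    · simp [mul_assoc]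
    · rw [mul_assoc, ← mul_assoc _ b, ← hcu.eq, ← mul_assoc, ← mul_assoc, hb, one_mul]

/-- A conjugation given on the members of the list by codes acts on all products by the codes. -/
theorem gcombo_map {L : List G} (hc : ∀ a ∈ L, ∀ b ∈ L, Commute a b) (h2 : ∀ a ∈ L, a * a = 1)
    {L' : List G} {n : G} {imgs : List ℕ} (h : L'.map (fun a => n * a * n⁻¹) = imgs.map (gcombo L))
    (m : ℕ) : n * gcombo L' m * n⁻¹ = gcombo L (comboAux imgs m) := by
  induction L' generalizing imgs m with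
  | nil =>
    cases imgs with
    | nil => simp [gcombo, comboAux, gcombo_zero]
    | cons i is => simp at h
  | cons b bs ih =>
    cases imgs with
    | nil => simp at h
    | cons i is =>
      simp only [List.map_cons, List.cons.injEq] at h
      simp only [gcombo, comboAux, gcombo_xor hc h2]
      rw [show ∀ x y : G, n * (x * y) * n⁻¹ = n * x * n⁻¹ * (n * y * n⁻¹) from fun x y => by group,
        ih h.2]
      cases m % 2 == 1
      · simp [gcombo_zero]
      · simp only [cond_true, h.1]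

variable {D : Data G I8}

/-- A radical element common to two points of the first half. -/
theorem exists_common [Finite G] (hq : D.qf = Cfsg.quadFormPlus 4 (ZMod 2)) {t t' : G} {a b : ℕ}
    (hp : D.Point t) (hp' : D.Point t') (ht : D.cls t = ve a) (ht' : D.cls t' = ve b) (ha : a < 16)
    (hb : b < 16) (hw : wedge a b ≠ 0) (hab : ∀ g ∈ AA D, ∀ h ∈ AA D, Commute g h) :
    ∃ g, D.InPQ t g ∧ D.InPQ t' g ∧ g ∈ AA D ∧ D.act g = nU (wedge a b) := by
  obtain ⟨x, hx, hxA, hxv, ex⟩ := exists_pq hq hp' ht' hb ha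
  have hwc : wedge b a = wedge a b := by
    have : ∀ a b : Fin 16, wedge b a = wedge a b := by decide +kernel
    exact this ⟨a, ha⟩ ⟨b, hb⟩
  rw [hwc] at ex
  have hne : ∀ c, D.act c = nU (wedge a b) → c ≠ 1 := fun c hc h => by
    rw [h, D.act_one, ← nU_zero] at hc
    exact hw (nU_inj (by norm_num) (wedge_lt' ha hb) hc).symm
  have hvn : ve b ∉ Submodule.span (ZMod 2) {D.cls t} := fun hm => by
    obtain ⟨α, hα⟩ := Submodule.mem_span_singleton.1 hm
    rw [ht] at hα
    rcases bit α with rfl | rfl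
    · rw [zero_smul, ← ve_zero] at hα
      have hb0 : b = 0 := (ve_inj (by norm_num) hb hα).symm
      have : ∀ a : Fin 16, wedge a 0 = 0 := by decide +kernel
      exact hw (hb0 ▸ this ⟨a, ha⟩)
    · rw [one_smul] at hα
      have hba : b = a := (ve_inj ha hb hα).symm
      have : ∀ a : Fin 16, wedge a a = 0 := by decide +kernel
      exact hw (hba ▸ this ⟨a, ha⟩)
  have htA : t ∈ AA D := WS_le_AA hq ⟨hp.mem, a, ha, ht⟩
  have ht'A : t' ∈ AA D := WS_le_AA hq ⟨hp'.mem, b, hb, ht'⟩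
  have hside : ∀ c, D.InPQ t' c → c ∈ AA D → c * c = 1 → D.act c = nU (wedge a b) →
      c ∈ D.Qof t ∨ c ∈ D.Qof (D.z * t) := by
    intro c hc hcA h2 hcv
    have hcl : D.Cl c := D.cl_of_Qof hp'.cl hc.1 h2 (hne c hcv)
    rcases hp.classify hc.2 (hab c hcA t htA) h2 (v := ve b) (by rw [ht, B_ve_ve hq]) hvn
        (by rw [hcv, ht, sGL_ve hq ha hb]) with h | ⟨u, F⟩
    · exact h.2.1
    · exact absurd hcl F.not_cl
  have hx2 : x * x = 1 := (hp'.third hx (by rw [ht', B_ve_ve hq]) hxv).1 (qf_ve hq a)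
  have hxt : D.InPQ t' (x * t') :=
    hp'.pq_mul hx ⟨(D.ctx_Qof hp'.cl).mem, (D.ctx.central t' hp'.mem).symm⟩
  have ext : D.act (x * t') = nU (wedge a b) := by
    rw [D.act_mul _ _ hx.2 (D.ctx.central t' hp'.mem).symm, D.act_q hp'.mem, mul_one, ex]
  rcases hside x hx hxA hx2 ex with h | h
  · exact ⟨x, ⟨h, hx.2⟩, hx, hxA, ex⟩
  rcases hside (x * t') hxt (mul_mem hxA ht'A) (by
      rw [mul_assoc, ← mul_assoc t', (hab x hxA t' ht'A).symm.eq, mul_assoc x t', hp'.sq, mul_one, hx2]) ext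
    with h' | h'
  · exact ⟨x * t', ⟨h', hxt.2⟩, hxt, mul_mem hxA ht'A, ext⟩
  exfalso
  have hm : t' ∈ D.Qof (D.z * t) := by
    have := mul_mem (inv_mem h) h'
    rwa [inv_mul_cancel_left] at this
  obtain ⟨α, hα⟩ := hp.z_mul.cls_inA (hp.z_mul.inter hp'.mem hm)
  rw [hp.cls_zt, ht'] at hα
  exact hvn (hα ▸ Submodule.smul_mem _ _ (Submodule.mem_span_singleton_self _))

/-- The generators of the abelian subgroup. -/
structure Gen (D : Data G I8) where
  /-- The four points. -/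
  T : Fin 4 → G
  /-- The six common radical elements. -/
  y : Fin 4 → Fin 4 → G
  qp : D.qf = Cfsg.quadFormPlus 4 (ZMod 2)
  abel : ∀ g ∈ AA D, ∀ h ∈ AA D, Commute g h
  pt : ∀ i, D.Point (T i)
  cls_T : ∀ i, D.cls (T i) = ve (2 ^ i.val)
  pq : ∀ i j, i ≠ j → D.InPQ (T i) (y i j)
  symm : ∀ i j, y i j = y j i
  y_mem : ∀ i j, y i j ∈ AA D
  act_y : ∀ i j, i ≠ j → D.act (y i j) = nU (wedge (2 ^ i.val) (2 ^ j.val))

theorem pow_lt_16 (i : Fin 4) : 2 ^ i.val < 16 :=
  lt_of_lt_of_eq (Nat.pow_lt_pow_right (by norm_num) i.2) (by norm_num)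

theorem exists_gen [Finite G] (hq : D.qf = Cfsg.quadFormPlus 4 (ZMod 2))
    (hab : ∀ g ∈ AA D, ∀ h ∈ AA D, Commute g h) : Nonempty (Gen D) := by
  have hT : ∀ i : Fin 4, ∃ t, D.Point t ∧ D.cls t = ve (2 ^ i.val) := fun i =>
    exists_T hq (by positivity) (pow_lt_16 i)
  choose T hp hc using hT
  have hw : ∀ i j : Fin 4, i ≠ j → wedge (2 ^ i.val) (2 ^ j.val) ≠ 0 ∧
      wedge (2 ^ j.val) (2 ^ i.val) = wedge (2 ^ i.val) (2 ^ j.val) := by decide +kernel
  have hy : ∀ i j : Fin 4, ∃ g ∈ AA D, i < j → D.InPQ (T i) g ∧ D.InPQ (T j) g ∧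
      D.act g = nU (wedge (2 ^ i.val) (2 ^ j.val)) := fun i j => by
    by_cases h : i < j
    · obtain ⟨g, h1, h2, h3, h4⟩ := exists_common hq (hp i) (hp j) (hc i) (hc j) (pow_lt_16 i)
        (pow_lt_16 j) (hw i j h.ne).1 hab
      exact ⟨g, h3, fun _ => ⟨h1, h2, h4⟩⟩
    · exact ⟨1, one_mem _, fun h' => absurd h' h⟩
  choose g hgA hg using hy
  refine ⟨⟨T, fun i j => g (min i j) (max i j), hq, hab, hp, hc, fun i j hij => ?_,
    fun i j => by rw [min_comm, max_comm], fun i j => hgA _ _, fun i j hij => ?_⟩⟩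
  · rcases hij.lt_or_gt with h | h
    · simpa [min_eq_left h.le, max_eq_right h.le] using (hg i j h).1
    · simpa [min_eq_right h.le, max_eq_left h.le] using (hg j i h).2.1
  · rcases hij.lt_or_gt with h | h
    · simpa [min_eq_left h.le, max_eq_right h.le] using (hg i j h).2.2
    · simpa [min_eq_right h.le, max_eq_left h.le, (hw i j hij).2] using (hg j i h).2.2

namespace Gen

variable (F : Gen D)
include F

/-- The basis. -/
def gens : List G := [D.z, F.T 0, F.T 1, F.T 2, F.T 3, F.y 0 1, F.y 0 2, F.y 0 3, F.y 1 2, F.y 1 3, F.y 2 3]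

/-- The element of a code. -/
def phi (m : ℕ) : G := gcombo F.gens m

theorem T_mem_WS (i : Fin 4) : F.T i ∈ WS D := ⟨(F.pt i).mem, _, pow_lt_16 i, F.cls_T i⟩

theorem T_mem (i : Fin 4) : F.T i ∈ AA D := WS_le_AA F.qp (F.T_mem_WS i)

theorem z_mem : D.z ∈ AA D := WS_le_AA F.qp z_mem_WS

theorem gens_mem : ∀ b ∈ F.gens, b ∈ AA D := by
  simp only [gens, List.mem_cons, List.not_mem_nil, or_false]
  rintro b (rfl | rfl | rfl | rfl | rfl | rfl | rfl | rfl | rfl | rfl | rfl)
  exacts [F.z_mem, F.T_mem _, F.T_mem _, F.T_mem _, F.T_mem _, F.y_mem _ _, F.y_mem _ _, F.y_mem _ _,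
    F.y_mem _ _, F.y_mem _ _, F.y_mem _ _]

theorem gens_comm : ∀ a ∈ F.gens, ∀ b ∈ F.gens, Commute a b :=
  fun a ha b hb => F.abel a (F.gens_mem a ha) b (F.gens_mem b hb)

theorem phi_mem (m : ℕ) : F.phi m ∈ AA D := gcombo_mem F.gens_mem m

variable [Finite G]

theorem y_sq {i j : Fin 4} (h : i ≠ j) : F.y i j * F.y i j = 1 :=
  ((F.pt i).third (v := ve (2 ^ j.val)) (F.pq i j h) (by rw [F.cls_T, B_ve_ve F.qp])
    (by rw [F.act_y i j h, F.cls_T, sGL_ve F.qp (pow_lt_16 i) (pow_lt_16 j)])).1 (qf_ve F.qp _)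

theorem gens_sq : ∀ a ∈ F.gens, a * a = 1 := by
  simp only [gens, List.mem_cons, List.not_mem_nil, or_false]
  rintro b (rfl | rfl | rfl | rfl | rfl | rfl | rfl | rfl | rfl | rfl | rfl)
  exacts [D.ctx.sq_z, (F.pt _).sq, (F.pt _).sq, (F.pt _).sq, (F.pt _).sq, F.y_sq (by decide),
    F.y_sq (by decide), F.y_sq (by decide), F.y_sq (by decide), F.y_sq (by decide), F.y_sq (by decide)]

theorem phi_xor (a b : ℕ) : F.phi (a ^^^ b) = F.phi a * F.phi b :=
  gcombo_xor F.gens_comm F.gens_sq a b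

theorem phi_zero : F.phi 0 = 1 := gcombo_zero _

theorem phi_sq (a : ℕ) : F.phi a * F.phi a = 1 := by rw [← F.phi_xor, Nat.xor_self, F.phi_zero]

/-- A conjugation given on the basis by codes. -/
theorem conj_phi {n : G} {imgs : List ℕ}
    (h : F.gens.map (fun a => n * a * n⁻¹) = imgs.map F.phi) (m : ℕ) :
    n * F.phi m * n⁻¹ = F.phi (comboAux imgs m) :=
  gcombo_map F.gens_comm F.gens_sq h m

theorem phi_one : F.phi 1 = D.z := by simp [phi, gens, gcombo]

theorem phi_T (i : Fin 4) : F.phi (2 ^ (1 + i.val)) = F.T i := by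
  fin_cases i <;> simp [phi, gens, gcombo]

theorem phi_y {i j : Fin 4} (h : i ≠ j) : F.phi (ycode i j) = F.y i j := by
  fin_cases i <;> fin_cases j <;> first | exact absurd rfl h | skip
  all_goals simp [phi, gens, gcombo, ycode]
  all_goals exact F.symm _ _

theorem act_phi : ∀ m < 2048, D.act (F.phi m) = nU (m >>> 5) := by
  refine xor_all 11 (by rw [F.phi_zero, D.act_one, Nat.zero_shiftRight, nU_zero]) (fun a b _ _ ea eb => ?_) ?_
  · rw [F.phi_xor, D.act_mul _ _ (AA_comm_z (F.phi_mem a)) (AA_comm_z (F.phi_mem b)), ea, eb, nU_xor,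
      Nat.shiftRight_xor_distrib]
  intro k hk
  have hT : ∀ i : Fin 4, D.act (F.T i) = nU 0 := fun i => by rw [D.act_q (F.pt i).mem, nU_zero]
  interval_cases k
  · rw [show F.phi (2 ^ 0) = D.z from F.phi_one, D.act_q D.ctx.mem, ← nU_zero]; rfl
  · rw [show F.phi (2 ^ 1) = F.T 0 from F.phi_T 0, hT]; rfl
  · rw [show F.phi (2 ^ 2) = F.T 1 from F.phi_T 1, hT]; rfl
  · rw [show F.phi (2 ^ 3) = F.T 2 from F.phi_T 2, hT]; rfl
  · rw [show F.phi (2 ^ 4) = F.T 3 from F.phi_T 3, hT]; rfl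
  · rw [show F.phi (2 ^ 5) = F.y 0 1 from F.phi_y (i := 0) (j := 1) (by decide), F.act_y 0 1 (by decide)]
    rfl
  · rw [show F.phi (2 ^ 6) = F.y 0 2 from F.phi_y (i := 0) (j := 2) (by decide), F.act_y 0 2 (by decide)]
    rfl
  · rw [show F.phi (2 ^ 7) = F.y 0 3 from F.phi_y (i := 0) (j := 3) (by decide), F.act_y 0 3 (by decide)]
    rfl
  · rw [show F.phi (2 ^ 8) = F.y 1 2 from F.phi_y (i := 1) (j := 2) (by decide), F.act_y 1 2 (by decide)]
    rfl
  · rw [show F.phi (2 ^ 9) = F.y 1 3 from F.phi_y (i := 1) (j := 3) (by decide), F.act_y 1 3 (by decide)]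
    rfl
  · rw [show F.phi (2 ^ 10) = F.y 2 3 from F.phi_y (i := 2) (j := 3) (by decide), F.act_y 2 3 (by decide)]
    rfl

theorem small_phi : ∀ m < 32, F.phi m ∈ D.Q ∧ D.cls (F.phi m) = ve (m >>> 1) := by
  refine xor_all 5 ⟨by rw [F.phi_zero]; exact one_mem _,
    by rw [F.phi_zero, D.cls_one, Nat.zero_shiftRight, ve_zero]⟩ (fun a b _ _ ea eb => ?_) ?_
  · rw [F.phi_xor]
    exact ⟨mul_mem ea.1 eb.1, by
      rw [D.cls_mul _ ea.1 _ eb.1, ea.2, eb.2, Nat.shiftRight_xor_distrib, ve_xor]⟩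
  intro k hk
  rcases k with _ | k
  · rw [show F.phi (2 ^ 0) = D.z from F.phi_one]
    exact ⟨D.ctx.mem, by rw [D.cls_z]; exact ve_zero.symm⟩
  · rw [show 2 ^ (k + 1) = 2 ^ (1 + (⟨k, by omega⟩ : Fin 4).val) by rw [add_comm], F.phi_T]
    exact ⟨(F.pt _).mem, by
      rw [F.cls_T, add_comm, pow_succ', Nat.shiftRight_eq_div_pow, pow_one, Nat.mul_div_cancel_left _ two_pos]⟩

theorem phi_small_ne {m : ℕ} (hm : m < 32) (h : F.phi m = 1) : m = 0 := by
  have h1 := (F.small_phi m hm).2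
  rw [h, D.cls_one, ← ve_zero] at h1
  have h2 : m >>> 1 = 0 := (ve_inj (by norm_num) (by rw [Nat.shiftRight_eq_div_pow]; omega) h1).symm
  rw [Nat.shiftRight_eq_div_pow] at h2
  rcases (show m = 0 ∨ m = 1 by omega) with e | e
  · exact e
  · rw [e, F.phi_one] at h
    exact absurd h D.ctx.ne_one

theorem phi_inj {a b : ℕ} (ha : a < 2048) (hb : b < 2048) (h : F.phi a = F.phi b) : a = b := by
  have hab : a ^^^ b < 2048 := Nat.xor_lt_two_pow (n := 11) ha hb
  have h1 : F.phi (a ^^^ b) = 1 := by rw [F.phi_xor, h, F.phi_sq]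
  have hact := F.act_phi _ hab
  rw [h1, D.act_one, ← nU_zero] at hact
  have hu : (a ^^^ b) >>> 5 = 0 :=
    (nU_inj (by norm_num) (by rw [Nat.shiftRight_eq_div_pow]; omega) hact).symm
  have h32 : a ^^^ b < 32 := by rw [Nat.shiftRight_eq_div_pow] at hu; omega
  exact Nat.xor_eq_zero_iff.1 (F.phi_small_ne h32 h1)

theorem phi_surj {g : G} (hg : g ∈ AA D) : ∃ m < 2048, F.phi m = g := by
  obtain ⟨u, hu, eu⟩ := act_AA F.qp hg
  have h5 : u <<< 5 < 2048 := by rw [Nat.shiftLeft_eq]; omega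
  have e5 := F.act_phi _ h5
  rw [Nat.shiftLeft_shiftRight] at e5
  obtain ⟨hwQ, a, ha, ea⟩ := diff_WS F.qp (F.phi_mem (u <<< 5)) hg (e5.trans eu.symm)
  have hwA : F.phi (u <<< 5) * g⁻¹ ∈ D.Q := hwQ
  obtain ⟨hsQ, hsc⟩ := F.small_phi (2 * a) (by omega)
  have hs1 : (2 * a) >>> 1 = a := by rw [Nat.shiftRight_eq_div_pow]; omega
  rw [hs1] at hsc
  have hgi : g⁻¹ = g⁻¹ := rfl
  rcases D.cls_eq hsQ hwA (hsc.trans ea.symm) with e | e
  · refine ⟨u <<< 5 ^^^ 2 * a, Nat.xor_lt_two_pow (n := 11) h5 (by omega), ?_⟩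
    calc F.phi (u <<< 5 ^^^ 2 * a) = F.phi (2 * a ^^^ u <<< 5) := by rw [Nat.xor_comm]
      _ = (F.phi (u <<< 5) * g⁻¹)⁻¹ * F.phi (u <<< 5) := by
          rw [e, F.phi_xor, inv_eq_of_mul_eq_one_right (F.phi_sq _)]
      _ = g := by group
  · refine ⟨u <<< 5 ^^^ (2 * a ^^^ 1), Nat.xor_lt_two_pow (n := 11) h5
      (Nat.xor_lt_two_pow (n := 11) (by omega) (by norm_num)), ?_⟩
    calc F.phi (u <<< 5 ^^^ (2 * a ^^^ 1)) = F.phi ((1 ^^^ 2 * a) ^^^ u <<< 5) := by
          rw [Nat.xor_comm, Nat.xor_comm 1]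
      _ = (F.phi (u <<< 5) * g⁻¹)⁻¹ * F.phi (u <<< 5) := by
          rw [e, ← F.phi_one, ← F.phi_xor, inv_eq_of_mul_eq_one_right (F.phi_sq _), ← F.phi_xor]
      _ = g := by group

theorem card_AA : Nat.card ↥(AA D) = 2 ^ 11 := by
  have h : Function.Bijective (fun m : Fin 2048 => (⟨F.phi m, F.phi_mem m⟩ : AA D)) :=
    ⟨fun a b h => Fin.ext (F.phi_inj a.2 b.2 (congrArg Subtype.val h)), fun g => by
      obtain ⟨m, hm, e⟩ := F.phi_surj g.2
      exact ⟨⟨m, hm⟩, Subtype.ext e⟩⟩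
  rw [← Nat.card_congr (Equiv.ofBijective _ h), Nat.card_eq_fintype_card, Fintype.card_fin]
  norm_num

theorem elementary : Cfsg.IsElementaryAbelian 2 (AA D) := by
  refine ⟨⟨⟨fun a b => Subtype.ext (F.abel a a.2 b b.2).eq⟩⟩, fun a ha => ?_⟩
  obtain ⟨m, -, rfl⟩ := F.phi_surj ha
  rw [pow_two, F.phi_sq]

theorem centralizer_AA : Subgroup.centralizer (AA D : Set G) = AA D := by
  refine le_antisymm (Subgroup.centralizer_le (SetLike.coe_subset_coe.2 (WS_le_AA F.qp))) fun g hg => ?_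
  exact Subgroup.mem_centralizer_iff.2 fun h hh => (F.abel h hh g hg).eq

/-- The translations act by the listed codes. -/
theorem q_conj {q : G} (k : Fin 4) (hqQ : q ∈ D.Q) (hqc : D.cls q = vf (2 ^ k.val)) (m : ℕ) :
    q * F.phi m * q⁻¹ = F.phi (qop k m) := by
  have hB : ∀ j : Fin 4, D.B (D.cls q) (ve (2 ^ j.val)) = if j = k then 1 else 0 := fun j => by
    rw [hqc, B_vf_ve F.qp]
    exact (by decide +kernel : ∀ k j : Fin 4, dot (2 ^ k.val) (2 ^ j.val) = if j = k then 1 else 0) k j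
  have hT : ∀ j : Fin 4, q * F.T j * q⁻¹ = if j = k then D.z * F.T j else F.T j := by
    intro j
    by_cases h : j = k
    · rw [if_pos h]
      exact D.q_move hqQ (F.pt j).mem (by rw [F.cls_T, hB, if_pos h])
    · rw [if_neg h]
      have hc := (D.cls_comm q hqQ _ (F.pt j).mem).2 (by rw [F.cls_T, hB, if_neg h])
      rw [hc.eq, mul_inv_cancel_right]
  have hqz : q * D.z * q⁻¹ = D.z := by
    rw [(D.ctx.central q hqQ).symm.eq, mul_inv_cancel_right]
  have hy : ∀ i j : Fin 4, i ≠ j → q * F.y i j * q⁻¹ =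
      if j = k then D.z * F.T i * F.y i j else if i = k then D.z * F.T j * F.y i j else F.y i j := by
    have key : ∀ i j : Fin 4, i ≠ j → i ≠ k → q * F.y i j * q⁻¹ =
        if j = k then D.z * F.T i * F.y i j else F.y i j := by
      intro i j hij hik
      have hqt : D.InCQ (F.T i) q :=
        ⟨hqQ, (D.cls_comm q hqQ _ (F.pt i).mem).2 (by rw [F.cls_T, hB, if_neg hik])⟩
      have hc := (F.pt i).comm hqt (F.pq i j hij) (v := ve (2 ^ j.val)) (by rw [F.cls_T, B_ve_ve F.qp])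
        (by rw [F.act_y i j hij, F.cls_T, sGL_ve F.qp (pow_lt_16 i) (pow_lt_16 j)])
      by_cases h : j = k
      · rw [if_pos h]
        have h1 := hc.2 (by rw [hB, if_pos h])
        have h2 : q * (F.y i j * q⁻¹ * (F.y i j)⁻¹) = (D.z * F.T i)⁻¹ := by
          have e : (F.y i j * q * (F.y i j)⁻¹)⁻¹ = (D.z * F.T i * q)⁻¹ := by rw [h1]
          calc q * (F.y i j * q⁻¹ * (F.y i j)⁻¹) = q * (F.y i j * q * (F.y i j)⁻¹)⁻¹ := by group
            _ = _ := by rw [e]; group
        calc q * F.y i j * q⁻¹ = q * (F.y i j * q⁻¹ * (F.y i j)⁻¹) * F.y i j := by group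
          _ = _ := by rw [h2, inv_eq_of_mul_eq_one_right (F.pt i).z_mul.sq]
      · rw [if_neg h]
        exact mul_inv_eq_iff_eq_mul.2 (hc.1 (by rw [hB, if_neg h])).symm.eq
    intro i j hij
    by_cases hik : i = k
    · have hjk : j ≠ k := fun h => hij (hik.trans h.symm)
      rw [if_neg hjk, if_pos hik, F.symm i j, key j i hij.symm hjk, if_pos hik]
    · rw [key i j hij hik]
      by_cases h : j = k <;> simp [h, hik]
  refine F.conj_phi ?_ m
  simp only [gens, List.map_cons, List.map_nil]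
  rw [hqz, hT, hT, hT, hT, hy 0 1 (by decide), hy 0 2 (by decide), hy 0 3 (by decide),
    hy 1 2 (by decide), hy 1 3 (by decide), hy 2 3 (by decide)]
  fin_cases k <;> simp [qImg, phi, gens, gcombo, mul_assoc]

end Gen

end Cfsg.Lib.CoOneLocal
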