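import Cfsg.Agent.Lib.CoOneLocal.Setup
import Mathlib.GroupTheory.PGroup

/-!
# The size of the orbit of the central involution
-/

set_option autoImplicit false
set_option linter.style.haveILetI false
set_option linter.unusedSectionVars false

namespace Cfsg.Lib.CoOneLocal

open Cfsg Module Cfsg.Lib.Linear.Orth Cfsg.Lib.Extra.Wide Cfsg.Lib.Concrete
open scoped Matrix

variable {G : Type*} [Group G] [Finite G]

theorem fixed_prime {A : Type*} [Group A] [Finite A] (hA : Nat.card A = 2 ^ 11) {p : ℕ}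
    (hp : p.Prime) (hne : ∀ k ≤ 11, (2 ^ 11 - 2 ^ k) % p = 0 → k = 11) {R : Subgroup (MulAut A)}
    (hdvd : p ∣ Nat.card ↥R) : False := by
  classical
  haveI : Fact p.Prime := ⟨hp⟩
  obtain ⟨x, hx⟩ := exists_prime_orderOf_dvd_card' (G := ↥R) p hdvd
  have hx' : orderOf (x : MulAut A) = p := by rw [Subgroup.orderOf_coe]; exact hx
  have hP : IsPGroup p ↥(Subgroup.zpowers (x : MulAut A)) :=
    IsPGroup.of_card (n := 1) (by rw [Nat.card_zpowers, hx', pow_one])
  let Fx : Subgroup A :=
    { carrier := {a | (x : MulAut A) a = a}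
      one_mem' := map_one (x : MulAut A)
      mul_mem' := fun {a b} ha hb => by
        show (x : MulAut A) (a * b) = a * b
        rw [map_mul, ha, hb]
      inv_mem' := fun {a} ha => by
        show (x : MulAut A) a⁻¹ = a⁻¹
        rw [map_inv, ha] }
  obtain ⟨k, hk, hck⟩ := (Nat.dvd_prime_pow Nat.prime_two).1 (hA ▸ Subgroup.card_subgroup_dvd_card Fx)
  have hfix : Nat.card (MulAction.fixedPoints ↥(Subgroup.zpowers (x : MulAut A)) A) = Nat.card Fx := by
    refine Nat.card_congr (Equiv.subtypeEquivRight fun a => ⟨fun h => ?_, fun h g => ?_⟩)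
    · exact h ⟨_, Subgroup.mem_zpowers _⟩
    · obtain ⟨g, hg⟩ := g
      have : g ∈ MulAction.stabilizer (MulAut A) a :=
        Subgroup.zpowers_le.2 (show (x : MulAut A) ∈ MulAction.stabilizer (MulAut A) a from h) hg
      exact this
  have hmod := hP.card_modEq_card_fixedPoints A
  rw [hfix, hA, hck] at hmod
  have hk11 := hne k hk (Nat.sub_mod_eq_zero_of_mod_eq hmod)
  subst hk11
  have htop : Fx = ⊤ := Subgroup.eq_top_of_card_eq _ (hck.trans hA.symm)
  have h1 : (x : MulAut A) = 1 := MulEquiv.ext fun a => by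
    have : a ∈ Fx := htop ▸ Subgroup.mem_top a
    exact this
  rw [h1, orderOf_one] at hx'
  exact hp.one_lt.ne hx'

namespace Setup

variable {D : Data G I8} (S : Setup D)

/-- A part of the normalizer containing the generators. -/
structure Rich (S : Setup D) (M : Subgroup G) : Prop where
  le : M ≤ Subgroup.normalizer (AA D : Set G)
  q : ∀ q ∈ D.Q, q ∈ M
  s : S.s ∈ M
  d : ∀ p ∈ tvAll, ∃ d ∈ M, Commute d D.z ∧ ∀ a < 16, (D.act d).val *ᵥ ve a = ve (tvA p.1 p.2 a)

/-- The codes of the orbit of the central involution. -/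
def Orb (S : Setup D) (M : Subgroup G) (m : ℕ) : Prop := ∃ n ∈ M, n * D.z * n⁻¹ = S.F.phi m

open scoped Classical in
/-- The part of the orbit over a radical code. -/
noncomputable def fibre (S : Setup D) (M : Subgroup G) (u : ℕ) : Finset ℕ :=
  (Finset.range 2048).filter fun m => m >>> 5 = u ∧ S.Orb M m

include S

theorem mem_fibre {M : Subgroup G} {u m : ℕ} :
    m ∈ S.fibre M u ↔ m < 2048 ∧ m >>> 5 = u ∧ S.Orb M m := by
  classical
  simp [fibre]

theorem orb_move {M : Subgroup G} {n : G} (hn : n ∈ M) {m m' : ℕ} (h : S.Orb M m)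
    (e : n * S.F.phi m * n⁻¹ = S.F.phi m') : S.Orb M m' := by
  obtain ⟨k, hk, ek⟩ := h
  exact ⟨n * k, mul_mem hn hk, by rw [← e, ← ek]; group⟩

theorem orb_cl {M : Subgroup G} {m : ℕ} (h : S.Orb M m) : D.Cl (S.F.phi m) ∧ m ≠ 0 := by
  obtain ⟨n, -, e⟩ := h
  have hc : D.Cl (S.F.phi m) := ⟨n, e⟩
  exact ⟨hc, fun h0 => hc.ne_one D (by rw [h0, S.F.phi_zero])⟩

variable {M : Subgroup G} (hM : S.Rich M)
include hM

theorem orb_qorb {m m' : ℕ} (h : S.Orb M m) (h' : m' ∈ qorb m) : S.Orb M m' := by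
  simp only [qorb, List.mem_map] at h'
  obtain ⟨c, -, rfl⟩ := h'
  obtain ⟨q, hq, e⟩ := S.qword_conj c m
  exact S.orb_move (hM.q q hq) h e

theorem orb_small : ∀ m < 32, m ≠ 0 → S.Orb M m := by
  have h1 : S.Orb M 1 := ⟨1, one_mem _, by rw [S.F.phi_one]; simp⟩
  have h3 : S.Orb M 3 := by
    refine S.orb_move hM.s h1 ?_
    rw [S.swap]
    congr 1
    simp [sop, simg, comboAux]
  have hflip : ∀ a < 16, a ≠ 0 → 2 * a ∈ qorb (2 * a + 1) ∧ 2 * a + 1 ∈ qorb (2 * a) := by decide +kernel
  have h2 : S.Orb M (2 * 1) := S.orb_qorb hM h3 (hflip 1 (by norm_num) (by norm_num)).1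
  have hreach : ∀ k, ∀ a ∈ reach (fun p a => tvA p.1 p.2 a) tvAll 1 k,
      a < 16 ∧ a ≠ 0 ∧ S.Orb M (2 * a) := by
    intro k
    induction k with
    | zero =>
      simp only [reach, List.mem_singleton]
      rintro a rfl
      exact ⟨by norm_num, by norm_num, h2⟩
    | succ k ih =>
      intro a ha
      simp only [reach, List.mem_eraseDups, List.mem_append, List.mem_flatMap, List.mem_map] at ha
      rcases ha with ha | ⟨a, ha, p, hp, rfl⟩
      · exact ih a ha
      obtain ⟨ha16, ha0, hao⟩ := ih a ha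
      obtain ⟨d, hd, hdz, hda⟩ := hM.d p hp
      obtain ⟨h16, h0⟩ := tvA_lt p hp a ha16
      refine ⟨h16, h0 ha0, ?_⟩
      obtain ⟨hQ, hc⟩ := S.F.small_phi (2 * a) (by omega)
      rw [show (2 * a) >>> 1 = a by rw [Nat.shiftRight_eq_div_pow]; omega] at hc
      set a' := tvA p.1 p.2 a
      obtain ⟨hQ', hc'⟩ := S.F.small_phi (2 * a') (by omega)
      rw [show (2 * a') >>> 1 = a' by rw [Nat.shiftRight_eq_div_pow]; omega] at hc'
      have hdQ : d * S.F.phi (2 * a) * d⁻¹ ∈ D.Q :=
        (Subgroup.mem_normalizer_iff.1 (D.ctx.norm d hdz) _).1 hQ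
      rcases D.cls_eq hQ' hdQ (by rw [hc', D.act_cls d hdz _ hQ, hc, hda a ha16]) with e | e
      · exact S.orb_move hd hao e
      · have e' : d * S.F.phi (2 * a) * d⁻¹ = S.F.phi (2 * a' + 1) := by
          rw [e, ← S.F.phi_one, ← S.F.phi_xor, show 1 ^^^ 2 * a' = 2 * a' + 1 from
            (by decide +kernel : ∀ a < 16, 1 ^^^ 2 * a = 2 * a + 1) a' h16]
        exact S.orb_qorb hM (S.orb_move hd hao e') (hflip a' h16 (h0 ha0)).1
  intro m hm hm0
  by_cases hm1 : m = 1
  · exact hm1 ▸ h1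
  have hA : m / 2 < 16 := by omega
  have hA0 : m / 2 ≠ 0 := by omega
  have h := (hreach 5 _ (reach_point _ hA hA0)).2.2
  rcases Nat.mod_two_eq_zero_or_one m with e | e
  · rwa [show 2 * (m / 2) = m by omega] at h
  · have := S.orb_qorb hM h (hflip _ hA hA0).2
    rwa [show 2 * (m / 2) + 1 = m by omega] at this

theorem fibre_zero : (S.fibre M 0).card = 31 := by
  classical
  have e : S.fibre M 0 = (Finset.range 32).erase 0 := by
    ext m
    rw [S.mem_fibre, Finset.mem_erase, Finset.mem_range]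
    constructor
    · rintro ⟨-, h, ho⟩
      rw [Nat.shiftRight_eq_div_pow] at h
      exact ⟨(S.orb_cl ho).2, by omega⟩
    · rintro ⟨h0, h⟩
      exact ⟨by omega, by rw [Nat.shiftRight_eq_div_pow]; omega, S.orb_small hM m h h0⟩
  rw [e, Finset.card_erase_of_mem (Finset.mem_range.2 (by norm_num)), Finset.card_range]

theorem fibre_le {p : ℕ × ℕ} (hp : p ∈ tvAll) {u : ℕ} (hu : u < 64) :
    (S.fibre M u).card ≤ (S.fibre M (tvU p.1 p.2 u)).card := by
  classical
  obtain ⟨d, hd, hdz, hda⟩ := hM.d p hp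
  have hdN := hM.le hd
  choose f hf he using fun m => S.conj_code hdN m
  refine Finset.card_le_card_of_injOn f (fun m hm => ?_) (fun a ha b hb e => ?_)
  · rw [Finset.mem_coe, S.mem_fibre] at hm ⊢
    obtain ⟨hm, rfl, ho⟩ := hm
    refine ⟨hf m, ?_, S.orb_move hd ho (he m)⟩
    have h := act_conj (D := D) hdz (AA_comm_z (S.F.phi_mem m))
    rw [he m, S.F.act_phi _ (hf m), S.F.act_phi m hm,
      trans_conj S.F (i := p.1) (j := p.2) hp hdz hda _ hu] at h
    exact nU_inj (shift5_lt (hf m)) (tvU_lt p hp _ hu).1 h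
  · rw [Finset.mem_coe, S.mem_fibre] at ha hb
    have h := (he a).trans ((congrArg S.F.phi e).trans (he b).symm)
    exact S.F.phi_inj ha.1 hb.1 (mul_left_cancel (mul_right_cancel h))

theorem fibre_reach (T : List (ℕ × ℕ)) (hT : ∀ p ∈ T, p ∈ tvAll) (root : ℕ) (hr : root < 64) :
    ∀ k, ∀ u ∈ reach (fun p u => tvU p.1 p.2 u) T root k,
      u < 64 ∧ (S.fibre M u).card = (S.fibre M root).card := by
  intro k
  induction k with
  | zero =>
    simp only [reach, List.mem_singleton]
    rintro u rfl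
    exact ⟨hr, rfl⟩
  | succ k ih =>
    intro u hu
    simp only [reach, List.mem_eraseDups, List.mem_append, List.mem_flatMap, List.mem_map] at hu
    rcases hu with hu | ⟨w, hw, p, hp, rfl⟩
    · exact ih u hu
    obtain ⟨hw64, e⟩ := ih w hw
    obtain ⟨h64, hinv, -, -⟩ := tvU_lt p (hT p hp) w hw64
    refine ⟨h64, (le_antisymm ?_ (S.fibre_le hM (hT p hp) hw64)).trans e⟩
    have := S.fibre_le hM (hT p hp) h64
    rwa [hinv] at this

theorem fibre_line {u : ℕ} (hu : u ∈ lineList) : (S.fibre M u).card ∈ [0, 4, 8] := by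
  classical
  obtain ⟨hall, hcnt, hnd, hr0, hr1⟩ := lset_facts S.tau u hu
  set r := rep S.tau u
  have key : ∀ m ∈ lset S.tau u,
      (S.Orb M m ↔ (bif (qorb r).contains m then decide (S.Orb M r) else decide (S.Orb M (r ^^^ 1))) = true) := by
    intro m hm
    obtain ⟨-, -, hback, hfwd⟩ := hall m hm
    have hsym : ∀ x ∈ lset S.tau u, ∀ y ∈ lset S.tau u, ∀ c < 16, y = qword c x → x = qword c y := by
      intro x _ y _ c hc e
      subst e
      have hq : ∀ c < 16, ∀ m < 2048, qword c (qword c m) = m → True := fun _ _ _ _ _ => trivial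
      have inv : ∀ c : Fin 16, ∀ k : Fin 11, qword c (qword c (2 ^ k.val)) = 2 ^ k.val := by decide +kernel
      have lin : ∀ c a b, qword c (a ^^^ b) = qword c a ^^^ qword c b := by
        intro c a b
        have l : ∀ (e : Bool) (k : ℕ) (a b : ℕ), (bif e then qop k else id) (a ^^^ b) =
            (bif e then qop k else id) a ^^^ (bif e then qop k else id) b := by
          intro e k a b
          cases e
          · rfl
          · exact comboAux_xor _ _ _
        simp only [qword, l]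
      refine (xor_all (P := fun m => qword c (qword c m) = m) 11 ?_ (fun a b _ _ ha hb => ?_)
        (fun k hk => inv ⟨c, hc⟩ ⟨k, hk⟩) x (hall x ‹_›).1).symm
      · have z0 : ∀ c : Fin 16, qword c (qword c 0) = 0 := by decide +kernel
        exact z0 ⟨c, hc⟩
      · rw [lin, lin, ha, hb]
    by_cases hc : m ∈ qorb r
    · rw [List.contains_iff_mem.2 hc, cond_true, decide_eq_true_iff]
      refine ⟨fun h => ?_, fun h => S.orb_qorb hM h hc⟩
      simp only [qorb, List.mem_map, List.mem_range] at hc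
      obtain ⟨c, hc, e⟩ := hc
      exact S.orb_qorb hM h (List.mem_map.2 ⟨c, List.mem_range.2 hc, (hsym r hr0 m hm c hc e.symm).symm⟩)
    · have hc' : m ∈ qorb (r ^^^ 1) := hfwd.resolve_left hc
      rw [Bool.eq_false_iff.2 (fun h => hc (List.contains_iff_mem.1 h)), cond_false, decide_eq_true_iff]
      refine ⟨fun h => ?_, fun h => S.orb_qorb hM h hc'⟩
      simp only [qorb, List.mem_map, List.mem_range] at hc'
      obtain ⟨c, hc'', e⟩ := hc'
      exact S.orb_qorb hM h
        (List.mem_map.2 ⟨c, List.mem_range.2 hc'', (hsym _ hr1 m hm c hc'' e.symm).symm⟩)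
  have e : S.fibre M u = ((lset S.tau u).filter fun m =>
      bif (qorb r).contains m then decide (S.Orb M r) else decide (S.Orb M (r ^^^ 1))).toFinset := by
    ext m
    rw [S.mem_fibre, List.mem_toFinset, List.mem_filter]
    constructor
    · rintro ⟨hm, hmu, ho⟩
      have hl := (S.line u hu m hm hmu).1 (S.orb_cl ho).1
      exact ⟨hl, (key m hl).1 ho⟩
    · rintro ⟨hl, h⟩
      exact ⟨(hall m hl).1, (hall m hl).2.1, (key m hl).2 h⟩
  rw [e, List.toFinset_card_of_nodup (hnd.filter _)]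
  exact hcnt _ _

theorem fibre_pf_eq {u : ℕ} (hu : u < 64) (hpf : pfB u = true) :
    ∃ x y : Bool, ∀ k < 32, (S.Orb M (32 * u ^^^ k) ↔ (bif wt (32 * u ^^^ k) == 10 then x else y) = true) ∧
      (S.fibre M u).card = 16 * b2n x + 16 * b2n y := by
  classical
  have hw := pf_weights u hu hpf
  have horb : ∀ k < 32, ∀ k' < 32, wt (32 * u ^^^ k) = wt (32 * u ^^^ k') →
      S.Orb M (32 * u ^^^ k) → S.Orb M (32 * u ^^^ k') := fun k hk k' hk' e h =>
    S.orb_qorb hM h (pf_orbit u (List.mem_range.2 hu) hpf k (List.mem_range.2 hk) k' (List.mem_range.2 hk') e)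
  let x : Bool := decide (∃ k < 32, wt (32 * u ^^^ k) = 10 ∧ S.Orb M (32 * u ^^^ k))
  let y : Bool := decide (∃ k < 32, wt (32 * u ^^^ k) = 6 ∧ S.Orb M (32 * u ^^^ k))
  have hiff : ∀ k < 32, (S.Orb M (32 * u ^^^ k) ↔ (bif wt (32 * u ^^^ k) == 10 then x else y) = true) := by
    intro k hk
    rcases hw k hk with e | e <;> rw [e] <;>
      simp only [show ((6 : ℕ) == 10) = false from rfl, show ((10 : ℕ) == 10) = true from rfl, cond_true,
        cond_false, x, y, decide_eq_true_iff] <;>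
      exact ⟨fun h => ⟨k, hk, e, h⟩, fun ⟨k', hk', e', h⟩ => horb k' hk' k hk (e'.trans e.symm) h⟩
  refine ⟨x, y, fun k hk => ⟨hiff k hk, ?_⟩⟩
  have hs : ∀ k < 32, (32 * u ^^^ k) < 2048 ∧ (32 * u ^^^ k) >>> 5 = u := fun k hk => by
    refine ⟨Nat.xor_lt_two_pow (n := 11) (by omega) (by omega), ?_⟩
    rw [Nat.shiftRight_xor_distrib, show k >>> 5 = 0 by rw [Nat.shiftRight_eq_div_pow]; omega,
      Nat.xor_zero, Nat.shiftRight_eq_div_pow]
    omega
  have e : S.fibre M u = ((List.range 32).filter fun k =>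
      bif wt (32 * u ^^^ k) == 10 then x else y).toFinset.image (fun k => 32 * u ^^^ k) := by
    ext m
    simp only [S.mem_fibre, Finset.mem_image, List.mem_toFinset, List.mem_filter, List.mem_range]
    constructor
    · rintro ⟨hm, hmu, ho⟩
      have hlt : 32 * u ^^^ m < 32 := by
        have e0 : (32 * u ^^^ m) >>> 5 = 0 := by
          rw [Nat.shiftRight_xor_distrib, hmu, show (32 * u) >>> 5 = u by
            rw [Nat.shiftRight_eq_div_pow]; omega, Nat.xor_self]
        rw [Nat.shiftRight_eq_div_pow] at e0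
        omega
      have em : 32 * u ^^^ (32 * u ^^^ m) = m := by rw [← Nat.xor_assoc, Nat.xor_self, Nat.zero_xor]
      exact ⟨32 * u ^^^ m, ⟨hlt, (hiff _ hlt).1 (by rwa [em])⟩, em⟩
    · rintro ⟨k, ⟨hk, h⟩, rfl⟩
      exact ⟨(hs k hk).1, (hs k hk).2, (hiff k hk).2 h⟩
  rw [e, Finset.card_image_of_injective _ (fun a b h => by
      have := congrArg (fun w => 32 * u ^^^ w) h
      simpa [← Nat.xor_assoc] using this), List.toFinset_card_of_nodup (List.nodup_range.filter _)]
  exact pf_count u hu hpf x y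

theorem fibre_one_pos : (S.fibre M 1).card ≠ 0 := by
  have h4 : S.Orb M 4 := S.orb_small hM 4 (by norm_num) (by norm_num)
  have ho := S.orb_move hM.s h4 (S.swap 4)
  have hval : sop S.L S.b 4 = 4 ^^^ 32 ^^^ 2 * b2n (S.b.testBit 0) := by
    simp [sop, simg, comboAux]
  refine Finset.card_ne_zero.2 ⟨_, S.mem_fibre.2 ⟨?_, ?_, ho⟩⟩ <;> rw [hval] <;>
    cases S.b.testBit 0 <;> decide

theorem counts : (S.fibre M 1).card = 8 ∧ (S.fibre M 33).card = 16 := by
  classical
  have hline : ∀ u ∈ lineList, (S.fibre M u).card = (S.fibre M 1).card := fun u hu =>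
    (S.fibre_reach hM tvAll (fun _ h => h) 1 (by norm_num) 5 u (reach_line u hu)).2
  have hpf : ∀ u < 64, pfB u = true → (S.fibre M u).card = (S.fibre M 33).card := fun u hu h =>
    (S.fibre_reach hM tvAll (fun _ h => h) 33 (by norm_num) 5 u (reach_pf u hu h)).2
  have hx : (S.fibre M 1).card ∈ [0, 4, 8] := S.fibre_line hM (by decide)
  have hy : (S.fibre M 33).card ∈ [0, 16, 32] := by
    obtain ⟨x, y, h⟩ := S.fibre_pf_eq hM (u := 33) (by norm_num) (by decide)
    rw [(h 0 (by norm_num)).2]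
    cases x <;> cases y <;> decide
  set O := (Finset.range 2048).filter fun m => S.Orb M m with hO
  have hcard : O.card = 31 + 35 * (S.fibre M 1).card + 28 * (S.fibre M 33).card := by
    rw [Finset.card_eq_sum_card_fiberwise (f := fun m => m >>> 5) (t := Finset.range 64)
      (fun m hm => Finset.mem_range.2 (shift5_lt (Finset.mem_range.1 (Finset.mem_filter.1 hm).1)))]
    refine Eq.trans ?_ (count_check _ hx _ hy)
    rw [← List.sum_toFinset _ List.nodup_range, List.toFinset_range]
    refine Finset.sum_congr rfl fun u hu => ?_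
    have hu' : u < 64 := Finset.mem_range.1 hu
    have e : O.filter (fun m => m >>> 5 = u) = S.fibre M u := by
      ext m; simp [hO, S.mem_fibre, and_assoc, and_left_comm, and_comm]
    rw [e]
    by_cases h0 : u = 0
    · subst h0; rw [if_pos rfl, S.fibre_zero hM]
    rw [if_neg h0]
    by_cases hp : pfB u = true
    · rw [if_pos hp, hpf u hu' hp]
    · rw [if_neg hp, hline u (by
        by_contra hn
        exact hp ((line_or_pf u hu' h0).2 hn))]
  -- the orbit in the automorphism group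
  set N := Subgroup.normalizer (AA D : Set G)
  let ρ : ↥M →* MulAut ↥(AA D) := (Subgroup.normalizerMonoidHom (AA D)).comp (Subgroup.inclusion hM.le)
  let z0 : ↥(AA D) := ⟨D.z, S.F.z_mem⟩
  have horb : Nat.card (MulAction.orbit ↥ρ.range z0) = O.card := by
    have hz : ∀ n : ↥M, ((ρ n) z0 : G) = n * D.z * (n : G)⁻¹ := fun n => rfl
    rw [← Nat.card_eq_finsetCard]
    refine (Nat.card_congr (Equiv.ofBijective
      (fun m : O => (⟨⟨S.F.phi m, S.F.phi_mem m⟩, ?_⟩ : MulAction.orbit ↥ρ.range z0)) ⟨?_, ?_⟩)).symm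
    · obtain ⟨n, hn, e⟩ := (Finset.mem_filter.1 m.2).2
      exact ⟨⟨ρ ⟨n, hn⟩, ⟨n, hn⟩, rfl⟩, Subtype.ext ((hz ⟨n, hn⟩).trans e)⟩
    · intro a b h
      exact Subtype.ext (S.F.phi_inj (Finset.mem_range.1 (Finset.mem_filter.1 a.2).1)
        (Finset.mem_range.1 (Finset.mem_filter.1 b.2).1) (congrArg (fun w => ((w.1 : ↥(AA D)) : G)) h))
    · rintro ⟨w, ⟨⟨_, n, rfl⟩, hw⟩⟩
      obtain ⟨m, hm, e⟩ := S.F.phi_surj w.2
      refine ⟨⟨m, Finset.mem_filter.2 ⟨Finset.mem_range.2 hm, n, n.2, ?_⟩⟩, Subtype.ext (Subtype.ext e)⟩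
      rw [e, ← hz n]
      exact congrArg Subtype.val hw
  have hdvd : O.card ∣ Nat.card ↥ρ.range := by
    rw [← horb]
    rw [Nat.card_congr (MulAction.orbitEquivQuotientStabilizer ↥ρ.range z0)]
    exact Dvd.intro _ (Subgroup.card_eq_card_quotient_mul_card_subgroup _).symm
  have hex : ∀ p ∈ [19, 311, 619, 97, 71], p ∣ O.card → False := fun p hp h =>
    fixed_prime S.F.card_AA
      ((by decide +kernel : ∀ p ∈ [19, 311, 619, 97, 71], Nat.Prime p) p hp)
      (prime_check p hp) (h.trans hdvd)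
  have h1 := S.fibre_one_pos hM
  simp only [List.mem_cons, List.not_mem_nil, or_false] at hx hy
  rcases hx with hx | hx | hx <;> rcases hy with hy | hy | hy <;> rw [hx, hy] at hcard
  all_goals first
    | exact ⟨hx, hy⟩
    | exact absurd hx h1
    | (refine (hex 19 (by decide) ?_).elim; rw [hcard] <;> decide)
    | (refine (hex 311 (by decide) ?_).elim; rw [hcard] <;> decide)
    | (refine (hex 619 (by decide) ?_).elim; rw [hcard] <;> decide)
    | (refine (hex 97 (by decide) ?_).elim; rw [hcard] <;> decide)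
    | (refine (hex 71 (by decide) ?_).elim; rw [hcard] <;> decide)

end Setup

end Cfsg.Lib.CoOneLocal
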