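import Cfsg.Agent.Lib.CoOneLocal.Space
import Cfsg.Agent.Lib.Extra.Wide.Main

/-!
# The centralizer of the preimage of a maximal totally singular subspace is abelian

In suitable coordinates the centralizer of the preimage of the first half is elementary abelian.
-/

set_option autoImplicit false
set_option linter.style.haveILetI false

namespace Cfsg.Lib.CoOneLocal

open Cfsg Module Cfsg.Lib.Linear.Orth Cfsg.Lib.Extra.Wide
open scoped Matrix

theorem xor_closed_all {P : ℕ → Prop} (h0 : P 0) (hx : ∀ a b, a < 64 → b < 64 → P a → P b → P (a ^^^ b))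
    (h1 : P 1) (h2 : P 2) (h4 : P 4) (h8 : P 8) (h16 : P 16) (h32 : P 32) : ∀ u < 64, P u := by
  have e : ∀ u : Fin 64, ((u.val &&& 1 ^^^ u.val &&& 2) ^^^ (u.val &&& 4 ^^^ u.val &&& 8)) ^^^
      (u.val &&& 16 ^^^ u.val &&& 32) = u.val ∧ (u.val &&& 1 = 0 ∨ u.val &&& 1 = 1) ∧
      (u.val &&& 2 = 0 ∨ u.val &&& 2 = 2) ∧ (u.val &&& 4 = 0 ∨ u.val &&& 4 = 4) ∧
      (u.val &&& 8 = 0 ∨ u.val &&& 8 = 8) ∧ (u.val &&& 16 = 0 ∨ u.val &&& 16 = 16) ∧
      (u.val &&& 32 = 0 ∨ u.val &&& 32 = 32) := by decide +kernel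
  intro u hu
  obtain ⟨e0, e1, e2, e3, e4, e5, e6⟩ := e ⟨u, hu⟩
  have hp : ∀ {x k : ℕ}, x = 0 ∨ x = k → P k → P x := fun h hk => h.elim (· ▸ h0) (· ▸ hk)
  have hl : ∀ k, u &&& k < 64 := fun k => lt_of_le_of_lt Nat.and_le_left hu
  have hb : ∀ {a b : ℕ}, a < 64 → b < 64 → a ^^^ b < 64 := fun ha hb =>
    Nat.xor_lt_two_pow (n := 6) ha hb
  simp only at e0 e1 e2 e3 e4 e5 e6
  rw [← e0]
  exact hx _ _ (hb (hb (hl _) (hl _)) (hb (hl _) (hl _))) (hb (hl _) (hl _))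
    (hx _ _ (hb (hl _) (hl _)) (hb (hl _) (hl _)) (hx _ _ (hl _) (hl _) (hp e1 h1) (hp e2 h2))
      (hx _ _ (hl _) (hl _) (hp e3 h4) (hp e4 h8)))
    (hx _ _ (hl _) (hl _) (hp e5 h16) (hp e6 h32))

theorem perp_low : ∀ b : Fin 16, dot 1 b = 0 → dot 2 b = 0 → dot 4 b = 0 → b.val = 0 ∨ b.val = 8 := by
  decide +kernel

theorem dot_eight : ∀ a : Fin 16, dot a 8 = 0 → a.val < 8 := by decide +kernel

theorem wedge_lt : ∀ a b : Fin 16, wedge a b < 64 := by decide +kernel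

theorem wedge_lt' {a b : ℕ} (ha : a < 16) (hb : b < 16) : wedge a b < 64 := wedge_lt ⟨a, ha⟩ ⟨b, hb⟩

theorem alt_code_aux : ∀ f : Fin 6 → ZMod 2, ∃ u : Fin 64,
    (fun k => ![nN u 0 1, nN u 0 2, nN u 0 3, nN u 1 2, nN u 1 3, nN u 2 3] k) = f := by
  decide +kernel

theorem alt_code (a b c d e f : ZMod 2) : ∃ u : Fin 64,
    nN u 0 1 = a ∧ nN u 0 2 = b ∧ nN u 0 3 = c ∧ nN u 1 2 = d ∧ nN u 1 3 = e ∧ nN u 2 3 = f := by
  obtain ⟨u, h⟩ := alt_code_aux ![a, b, c, d, e, f]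
  exact ⟨u, congrFun h 0, congrFun h 1, congrFun h 2, congrFun h 3, congrFun h 4, congrFun h 5⟩

theorem nN_symm (u : ℕ) (i j : Fin 4) : nN u i j = nN u j i := by
  simp only [nN, eq_comm (a := i), or_comm (a := i.val = 0), add_comm i.val]

theorem nN_diag (u : ℕ) (i : Fin 4) : nN u i i = 0 := by simp [nN]

theorem exists_alt (M : Fin 4 → Fin 4 → ZMod 2) (hd : ∀ i, M i i = 0)
    (hs : ∀ i j, M i j = M j i) : ∃ u < 64, ∀ i j, nN u i j = M i j := by
  obtain ⟨u, h1, h2, h3, h4, h5, h6⟩ := alt_code (M 0 1) (M 0 2) (M 0 3) (M 1 2) (M 1 3) (M 2 3)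
  refine ⟨u, u.2, fun i j => ?_⟩
  fin_cases i <;> fin_cases j <;>
    first
      | (rw [nN_diag, hd])
      | assumption
      | (rw [nN_symm, hs]; assumption)

theorem single_inl : ∀ i : Fin 4, ve (2 ^ i.val) = Pi.single (Sum.inl i) 1 := by decide +kernel

theorem single_inr : ∀ i : Fin 4, vf (2 ^ i.val) = Pi.single (Sum.inr i) 1 := by decide +kernel

theorem dot_pow : ∀ (a : Fin 16) (i : Fin 4), dot a (2 ^ i.val) = ev a i := by decide +kernel

variable {G : Type*} [Group G] {D : Data G I8}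

/-- The preimage of the first half. -/
def WS (D : Data G I8) : Subgroup G where
  carrier := {q | q ∈ D.Q ∧ ∃ a < 16, D.cls q = ve a}
  one_mem' := ⟨one_mem _, 0, by norm_num, by rw [D.cls_one, ve_zero]⟩
  mul_mem' := by
    rintro x y ⟨hx, a, ha, ea⟩ ⟨hy, b, hb, eb⟩
    exact ⟨mul_mem hx hy, a ^^^ b, Nat.xor_lt_two_pow (n := 4) ha hb,
      by rw [D.cls_mul _ hx _ hy, ea, eb, ve_xor]⟩
  inv_mem' := by
    rintro x ⟨hx, a, ha, ea⟩
    exact ⟨inv_mem hx, a, ha, by rw [D.cls_inv hx, ea]⟩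

/-- The centralizer of the preimage of the first half. -/
def AA (D : Data G I8) : Subgroup G := Subgroup.centralizer (WS D : Set G)

theorem mem_AA {g : G} : g ∈ AA D ↔ ∀ w ∈ WS D, Commute g w := by
  rw [AA, Subgroup.mem_centralizer_iff]
  exact ⟨fun h w hw => (h w hw).symm, fun h w hw => (h w hw).symm.eq⟩

theorem z_mem_WS : D.z ∈ WS D := ⟨D.ctx.mem, 0, by norm_num, by rw [D.cls_z, ve_zero]⟩

theorem AA_comm_z {g : G} (hg : g ∈ AA D) : Commute g D.z := mem_AA.1 hg _ z_mem_WS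

variable (hq : D.qf = Cfsg.quadFormPlus 4 (ZMod 2))
include hq

theorem WS_comm {v w : G} (hv : v ∈ WS D) (hw : w ∈ WS D) : Commute v w := by
  obtain ⟨hv, a, -, ea⟩ := hv
  obtain ⟨hw, b, -, eb⟩ := hw
  exact (D.cls_comm v hv w hw).2 (by rw [ea, eb, B_ve_ve hq])

theorem WS_le_AA : WS D ≤ AA D := fun v hv => mem_AA.2 fun w hw => WS_comm hq hv hw

theorem WS_sq {w : G} (hw : w ∈ WS D) : w * w = 1 := by
  obtain ⟨hw, a, -, ea⟩ := hw
  exact (D.cls_sq w hw).2 (by rw [ea, qf_ve hq])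

theorem WS_of_perp {q : G} (hq' : q ∈ D.Q) (h : ∀ w ∈ WS D, Commute q w) : q ∈ WS D := by
  obtain ⟨a, b, ha, hb, e⟩ := exists_code (D.cls q)
  have hb0 : b = 0 := by
    have hz : ∀ i : Fin 4, ev b i = 0 := fun i => by
      obtain ⟨w, hw, ew⟩ := D.cls_surj (ve (2 ^ i.val))
      have hw' : w ∈ WS D := ⟨hw, 2 ^ i.val, by
        calc 2 ^ i.val < 2 ^ 4 := Nat.pow_lt_pow_right (by norm_num) i.2
          _ = 16 := by norm_num, ew⟩
      have := (D.cls_comm q hq' w hw).1 (h w hw')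
      rw [e, ew, map_add, LinearMap.add_apply, B_ve_ve hq, zero_add, B_vf_ve hq] at this
      rw [← this]
      exact (dot_pow ⟨b, hb⟩ i).symm
    exact congrArg Fin.val (ev_inj ⟨b, hb⟩ 0 (by rw [Fin.val_zero, ev_zero]; exact funext hz))
  refine ⟨hq', a, ha, ?_⟩
  rw [e, hb0, vf_zero, add_zero]

/-- The action of an element of the centralizer is in the radical. -/
theorem act_AA {g : G} (hg : g ∈ AA D) : ∃ u < 64, D.act g = nU u := by
  have hgz := AA_comm_z hg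
  have hiso := D.act_iso hgz
  have hfix : ∀ a < 16, (D.act g).val *ᵥ ve a = ve a := fun a ha => by
    obtain ⟨w, hw, ew⟩ := D.cls_surj (ve a)
    rw [← ew, ← D.act_cls g hgz w hw, (mem_AA.1 hg w ⟨hw, a, ha, ew⟩).eq, mul_inv_cancel_right]
  have hpow : ∀ i : Fin 4, 2 ^ i.val < 16 := fun i => by
    calc 2 ^ i.val < 2 ^ 4 := Nat.pow_lt_pow_right (by norm_num) i.2
      _ = 16 := by norm_num
  let M : Fin 4 → Fin 4 → ZMod 2 := fun i j => ((D.act g).val *ᵥ vf (2 ^ j.val)) (.inl i)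
  have hinr : ∀ j k : Fin 4, ((D.act g).val *ᵥ vf (2 ^ j.val)) (.inr k) = vf (2 ^ j.val) (.inr k) := by
    intro j k
    have e : ∀ x : V8, bf (ve (2 ^ k.val)) x = x (.inr k) := fun x => by
      rw [single_inl, bf]
      simp [Pi.single_apply]
    rw [← e ((D.act g).val *ᵥ vf (2 ^ j.val)), ← e (vf (2 ^ j.val)), ← B_eq hq, ← B_eq hq]
    conv_lhs => rw [← hfix _ (hpow k)]
    rw [D.space.B_act hiso]
  have hcol : ∀ j, (D.act g).val *ᵥ vf (2 ^ j.val) = Sum.elim (fun i => M i j) (ev (2 ^ j.val)) := by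
    intro j
    funext k
    cases k with
    | inl k => rfl
    | inr k => rw [hinr]; rfl
  have hev : ∀ i k : Fin 4, ev (2 ^ i.val) k = if k = i then 1 else 0 := by decide +kernel
  obtain ⟨u, hu, hN⟩ := exists_alt M (fun i => by
      have h := mem_iso.1 hiso (vf (2 ^ i.val))
      rw [hcol, qf_vf hq, hq] at h
      simpa [Cfsg.quadFormPlus, hev] using h)
    (fun i j => by
      have h := D.space.B_act hiso (vf (2 ^ j.val)) (vf (2 ^ i.val))
      rw [hcol, hcol, B_vf_vf hq, B_eq hq] at h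
      simp [bf, hev, Finset.sum_add_distrib] at h
      exact bit_eq_of_add h)
  refine ⟨u, hu, Units.ext (Matrix.ext_of_mulVec_single fun k => ?_)⟩
  cases k with
  | inl i =>
    rw [← single_inl, hfix _ (hpow i)]
    exact (nU_ve u _).symm
  | inr j =>
    rw [← single_inr, hcol]
    funext k
    cases k with
    | inl k =>
      show M k j = ((nU u).val *ᵥ vf (2 ^ j.val)) (.inl k)
      rw [nU_inl]
      simp [vf, hev, hN]
    | inr k =>
      show ev (2 ^ j.val) k = ((nU u).val *ᵥ vf (2 ^ j.val)) (.inr k)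
      rw [nU_inr]; rfl

variable [Finite G]

theorem exists_T {a : ℕ} (ha0 : a ≠ 0) (ha : a < 16) : ∃ t, D.Point t ∧ D.cls t = ve a :=
  D.exists_point_of (qf_ve hq a) fun h => ha0 (ve_inj ha (by norm_num) (h.trans ve_zero.symm))

/-- The radical elements of a point of the first half with label there. -/
theorem pq_mem {t y : G} {a b : ℕ} (hp : D.Point t) (ht : D.cls t = ve a) (hy : D.InPQ t y)
    (hyv : D.act y = sGL D.qf D.B (D.cls t) (ve b)) : y ∈ AA D := by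
  refine mem_AA.2 ?_
  rintro w ⟨hw, c, -, ec⟩
  exact (hp.comm ((hp.inCQ_iff hw).2 (by rw [ht, ec, B_ve_ve hq])) hy (by rw [ht, B_ve_ve hq]) hyv).1
    (by rw [ec, B_ve_ve hq])

theorem exists_pq {t : G} {a b : ℕ} (hp : D.Point t) (ht : D.cls t = ve a) (ha : a < 16) (hb : b < 16) :
    ∃ y, D.InPQ t y ∧ y ∈ AA D ∧ D.act y = sGL D.qf D.B (D.cls t) (ve b) ∧
      D.act y = nU (wedge a b) := by
  obtain ⟨y, hy, hyv⟩ := hp.exists_label (v := ve b) (by rw [ht, B_ve_ve hq])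
  exact ⟨y, hy, pq_mem hq hp ht hy hyv, hyv, by rw [hyv, ht, sGL_ve hq ha hb]⟩

theorem exists_act : ∀ u < 64, ∃ g ∈ AA D, D.act g = nU u := by
  have hb : ∀ a b, a ≠ 0 → a < 16 → b < 16 → ∃ g ∈ AA D, D.act g = nU (wedge a b) := by
    intro a b ha0 ha hb
    obtain ⟨t, hp, ht⟩ := exists_T hq ha0 ha
    obtain ⟨y, -, hy, -, e⟩ := exists_pq hq hp ht ha hb
    exact ⟨y, hy, e⟩
  refine xor_closed_all ⟨1, one_mem _, by rw [D.act_one, nU_zero]⟩ ?_ ?_ ?_ ?_ ?_ ?_ ?_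
  · rintro a b - - ⟨g, hg, eg⟩ ⟨h, hh, eh⟩
    exact ⟨g * h, mul_mem hg hh, by rw [D.act_mul _ _ (AA_comm_z hg) (AA_comm_z hh), eg, eh, nU_xor]⟩
  · exact hb 1 2 (by norm_num) (by norm_num) (by norm_num)
  · exact hb 1 4 (by norm_num) (by norm_num) (by norm_num)
  · exact hb 1 8 (by norm_num) (by norm_num) (by norm_num)
  · exact hb 2 4 (by norm_num) (by norm_num) (by norm_num)
  · exact hb 2 8 (by norm_num) (by norm_num) (by norm_num)
  · exact hb 4 8 (by norm_num) (by norm_num) (by norm_num)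

omit [Finite G] in
theorem diff_WS {g h : G} (hg : g ∈ AA D) (hh : h ∈ AA D) (e : D.act g = D.act h) :
    g * h⁻¹ ∈ WS D := by
  refine WS_of_perp hq ((D.act_ker _ ((AA_comm_z hg).mul_left (AA_comm_z hh).inv_left)).1 ?_)
    (mem_AA.1 (mul_mem hg (inv_mem hh)))
  rw [D.act_mul _ _ (AA_comm_z hg) (AA_comm_z hh).inv_left, D.act_inv (AA_comm_z hh), e, mul_inv_cancel]

omit hq [Finite G]

/-- Two elements of the radical commute, whatever the representatives. -/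
def Com (D : Data G I8) (u v : ℕ) : Prop :=
  ∀ g ∈ AA D, ∀ h ∈ AA D, D.act g = nU u → D.act h = nU v → Commute g h

theorem Com.symm {u v : ℕ} (h : Com D u v) : Com D v u :=
  fun g hg k hk eg ek => (h k hk g hg ek eg).symm

include hq

theorem com_of {g h : G} {u v : ℕ} (hg : g ∈ AA D) (hh : h ∈ AA D) (eg : D.act g = nU u)
    (eh : D.act h = nU v) (hc : Commute g h) : Com D u v := by
  intro g' hg' h' hh' eg' eh'
  have hw := diff_WS hq hg' hg (eg'.trans eg.symm)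
  have hw' := diff_WS hq hh' hh (eh'.trans eh.symm)
  rw [show g' = g' * g⁻¹ * g by group, show h' = h' * h⁻¹ * h by group]
  exact (((mem_AA.1 (WS_le_AA hq hw) _ hw')).mul_right (mem_AA.1 hh _ hw).symm).mul_left
    ((mem_AA.1 hg _ hw').mul_right hc)

variable [Finite G]

theorem com_xor {u w v : ℕ} (hu : u < 64) (hw : w < 64) (hv : v < 64) (h1 : Com D u v)
    (h2 : Com D w v) : Com D (u ^^^ w) v := by
  obtain ⟨g, hg, eg⟩ := exists_act hq u hu
  obtain ⟨k, hk, ek⟩ := exists_act hq w hw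
  obtain ⟨h, hh, eh⟩ := exists_act hq v hv
  exact com_of hq (mul_mem hg hk) hh
    (by rw [D.act_mul _ _ (AA_comm_z hg) (AA_comm_z hk), eg, ek, nU_xor]) eh
    ((h1 g hg h hh eg eh).mul_left (h2 k hk h hh ek eh))

theorem com_share {a b c : ℕ} (ha0 : a ≠ 0) (ha : a < 16) (hb : b < 16) (hc : c < 16) :
    Com D (wedge a b) (wedge a c) := by
  obtain ⟨t, hp, ht⟩ := exists_T hq ha0 ha
  obtain ⟨y, hy, hyA, hyv, ey⟩ := exists_pq hq hp ht ha hb
  obtain ⟨y', hy', hyA', hyv', ey'⟩ := exists_pq hq hp ht ha hc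
  refine com_of hq hyA hyA' ey ey' ?_
  have h := hp.swap_pq hy hy' (by rw [ht, B_ve_ve hq]) (by rw [ht, B_ve_ve hq]) hyv hyv'
  rw [B_ve_ve hq] at h
  simpa [Data.zt, Commute, SemiconjBy] using h

theorem com_all (h48 : Com D 4 8) : ∀ u < 64, ∀ v < 64, Com D u v := by
  have sh : ∀ a b c : Fin 16, a.val ≠ 0 → Com D (wedge a b) (wedge a c) :=
    fun a b c h => com_share hq h a.2 b.2 c.2
  have h20_8 : Com D 20 8 :=
    com_xor hq (u := 4) (w := 16) (by norm_num) (by norm_num) (by norm_num) h48 (sh 2 8 4 (by decide))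
  have h20_2 : Com D 20 2 := by
    have h : Com D 20 10 := sh 3 8 4 (by decide)
    exact (com_xor hq (u := 10) (w := 8) (by norm_num) (by norm_num) (by norm_num) h.symm
      h20_8.symm).symm
  have h16_2 : Com D 16 2 :=
    com_xor hq (u := 20) (w := 4) (by norm_num) (by norm_num) (by norm_num) h20_2 (sh 1 8 4 (by decide))
  have h36_8 : Com D 36 8 :=
    com_xor hq (u := 4) (w := 32) (by norm_num) (by norm_num) (by norm_num) h48 (sh 4 8 2 (by decide))
  have h36_1 : Com D 36 1 := by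
    have h : Com D 36 9 := sh 5 8 2 (by decide)
    exact (com_xor hq (u := 9) (w := 8) (by norm_num) (by norm_num) (by norm_num) h.symm
      h36_8.symm).symm
  have h32_1 : Com D 32 1 :=
    com_xor hq (u := 36) (w := 4) (by norm_num) (by norm_num) (by norm_num) h36_1 (sh 1 8 2 (by decide))
  have hbasis : ∀ u ∈ [1, 2, 4, 8, 16, 32], ∀ v ∈ [1, 2, 4, 8, 16, 32], Com D u v := by
    simp only [List.mem_cons, List.not_mem_nil, or_false]
    rintro u (rfl | rfl | rfl | rfl | rfl | rfl) v (rfl | rfl | rfl | rfl | rfl | rfl)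
    exacts [sh 1 2 2 (by decide), sh 1 2 4 (by decide), sh 1 2 8 (by decide), sh 2 1 4 (by decide),
      sh 2 1 8 (by decide), h32_1.symm,
      sh 1 4 2 (by decide), sh 1 4 4 (by decide), sh 1 4 8 (by decide), sh 4 1 2 (by decide),
      h16_2.symm, sh 4 1 8 (by decide),
      sh 1 8 2 (by decide), sh 1 8 4 (by decide), sh 1 8 8 (by decide), h48, sh 8 1 2 (by decide),
      sh 8 1 4 (by decide),
      sh 2 4 1 (by decide), sh 4 2 1 (by decide), h48.symm, sh 2 4 4 (by decide), sh 2 4 8 (by decide),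
      sh 4 2 8 (by decide),
      sh 2 8 1 (by decide), h16_2, sh 8 2 1 (by decide), sh 2 8 4 (by decide), sh 2 8 8 (by decide),
      sh 8 2 4 (by decide),
      h32_1, sh 4 8 1 (by decide), sh 8 4 1 (by decide), sh 4 8 2 (by decide), sh 8 4 2 (by decide),
      sh 4 8 8 (by decide)]
  have h0 : ∀ v < 64, Com D 0 v := fun v hv => by
    obtain ⟨h, hh, eh⟩ := exists_act hq v hv
    exact com_of hq (one_mem _) hh (by rw [D.act_one, nU_zero]) eh (Commute.one_left h)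
  have hrow : ∀ v ∈ [1, 2, 4, 8, 16, 32], ∀ u < 64, Com D u v := fun v hv => by
    have hv64 : v < 64 := by
      simp only [List.mem_cons, List.not_mem_nil, or_false] at hv
      omega
    exact xor_closed_all (P := fun u => Com D u v) (h0 v hv64)
      (fun a b ha hb => com_xor hq ha hb hv64)
      (hbasis 1 (by decide) v hv) (hbasis 2 (by decide) v hv) (hbasis 4 (by decide) v hv)
      (hbasis 8 (by decide) v hv) (hbasis 16 (by decide) v hv) (hbasis 32 (by decide) v hv)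
  intro u hu v hv
  exact (xor_closed_all (P := fun w => Com D w u) (h0 u hu) (fun a b ha hb => com_xor hq ha hb hu)
    (hrow 1 (by decide) u hu).symm (hrow 2 (by decide) u hu).symm (hrow 4 (by decide) u hu).symm
    (hrow 8 (by decide) u hu).symm (hrow 16 (by decide) u hu).symm (hrow 32 (by decide) u hu).symm
    v hv).symm

omit [Finite G] in
theorem abelian_of_com (h : ∀ u < 64, ∀ v < 64, Com D u v) :
    ∀ g ∈ AA D, ∀ k ∈ AA D, Commute g k := fun g hg k hk => by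
  obtain ⟨u, hu, eu⟩ := act_AA hq hg
  obtain ⟨v, hv, ev'⟩ := act_AA hq hk
  exact h u hu v hv g hg k hk eu ev'

omit hq

/-- Two labels with a single commutation. -/
theorem core (hq : D.qf = Cfsg.quadFormPlus 4 (ZMod 2)) {t t2 s x0 : G} (hp : D.Point t)
    (hp2 : D.Point t2) (ht : D.cls t = ve 1) (ht2 : D.cls t2 = ve 2) (hs : s ∈ D.Qof t)
    (hsz : s * D.z * s⁻¹ = D.z * t) (hx0 : D.InPQ t2 x0)
    (hx0v : D.act x0 = sGL D.qf D.B (D.cls t2) (ve 4)) :
    ∃ y L, D.InPQ t y ∧ D.act y = sGL D.qf D.B (D.cls t) L ∧ D.B (D.cls t) L = 0 ∧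
      D.B (ve 2) L = 0 ∧ D.B (ve 4) L = 0 ∧ D.qf L = 0 ∧ Commute x0 y ∧
      (D.B (ve 8) L = 0 → ∀ Y, D.InPQ t Y → D.act Y = sGL D.qf D.B (D.cls t) (ve 8) → Commute x0 Y) := by
  have hind : ∀ i j k : ZMod 2, i • ve 1 + j • ve 2 + k • ve 4 = 0 → i = 0 ∧ j = 0 ∧ k = 0 := by
    intro i j k h
    have h0 := congrFun h (Sum.inl 0)
    have h1 := congrFun h (Sum.inl 1)
    have h2 := congrFun h (Sum.inl 2)
    simp [ve, ev, Nat.testBit] at h0 h1 h2
    exact ⟨h0, h1, h2⟩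
  have S : D.Four t t2 x0 (ve 4) := ⟨hp, hp2, by rw [ht, ht2, B_ve_ve hq], by rw [ht, B_ve_ve hq],
    by rw [ht2, B_ve_ve hq], qf_ve hq 4, by rw [ht, ht2]; exact hind, hx0, hx0v⟩
  have h0z := hx0.2
  have h0t := S.comm_t
  have h0i : x0⁻¹ = x0 := inv_eq_of_mul_eq_one_right S.sq
  obtain ⟨hxz, hxt, -⟩ := hp.swap_act hs hsz h0z h0t
  set x := s * x0 * s⁻¹ with hx
  have hxx : x * x = 1 := by
    rw [hx, show s * x0 * s⁻¹ * (s * x0 * s⁻¹) = s * (x0 * x0) * s⁻¹ by group, S.sq]; group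
  set y := x * x0⁻¹ with hy
  have hyP : D.InPQ t y := by
    refine ⟨?_, hxz.mul_left h0z.inv_left⟩
    rw [show y = s * (x0 * s⁻¹ * x0⁻¹) by rw [hy, hx]; group]
    refine mul_mem hs ?_
    have h := D.Qof_conj hp.cl x0 (inv_mem hs)
    rwa [h0t.eq, mul_inv_cancel_right] at h
  have hxe : x = y * x0 := by rw [hy]; group
  obtain ⟨L, hL, hyL⟩ := hp.label hyP
  have hconj : x0 * y * x0⁻¹ = y⁻¹ := by
    rw [hxe] at hxx
    rw [h0i]
    exact (inv_eq_of_mul_eq_one_right (by rw [← hxx]; group)).symm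
  have hT : D.act x0 * sGL D.qf D.B (D.cls t) L * (D.act x0)⁻¹ = sGL D.qf D.B (D.cls t) L := by
    have e : D.act (x0 * y * x0⁻¹) = D.act y⁻¹ := by rw [hconj]
    rw [D.act_mul _ _ (h0z.mul_left hyP.2) h0z.inv_left, D.act_mul _ _ h0z hyP.2, D.act_inv h0z,
      D.act_inv hyP.2, hyL] at e
    rw [e, inv_eq_iff_mul_eq_one, sGL_mul D.space hp.cls_sing hL hL, vadd_self,
      ← zero_smul (ZMod 2) (D.cls t), siegel_zero D.space hp.cls_sing]
  rw [sGL_conj D.space hp.cls_sing hL (D.act_iso h0z), S.T_point] at hT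
  obtain ⟨α, hα⟩ := siegel_eq D.space hp.cls_sing hp.cls_ne hL (S.T_mem_perp hL) hT.symm
  rw [S.T_apply] at hα
  obtain ⟨hL2, hL4⟩ := S.coef hα
  have hy2 : Commute y t2 :=
    (hp.comm ((hp.inCQ_iff hp2.mem).2 S.p2perp) hyP hL hyL).1 hL2
  have he2 : y⁻¹ * y⁻¹ ∈ D.Qof t2 := by
    have h1 := D.Qof_conj hp2.cl y (inv_mem hx0.1)
    rw [hy2.eq, mul_inv_cancel_right] at h1
    rw [show y⁻¹ * y⁻¹ = x0 * (y * x0⁻¹ * y⁻¹) by
      rw [← mul_assoc, ← mul_assoc, hconj]]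
    exact mul_mem hx0.1 h1
  obtain ⟨hsq0, hsq1, -⟩ := hp.third hyP hL hyL
  have hQL : D.qf L = 0 := (bit _).resolve_right fun h => by
    rw [← mul_inv_rev, hsq1 h] at he2
    have ht' : t ∈ D.Qof t2 := inv_mem_iff.1 he2
    obtain ⟨β, hβ⟩ := hp2.cls_inA (hp2.inter hp.mem ht')
    exact one_ne_zero (S.ind 1 β 0 (by rw [one_smul, hβ, vadd_self, zero_smul, add_zero])).1
  have hyi : y⁻¹ = y := inv_eq_of_mul_eq_one_right (hsq0 hQL)
  have hcomm : Commute x0 y := mul_inv_eq_iff_eq_mul.1 (hconj.trans hyi)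
  rw [ht2] at hL2
  refine ⟨y, L, hyP, hyL, hL, hL2, hL4, hQL, hcomm, fun hL8 Y hY hYv => ?_⟩
  obtain ⟨a3, ha3, ea3⟩ := D.cls_surj (ve 8)
  have ha3t : D.InCQ t a3 := (hp.inCQ_iff ha3).2 (by rw [ea3, ht, B_ve_ve hq])
  have ha3t2 : D.InCQ t2 a3 := (hp2.inCQ_iff ha3).2 (by rw [ea3, ht2, B_ve_ve hq])
  have h03 : Commute x0 a3 := (hp2.comm ha3t2 hx0 S.v2perp2 hx0v).1 (by rw [ea3, B_ve_ve hq])
  have hy3 : Commute y a3 := (hp.comm ha3t hyP hL hyL).1 (by rw [ea3]; exact hL8)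
  have ha3z : Commute a3 D.z := (D.ctx.central a3 ha3).symm
  obtain ⟨h3z, -, -⟩ := hp.swap_act hs hsz ha3z ha3t.2
  set y3 := s * a3 * s⁻¹ * a3⁻¹ with hy3d
  have hy3P : D.InPQ t y3 := by
    refine ⟨?_, h3z.mul_left ha3z.inv_left⟩
    rw [show y3 = s * (a3 * s⁻¹ * a3⁻¹) by rw [hy3d]; group]
    refine mul_mem hs ?_
    have h := D.Qof_conj hp.cl a3 (inv_mem hs)
    rwa [ha3t.2.eq, mul_inv_cancel_right] at h
  have hy3v : D.act y3 = sGL D.qf D.B (D.cls t) (ve 8) := by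
    rw [hy3d, D.act_mul _ _ h3z ha3z.inv_left, D.act_inv ha3z, D.act_q ha3, inv_one, mul_one,
      hp.swap_q hs hsz ha3t, ea3]
  have hyy3 : Commute y y3 := by
    have h := hp.swap_pq hyP hy3P hL (by rw [ht, B_ve_ve hq]) hyL hy3v
    rw [D.space.symm, hL8] at h
    simpa [Data.zt, Commute, SemiconjBy] using h
  have hxy3 : Commute x y3 :=
    ((Commute.conj_iff s).2 h03).mul_right ((hxe ▸ hy3.mul_left h03 : Commute x a3)).inv_right
  have h0y3 : Commute x0 y3 := by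
    rw [show x0 = y⁻¹ * x by rw [hxe]; group]
    exact hyy3.inv_left.mul_left hxy3
  obtain ⟨e, he, rfl⟩ := hp.same_label hy3P hY (hy3v.trans hYv.symm)
  refine Commute.mul_right ?_ h0y3
  rcases he with rfl | rfl | rfl | rfl
  exacts [Commute.one_right _, h0z, h0t, h0z.mul_right h0t]

/-- Coordinates in which the centralizer of the first half is abelian. -/
theorem exists_abelian (D : Data G I8) (hq : D.qf = Cfsg.quadFormPlus 4 (ZMod 2)) :
    ∃ D' : Data G I8, D'.qf = Cfsg.quadFormPlus 4 (ZMod 2) ∧ D'.z = D.z ∧ D'.Q = D.Q ∧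
      ∀ g ∈ AA D', ∀ h ∈ AA D', Commute g h := by
  obtain ⟨t, hp, ht⟩ := exists_T hq (a := 1) (by norm_num) (by norm_num)
  obtain ⟨t2, hp2, ht2⟩ := exists_T hq (a := 2) (by norm_num) (by norm_num)
  obtain ⟨s, hs, hsz⟩ := (D.ctx_Qof hp.cl).exists_move hp.mem_snd D.ctx.ne_one hp.ne_z.symm
  rw [← hp.comm_zt.eq] at hsz
  obtain ⟨x0, hx0, hx0A, hx0v, ex0⟩ := exists_pq hq hp2 ht2 (b := 4) (by norm_num) (by norm_num)
  obtain ⟨y, L, hy, hyL, hL, hL2, hL4, hQL, hc, h3⟩ := core hq hp hp2 ht ht2 hs hsz hx0 hx0v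
  rcases bit (D.B (ve 8) L) with h8 | h8
  · obtain ⟨Y, hY, hYA, hYv, eY⟩ := exists_pq hq hp ht (b := 8) (by norm_num) (by norm_num)
    exact ⟨D, hq, rfl, rfl, abelian_of_com hq (com_all hq
      (com_of hq (u := 4) (v := 8) hYA hx0A eY ex0 (h3 h8 Y hY hYv).symm))⟩
  obtain ⟨a, b, ha, hb, rfl⟩ := exists_code L
  rw [ht, map_add, B_ve_ve hq, B_ve_vf hq, zero_add] at hL
  rw [map_add, B_ve_ve hq, B_ve_vf hq, zero_add] at hL2 hL4 h8
  have hb8 : b = 8 := by
    rcases perp_low ⟨b, hb⟩ hL hL2 hL4 with e | e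
    · have e' : b = 0 := e
      rw [e'] at h8
      exact absurd h8 (by decide)
    · exact e
  subst hb8
  have ha8 : a < 8 := by
    rw [D.space.add, qf_ve hq, qf_vf hq, B_ve_vf hq, zero_add, zero_add] at hQL
    exact dot_eight ⟨a, ha⟩ hQL
  set v := ve 8 + vf 8 with hvdef
  have hv1 : D.qf v = 1 := by
    rw [hvdef, D.space.add, qf_ve hq, qf_vf hq, B_ve_vf hq, zero_add, zero_add]; decide
  set h := rGL D.qf v
  have hh : h ∈ isometryGroup (ZMod 2) D.qf := rGL_mem' D.space hv1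
  have hfix : ∀ c < 8, h.val *ᵥ ve c = ve c := fun c hc => by
    rw [rGL_apply D.space hv1, hvdef, map_add, LinearMap.add_apply, B_ve_ve hq, B_vf_ve hq, zero_add,
      show dot 8 c = 0 from (by decide : ∀ c : Fin 8, dot 8 c = 0) ⟨c, hc⟩, zero_smul, add_zero]
  have hf8 : h.val *ᵥ vf 8 = ve 8 := by
    rw [rGL_apply D.space hv1, hvdef, map_add, LinearMap.add_apply, B_ve_vf hq, B_vf_vf hq, add_zero,
      show dot 8 8 = 1 by decide, one_smul, add_left_comm, vadd_self, add_zero]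
  let D' := twist D h hh
  have hq' : D'.qf = Cfsg.quadFormPlus 4 (ZMod 2) := hq
  have hp' : D'.Point t := ⟨hp.mem, hp.sq, hp.ne_one, hp.ne_z⟩
  have hp2' : D'.Point t2 := ⟨hp2.mem, hp2.sq, hp2.ne_one, hp2.ne_z⟩
  have ht' : D'.cls t = ve 1 := by
    show h.val *ᵥ D.cls t = _
    rw [ht, hfix 1 (by norm_num)]
  have ht2' : D'.cls t2 = ve 2 := by
    show h.val *ᵥ D.cls t2 = _
    rw [ht2, hfix 2 (by norm_num)]
  have hy' : D'.act y = sGL D'.qf D'.B (D'.cls t) (ve (a ^^^ 8)) := by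
    show h * D.act y * h⁻¹ = sGL D.qf D.B (D'.cls t) _
    rw [hyL, sGL_conj D.space hp.cls_sing (by rw [ht, map_add, B_ve_ve hq, B_ve_vf hq, zero_add, hL]) hh,
      Matrix.mulVec_add, hfix a ha8, hf8, ve_xor]
    rfl
  have hx0' : D'.act x0 = sGL D'.qf D'.B (D'.cls t2) (ve 4) := by
    show h * D.act x0 * h⁻¹ = sGL D.qf D.B (D'.cls t2) _
    rw [hx0v, sGL_conj D.space hp2.cls_sing (by rw [ht2, B_ve_ve hq]) hh, hfix 4 (by norm_num)]
    rfl
  have hyP : D'.InPQ t y := hy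
  have hxP : D'.InPQ t2 x0 := hx0
  have ha16 : a ^^^ 8 < 16 := Nat.xor_lt_two_pow (n := 4) ha (by norm_num)
  have hxA := pq_mem hq' hp2' ht2' hxP hx0'
  have hyA := pq_mem hq' hp' ht' hyP hy'
  rw [ht', sGL_ve hq' (by norm_num) ha16] at hy'
  rw [ht2', sGL_ve hq' (by norm_num) (by norm_num)] at hx0'
  have hc1 : Com D' (wedge 1 (a ^^^ 8)) (wedge 2 4) := com_of hq' hyA hxA hy' hx0' hc.symm
  have hex : ∀ a : Fin 8, wedge 1 (a.val ^^^ 8) ^^^ wedge 1 a.val = 4 := by decide +kernel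
  refine ⟨D', hq', rfl, rfl, abelian_of_com hq' (com_all hq' ?_)⟩
  have e4 : wedge 1 (a ^^^ 8) ^^^ wedge 1 a = 4 := hex ⟨a, ha8⟩
  rw [← e4]
  refine com_xor hq' (v := 8) (wedge_lt' (by norm_num) ha16) (wedge_lt' (by norm_num) ha)
    (by norm_num) hc1 ?_
  -- the remaining part meets the second pair
  have hsh : ∀ c ∈ [2, 4], Com D' (wedge 1 c) 8 := by
    simp only [List.mem_cons, List.not_mem_nil, or_false]
    rintro c (rfl | rfl)
    · exact com_share hq' (a := 2) (b := 1) (c := 4) (by norm_num) (by norm_num) (by norm_num) (by norm_num)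
    · exact com_share hq' (a := 4) (b := 1) (c := 2) (by norm_num) (by norm_num) (by norm_num) (by norm_num)
  have h0 : Com D' 0 8 := by
    obtain ⟨g, hg, eg⟩ := exists_act hq' 8 (by norm_num)
    exact com_of hq' (one_mem _) hg (by rw [D'.act_one, nU_zero]) eg (Commute.one_left g)
  have h3' : Com D' 3 8 := com_xor hq' (u := 1) (w := 2) (by norm_num) (by norm_num) (by norm_num)
    (hsh 2 (by simp)) (hsh 4 (by simp))
  interval_cases a
  exacts [h0, h0, hsh 2 (by simp), hsh 2 (by simp), hsh 4 (by simp), hsh 4 (by simp), h3', h3']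

end Cfsg.Lib.CoOneLocal
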