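import Cfsg.Agent.Lib.CoOneLocal.Model

/-!
# Finite checks on the maps to and from the Golay code
-/

set_option autoImplicit false
set_option maxRecDepth 100000

namespace Cfsg.Lib.CoOneLocal

open Cfsg.Lib.Concrete

/-- The map of coordinates of the Golay code to the model. -/
def pim (i c : ℕ) : ℕ := comboAux (pimList.getD i []) c

/-- The section. -/
def secc (i m : ℕ) : ℕ := comboAux ((invList.getD i []).map (fun x => x &&& 4095)) m

theorem pim_lists : ∀ i : Fin 8, (∀ x ∈ pimList.getD i.val [], x < 2 ^ 11) ∧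
    (∀ x ∈ (invList.getD i.val []).map (fun x => x &&& 4095), x < 2 ^ 12) ∧ pim i 4095 = 0 ∧
    (∀ k : Fin 11, pim i (secc i (2 ^ k.val)) = 2 ^ k.val) := by decide +kernel

theorem pim_kernel : ∀ i : Fin 8, ∀ c ∈ List.range 4096, pim i c = 0 → c = 0 ∨ c = 4095 := by
  decide +kernel

theorem pim_oct : ∀ i : Fin 8, ∀ o ∈ octList,
    incand (cases.getD i.val (0, 0)).2 (pim i (o &&& 4095)) = true := by decide +kernel

theorem pim_weight : ∀ i : Fin 8, ∀ c ∈ List.range 4096, pim i c ≠ 0 →
    (incand (cases.getD i.val (0, 0)).2 (pim i c) = true →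
        pcnt (combo c) = 8 ∨ pcnt (combo (c ^^^ 4095)) = 8) ∧
      (incand (cases.getD i.val (0, 0)).2 (pim i c) = false → pcnt (combo c) = 12) := by decide +kernel

theorem all_ones : combo 4095 = 16777215 := by decide +kernel

theorem point_sep : ∀ p q : Fin 24, p ≠ q →
    ∃ o ∈ octList, o.testBit p.val = true ∧ o.testBit q.val = false := by decide +kernel

theorem some_dodecad : ∃ c < 4096, pcnt (combo c) = 12 := ⟨13, by decide +kernel⟩

end Cfsg.Lib.CoOneLocal
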