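import Cfsg.Agent.Lib.CoOneLocal.Code

/-!
# The conjugates of the central involution over the lines

Over a line of the projective three-space the conjugates of the central involution form the listed
eight codes, for one choice of a single parameter.
-/

set_option autoImplicit false
set_option linter.style.haveILetI false
set_option linter.unusedSectionVars false

namespace Cfsg.Lib.CoOneLocal

open Cfsg Module Cfsg.Lib.Linear.Orth Cfsg.Lib.Extra.Wide Cfsg.Lib.Concrete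
open scoped Matrix

/-- The eight codes over a line through two points. -/
def span8 (r a b : ℕ) : List ℕ :=
  [r, r ^^^ 1, r ^^^ tcode a, r ^^^ 1 ^^^ tcode a, r ^^^ tcode b, r ^^^ 1 ^^^ tcode b,
    r ^^^ tcode a ^^^ tcode b, r ^^^ 1 ^^^ tcode a ^^^ tcode b]

theorem lset_eq (tau : Bool) (u : ℕ) : lset tau u = span8 (rep tau u) (lineA.getD u 0) (lineB.getD u 0) :=
  rfl

/-- The radical representative with a parameter. -/
def rho (κ : Bool) (j k i : ℕ) : ℕ := ycode i j ^^^ ycode i k ^^^ (bif κ then tcode (2 ^ i) else 0)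

theorem rho_lt : ∀ (κ : Bool) (j k i : Fin 4), rho κ j k i < 2048 := by decide +kernel

theorem mem_span8 {r a b m : ℕ} (h : m ∈ span8 r a b) :
    ∃ s ∈ [0, 1, tcode a, 1 ^^^ tcode a], m = r ^^^ s ∨ m = r ^^^ tcode b ^^^ s := by
  simp only [span8, List.mem_cons, List.not_mem_nil, or_false] at h
  have e1 : ∀ x y z : ℕ, x ^^^ y ^^^ z = x ^^^ (y ^^^ z) := Nat.xor_assoc
  rcases h with rfl | rfl | rfl | rfl | rfl | rfl | rfl | rfl
  · exact ⟨0, by simp, Or.inl (by simp)⟩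
  · exact ⟨1, by simp, Or.inl rfl⟩
  · exact ⟨tcode a, by simp, Or.inl rfl⟩
  · exact ⟨1 ^^^ tcode a, by simp, Or.inl (e1 _ _ _)⟩
  · exact ⟨0, by simp, Or.inr (by simp)⟩
  · exact ⟨1, by simp, Or.inr (by rw [e1, e1, Nat.xor_comm 1])⟩
  · exact ⟨tcode a, by simp, Or.inr (by rw [e1, e1, Nat.xor_comm (tcode a)])⟩
  · exact ⟨1 ^^^ tcode a, by simp, Or.inr (by simp only [e1]; rw [Nat.xor_comm (tcode b) (1 ^^^ tcode a), e1])⟩

theorem span8_of {r a b m : ℕ} {s : ℕ} (hs : s ∈ [0, 1, tcode a, 1 ^^^ tcode a])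
    (h : m = r ^^^ s ∨ m = r ^^^ tcode b ^^^ s) : m ∈ span8 r a b := by
  simp only [List.mem_cons, List.not_mem_nil, or_false] at hs
  simp only [span8, List.mem_cons, List.not_mem_nil, or_false]
  have e1 : ∀ x y z : ℕ, x ^^^ y ^^^ z = x ^^^ (y ^^^ z) := Nat.xor_assoc
  rcases hs with rfl | rfl | rfl | rfl <;> rcases h with rfl | rfl <;>
    simp only [e1, Nat.xor_zero, Nat.zero_xor, Nat.xor_comm (tcode b), true_or, or_true]

namespace Gen

variable {G : Type*} [Group G] {D : Data G I8} (F : Gen D)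
include F

/-- A code in the extraspecial subgroup at the point of a vector. -/
def PA (a m : ℕ) : Prop := F.phi m ∈ D.Qof (F.phi (tcode a))

variable [Finite G]

theorem point {a : ℕ} (ha0 : a ≠ 0) (ha : a < 16) :
    D.Point (F.phi (tcode a)) ∧ D.cls (F.phi (tcode a)) = ve a := by
  obtain ⟨hm, hc⟩ := F.small_phi (tcode a) (by rw [tcode]; omega)
  rw [show tcode a >>> 1 = a by rw [tcode, Nat.shiftRight_eq_div_pow]; omega] at hc
  have hne : ve a ≠ 0 := fun h => ha0 (ve_inj ha (by norm_num) (h.trans ve_zero.symm))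
  exact ⟨⟨hm, F.phi_sq _, fun h => hne (by rw [← hc, h, D.cls_one]),
    fun h => hne (by rw [← hc, h, D.cls_z])⟩, hc⟩

theorem pa_xor {a m n : ℕ} (h1 : F.PA a m) (h2 : F.PA a n) : F.PA a (m ^^^ n) := by
  rw [PA, F.phi_xor]; exact mul_mem h1 h2

theorem pa_zero (a : ℕ) : F.PA a 0 := by rw [PA, F.phi_zero]; exact one_mem _

theorem pa_small {a : ℕ} (ha0 : a ≠ 0) (ha : a < 16) :
    ∀ s ∈ [0, 1, tcode a, 1 ^^^ tcode a], F.PA a s := by
  obtain ⟨hp, -⟩ := F.point ha0 ha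
  have h1 : F.PA a 1 := by rw [PA, F.phi_one]; exact hp.mem_snd
  have h2 : F.PA a (tcode a) := (D.ctx_Qof hp.cl).mem
  simp only [List.mem_cons, List.not_mem_nil, or_false]
  rintro s (rfl | rfl | rfl | rfl)
  exacts [F.pa_zero a, h1, h2, F.pa_xor h1 h2]

theorem small_of_pa {a m : ℕ} (ha0 : a ≠ 0) (ha : a < 16) (hm : m < 32) (h : F.PA a m) :
    m ∈ [0, 1, tcode a, 1 ^^^ tcode a] := by
  obtain ⟨hp, -⟩ := F.point ha0 ha
  have ht : tcode a < 2048 := by rw [tcode]; omega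
  simp only [List.mem_cons, List.not_mem_nil, or_false]
  rcases hp.inter (F.small_phi m hm).1 h with e | e | e | e
  · exact Or.inl (F.phi_inj (by omega) (by norm_num) (e.trans F.phi_zero.symm))
  · exact Or.inr (Or.inl (F.phi_inj (by omega) (by norm_num) (e.trans F.phi_one.symm)))
  · exact Or.inr (Or.inr (Or.inl (F.phi_inj (by omega) ht e)))
  · exact Or.inr (Or.inr (Or.inr (F.phi_inj (by omega) (Nat.xor_lt_two_pow (n := 11) (by norm_num) ht)
      (e.trans (by rw [F.phi_xor, F.phi_one])))))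

theorem pa_y {i : Fin 4} (j : Fin 4) : F.PA (2 ^ i.val) (ycode i j) := by
  by_cases h : i = j
  · subst h
    rw [show ycode i i = 0 from (by decide +kernel : ∀ i : Fin 4, ycode i.val i.val = 0) i]
    exact F.pa_zero _
  · have e : tcode (2 ^ i.val) = 2 ^ (1 + i.val) := by rw [tcode, add_comm, pow_succ']
    rw [PA, F.phi_y h, e, F.phi_T]
    exact (F.pq i j h).1

theorem phi_ne {m : ℕ} (hm : m < 2048) (h : m ≠ 0) : F.phi m ≠ 1 := fun e =>
  h (F.phi_inj hm (by norm_num) (e.trans F.phi_zero.symm))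

theorem pa_meet {a b m : ℕ} (ha0 : a ≠ 0) (ha : a < 16) (hb0 : b ≠ 0) (hb : b < 16) (hab : a ≠ b)
    (hm : m < 2048) (h1 : F.PA a m) (h2 : F.PA b m) : F.PA (a ^^^ b) m := by
  by_cases h0 : m = 0
  · exact h0 ▸ F.pa_zero _
  obtain ⟨hp, -⟩ := F.point ha0 ha
  obtain ⟨hp', -⟩ := F.point hb0 hb
  have hc : D.Cl (F.phi m) := D.cl_of_Qof hp.cl h1 (F.phi_sq m) (F.phi_ne hm h0)
  obtain ⟨hp'', -⟩ := F.point (a := a ^^^ b) (fun e => hab (Nat.xor_eq_zero_iff.1 e))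
    (Nat.xor_lt_two_pow (n := 4) ha hb)
  refine D.Qof_symm hc hp''.cl ?_
  rw [show tcode (a ^^^ b) = tcode a ^^^ tcode b by
    have e : ∀ x, tcode x = x <<< 1 := fun x => by rw [tcode, Nat.shiftLeft_eq]; omega
    rw [e, e, e, Nat.shiftLeft_xor_distrib], F.phi_xor]
  exact mul_mem (D.Qof_symm hp.cl hc h1) (D.Qof_symm hp'.cl hc h2)

/-- The conjugates of the central involution over a line. -/
theorem line_cl {a b r : ℕ} (ha0 : a ≠ 0) (ha : a < 16) (hb : b < 16) (hw : wedge a b ≠ 0)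
    (hr : r < 2048) (hru : r >>> 5 = wedge a b) (hra : F.PA a r) {m : ℕ} (hm : m < 2048)
    (hmu : m >>> 5 = wedge a b) : D.Cl (F.phi m) ↔ m ∈ span8 r a b := by
  have hb0 : b ≠ 0 := fun h => hw (h ▸ (by decide +kernel : ∀ a : Fin 16, wedge a 0 = 0) ⟨a, ha⟩)
  obtain ⟨hp, hc⟩ := F.point ha0 ha
  obtain ⟨hp', hc'⟩ := F.point hb0 hb
  obtain ⟨g, hg, hg', hgA, eg⟩ := exists_common F.qp hp hp' hc hc' ha hb hw F.abel
  obtain ⟨c, hc2, rfl⟩ := F.phi_surj hgA
  have hcu : c >>> 5 = wedge a b :=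
    nU_inj (by rw [Nat.shiftRight_eq_div_pow]; omega) (wedge_lt' ha hb) ((F.act_phi c hc2).symm.trans eg)
  have hca : F.PA a c := hg.1
  have hsm : ∀ x y : ℕ, x < 2048 → y < 2048 → x >>> 5 = y >>> 5 → x ^^^ y < 32 := by
    intro x y hx hy e
    have e' : (x ^^^ y) >>> 5 = 0 := by rw [Nat.shiftRight_xor_distrib, e, Nat.xor_self]
    rw [Nat.shiftRight_eq_div_pow] at e'
    omega
  have hdiff := F.small_of_pa ha0 ha (hsm r c hr hc2 (hru.trans hcu.symm)) (F.pa_xor hra hca)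
  have hvn : ve b ∉ Submodule.span (ZMod 2) {D.cls (F.phi (tcode a))} := fun hm' => by
    obtain ⟨α, hα⟩ := Submodule.mem_span_singleton.1 hm'
    rw [hc] at hα
    rcases bit α with rfl | rfl
    · rw [zero_smul, ← ve_zero] at hα
      exact hb0 (ve_inj (by norm_num) hb hα).symm
    · rw [one_smul] at hα
      exact hw (ve_inj ha hb hα ▸ (by decide +kernel : ∀ a : Fin 16, wedge a a = 0) ⟨a, ha⟩)
  have hside : ∀ x < 2048, x >>> 5 = wedge a b → D.Cl (F.phi x) →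
      F.phi x ∈ D.Qof (F.phi (tcode a)) ∨ F.phi x ∈ D.Qof (D.z * F.phi (tcode a)) := by
    intro x hx hxu hxc
    rcases hp.classify (AA_comm_z (F.phi_mem x))
        (F.abel _ (F.phi_mem x) _ (F.phi_mem _)) (F.phi_sq x) (v := ve b)
        (by rw [hc, B_ve_ve F.qp]) hvn (by rw [F.act_phi x hx, hxu, hc, sGL_ve F.qp ha hb]) with h | ⟨u, Fr⟩
    · exact h.2.1
    · exact absurd hxc Fr.not_cl
  have htb : tcode b < 32 := by rw [tcode]; omega
  have hcb : c ^^^ tcode b < 2048 := Nat.xor_lt_two_pow (n := 11) hc2 (by omega)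
  have hcbu : (c ^^^ tcode b) >>> 5 = wedge a b := by
    rw [Nat.shiftRight_xor_distrib, hcu, show tcode b >>> 5 = 0 by rw [Nat.shiftRight_eq_div_pow]; omega,
      Nat.xor_zero]
  have hnz : ∀ x, x >>> 5 = wedge a b → x ≠ 0 := fun x h e => hw (by rw [← h, e]; rfl)
  have hcbQ : F.phi (c ^^^ tcode b) ∈ D.Qof (F.phi (tcode b)) := by
    rw [F.phi_xor]; exact mul_mem hg'.1 (D.ctx_Qof hp'.cl).mem
  have hcb2 : F.phi (c ^^^ tcode b) ∈ D.Qof (D.z * F.phi (tcode a)) := by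
    refine (hside _ hcb hcbu (D.cl_of_Qof hp'.cl hcbQ (F.phi_sq _) (F.phi_ne hcb (hnz _ hcbu)))).resolve_left
      fun h => ?_
    have := F.small_of_pa ha0 ha htb (by
      have := F.pa_xor hca h
      rwa [← Nat.xor_assoc, Nat.xor_self, Nat.zero_xor] at this)
    have key : ∀ a b : Fin 16, tcode b ∈ [0, 1, tcode a, 1 ^^^ tcode a] → b.val = 0 ∨ b.val = a.val := by
      decide +kernel
    rcases key ⟨a, ha⟩ ⟨b, hb⟩ this with e | e
    · exact hb0 e
    · have e' : b = a := e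
      subst e'
      exact hw ((by decide +kernel : ∀ a : Fin 16, wedge a a = 0) ⟨b, hb⟩)
  have hpz := hp.z_mul
  have hsmall2 : ∀ s ∈ [0, 1, tcode a, 1 ^^^ tcode a], F.phi s ∈ D.Qof (D.z * F.phi (tcode a)) := by
    have h1 : F.phi 1 ∈ D.Qof (D.z * F.phi (tcode a)) := by rw [F.phi_one]; exact hpz.mem_snd
    have h2 : F.phi (tcode a) ∈ D.Qof (D.z * F.phi (tcode a)) := by
      have h := mul_mem hpz.mem_snd (D.ctx_Qof hpz.cl).mem
      rwa [← mul_assoc, D.ctx.sq_z, one_mul] at h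
    simp only [List.mem_cons, List.not_mem_nil, or_false]
    rintro s (rfl | rfl | rfl | rfl)
    exacts [by rw [F.phi_zero]; exact one_mem _, h1, h2, by rw [F.phi_xor]; exact mul_mem h1 h2]
  have cancel : ∀ x y : ℕ, x ^^^ (x ^^^ y) = y := fun x y => by
    rw [← Nat.xor_assoc, Nat.xor_self, Nat.zero_xor]
  have hgrp : ∀ a : Fin 16, ∀ s ∈ [0, 1, tcode a, 1 ^^^ tcode a], ∀ s' ∈ [0, 1, tcode a, 1 ^^^ tcode a],
      s ^^^ s' ∈ [0, 1, tcode a, 1 ^^^ tcode a] := by decide +kernel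
  constructor
  · intro hcl
    rcases hside m hm hmu hcl with h | h
    · have h' := F.small_of_pa ha0 ha (hsm r m hr hm (hru.trans hmu.symm)) (F.pa_xor hra h)
      exact span8_of h' (Or.inl (cancel r m).symm)
    · have hq : F.phi ((c ^^^ tcode b) ^^^ m) ∈ D.Qof (D.z * F.phi (tcode a)) := by
        rw [F.phi_xor]; exact mul_mem hcb2 h
      have hlt := hsm _ m hcb hm (hcbu.trans hmu.symm)
      have hA := hpz.inter (F.small_phi _ hlt).1 hq
      have hA' : D.InA (F.phi (tcode a)) (F.phi ((c ^^^ tcode b) ^^^ m)) := by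
        have e : D.z * (D.z * F.phi (tcode a)) = F.phi (tcode a) := by
          rw [← mul_assoc, D.ctx.sq_z, one_mul]
        rcases hA with e' | e' | e' | e'
        exacts [Or.inl e', Or.inr (Or.inl e'), Or.inr (Or.inr (Or.inr e')),
          Or.inr (Or.inr (Or.inl (e'.trans e)))]
      have h' := F.small_of_pa ha0 ha hlt (hp.inA_mem hA').2
      refine span8_of (hgrp ⟨a, ha⟩ _ hdiff _ h') (Or.inr ?_)
      show m = r ^^^ tcode b ^^^ ((r ^^^ c) ^^^ ((c ^^^ tcode b) ^^^ m))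
      simp only [Nat.xor_assoc, cancel]
      rw [← Nat.xor_assoc (tcode b) r, Nat.xor_comm (tcode b) r, Nat.xor_assoc, cancel, cancel]
  · intro hmem
    obtain ⟨s, hs, h⟩ := mem_span8 hmem
    rcases h with rfl | rfl
    · exact D.cl_of_Qof hp.cl (F.pa_xor hra (F.pa_small ha0 ha s hs)) (F.phi_sq _)
        (F.phi_ne hm (hnz _ hmu))
    · refine D.cl_of_Qof hpz.cl ?_ (F.phi_sq _) (F.phi_ne hm (hnz _ hmu))
      rw [show r ^^^ tcode b ^^^ s = (c ^^^ tcode b) ^^^ ((r ^^^ c) ^^^ s) by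
        simp only [Nat.xor_assoc]
        rw [← Nat.xor_assoc (tcode b) r, Nat.xor_comm (tcode b) r, Nat.xor_assoc,
          Nat.xor_comm c (r ^^^ _), Nat.xor_assoc]
        congr 1
        rw [Nat.xor_assoc (tcode b), Nat.xor_comm (c ^^^ s) c, cancel], F.phi_xor]
      exact mul_mem hcb2 (hsmall2 _ (hgrp ⟨a, ha⟩ _ hdiff _ hs))

theorem exists_kappa {j k i : Fin 4} (hij : i ≠ j) (hik : i ≠ k) (hjk : j ≠ k) :
    ∃ κ : Bool, F.PA (2 ^ j.val ^^^ 2 ^ k.val) (rho κ j k i) := by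
  set a := 2 ^ j.val ^^^ 2 ^ k.val with hadef
  set b := 2 ^ i.val with hbdef
  have facts : ∀ i j k : Fin 4, i ≠ j → i ≠ k → j ≠ k → (2 ^ j.val ^^^ 2 ^ k.val) ≠ 0 ∧
      2 ^ j.val ^^^ 2 ^ k.val < 16 ∧ wedge (2 ^ i.val) (2 ^ j.val ^^^ 2 ^ k.val) ≠ 0 ∧
      (ycode i j ^^^ ycode i k) >>> 5 = wedge (2 ^ i.val) (2 ^ j.val ^^^ 2 ^ k.val) := by decide +kernel
  obtain ⟨ha0, ha, hw, hu⟩ := facts i j k hij hik hjk
  obtain ⟨hp, hc⟩ := F.point (a := b) (by positivity) (pow_lt_16 i)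
  obtain ⟨hp', hc'⟩ := F.point ha0 ha
  obtain ⟨g, hg, hg', hgA, eg⟩ := exists_common F.qp hp hp' hc hc' (pow_lt_16 i) ha hw F.abel
  obtain ⟨c, hc2, rfl⟩ := F.phi_surj hgA
  have hcu : c >>> 5 = wedge b a :=
    nU_inj (by rw [Nat.shiftRight_eq_div_pow]; omega) (wedge_lt' (pow_lt_16 i) ha)
      ((F.act_phi c hc2).symm.trans eg)
  have hr : ycode i j ^^^ ycode i k < 2048 := by
    have := rho_lt false j k i
    simpa [rho] using this
  have hra : F.PA b (ycode i j ^^^ ycode i k) := F.pa_xor (F.pa_y j) (F.pa_y k)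
  have hcl : D.Cl (F.phi c) := D.cl_of_Qof hp.cl hg.1 (F.phi_sq c)
    (F.phi_ne hc2 fun e => hw (by rw [← hcu, e]; rfl))
  have hm := (F.line_cl (by positivity) (pow_lt_16 i) ha hw hr hu hra hc2 hcu).1 hcl
  have key : ∀ i j k : Fin 4, i ≠ j → i ≠ k → j ≠ k →
      ∀ c ∈ span8 (ycode i j ^^^ ycode i k) (2 ^ i.val) (2 ^ j.val ^^^ 2 ^ k.val), ∃ κ : Bool,
        c ^^^ rho κ j k i ∈ [0, 1, tcode (2 ^ j.val ^^^ 2 ^ k.val), 1 ^^^ tcode (2 ^ j.val ^^^ 2 ^ k.val)] := by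
    decide +kernel
  obtain ⟨κ, hκ⟩ := key i j k hij hik hjk c hm
  refine ⟨κ, ?_⟩
  have h := F.pa_xor (show F.PA a c from hg'.1) (F.pa_small ha0 ha _ hκ)
  rwa [← Nat.xor_assoc, Nat.xor_self, Nat.zero_xor] at h

/-- The parameters of a triangle agree. -/
theorem kappa_triangle {i j k : Fin 4} (hij : i ≠ j) (hik : i ≠ k) (hjk : j ≠ k) {κ κ' κ'' : Bool}
    (h1 : F.PA (2 ^ j.val ^^^ 2 ^ k.val) (rho κ j k i)) (h2 : F.PA (2 ^ i.val ^^^ 2 ^ k.val) (rho κ' i k j))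
    (h3 : F.PA (2 ^ i.val ^^^ 2 ^ j.val) (rho κ'' i j k)) : κ = κ' ∧ κ = κ'' := by
  have facts : ∀ i j k : Fin 4, i ≠ j → i ≠ k → j ≠ k → (2 ^ j.val ^^^ 2 ^ k.val) ≠ 0 ∧
      2 ^ j.val ^^^ 2 ^ k.val < 16 ∧ 2 ^ i.val ≠ 2 ^ j.val ^^^ 2 ^ k.val ∧
      2 ^ i.val ^^^ (2 ^ j.val ^^^ 2 ^ k.val) ≠ 0 ∧ 2 ^ i.val ^^^ (2 ^ j.val ^^^ 2 ^ k.val) < 16 := by
    decide +kernel
  have hp : ∀ i j k : Fin 4, i ≠ j → i ≠ k → j ≠ k → ∀ κ : Bool,
      F.PA (2 ^ j.val ^^^ 2 ^ k.val) (rho κ j k i) →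
        F.PA (2 ^ i.val ^^^ (2 ^ j.val ^^^ 2 ^ k.val)) (rho κ j k i) := by
    intro i j k hij hik hjk κ h
    obtain ⟨ha0, ha, hne, -, -⟩ := facts i j k hij hik hjk
    refine F.pa_meet (by positivity) (pow_lt_16 i) ha0 ha hne (rho_lt κ j k i) ?_ h
    refine F.pa_xor (F.pa_xor (F.pa_y j) (F.pa_y k)) ?_
    cases κ
    · exact F.pa_zero _
    · exact F.pa_small (by positivity) (pow_lt_16 i) _ (by simp)
  obtain ⟨-, -, -, h70, h7⟩ := facts i j k hij hik hjk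
  set a7 := 2 ^ i.val ^^^ (2 ^ j.val ^^^ 2 ^ k.val) with ha7
  have e2 : 2 ^ j.val ^^^ (2 ^ i.val ^^^ 2 ^ k.val) = a7 := by
    rw [ha7, ← Nat.xor_assoc, Nat.xor_comm (2 ^ j.val), Nat.xor_assoc]
  have e3 : 2 ^ k.val ^^^ (2 ^ i.val ^^^ 2 ^ j.val) = a7 := by
    rw [ha7, Nat.xor_comm (2 ^ k.val), Nat.xor_assoc]
  have p1 := hp i j k hij hik hjk κ h1
  have p2 := hp j i k hij.symm hjk hik κ' h2
  have p3 := hp k i j hik.symm hjk.symm hij κ'' h3
  rw [e2] at p2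
  rw [e3] at p3
  have key : ∀ i j k : Fin 4, i ≠ j → i ≠ k → j ≠ k → ∀ κ κ' κ'' : Bool,
      rho κ j k i ^^^ rho κ' i k j ^^^ rho κ'' i j k < 32 ∧
      (rho κ j k i ^^^ rho κ' i k j ^^^ rho κ'' i j k ∈
        [0, 1, tcode (2 ^ i.val ^^^ (2 ^ j.val ^^^ 2 ^ k.val)),
          1 ^^^ tcode (2 ^ i.val ^^^ (2 ^ j.val ^^^ 2 ^ k.val))] → κ = κ' ∧ κ = κ'') := by decide +kernel
  obtain ⟨hlt, h⟩ := key i j k hij hik hjk κ κ' κ''
  exact h (F.small_of_pa h70 h7 hlt (F.pa_xor (F.pa_xor p1 p2) p3))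

/-- The parameters of opposite lines agree. -/
theorem kappa_pair {i j k l : Fin 4} (hij : i ≠ j) (hik : i ≠ k) (hjk : j ≠ k) (hli : l ≠ i) (hlj : l ≠ j)
    (hlk : l ≠ k) {κ κ' μ μ' : Bool}
    (h1 : F.PA (2 ^ j.val ^^^ 2 ^ k.val) (rho κ j k i)) (h2 : F.PA (2 ^ j.val ^^^ 2 ^ k.val) (rho κ' j k l))
    (h3 : F.PA (2 ^ i.val ^^^ 2 ^ l.val) (rho μ i l j)) (h4 : F.PA (2 ^ i.val ^^^ 2 ^ l.val) (rho μ' i l k)) :
    κ = κ' := by
  have facts : ∀ i j k l : Fin 4, i ≠ j → i ≠ k → j ≠ k → l ≠ i → l ≠ j → l ≠ k → ∀ κ κ' : Bool,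
      (2 ^ j.val ^^^ 2 ^ k.val) ≠ 0 ∧ 2 ^ j.val ^^^ 2 ^ k.val < 16 ∧
      2 ^ i.val ^^^ 2 ^ l.val ≠ 0 ∧ 2 ^ i.val ^^^ 2 ^ l.val < 16 ∧
      wedge (2 ^ j.val ^^^ 2 ^ k.val) (2 ^ i.val ^^^ 2 ^ l.val) ≠ 0 ∧
      rho κ j k i ^^^ rho κ' j k l < 2048 ∧
      (rho κ j k i ^^^ rho κ' j k l) >>> 5 = wedge (2 ^ j.val ^^^ 2 ^ k.val) (2 ^ i.val ^^^ 2 ^ l.val) := by
    decide +kernel
  obtain ⟨ha0, ha, hb0, hb, hw, hr, hru⟩ := facts i j k l hij hik hjk hli hlj hlk κ κ'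
  obtain ⟨-, -, -, -, -, hm, hmu⟩ := facts j i l k hij.symm hlj.symm hli.symm hjk.symm hik.symm hlk.symm μ μ'
  have hwc : ∀ a b : Fin 16, wedge b a = wedge a b := by decide +kernel
  rw [show wedge (2 ^ i.val ^^^ 2 ^ l.val) (2 ^ j.val ^^^ 2 ^ k.val) =
    wedge (2 ^ j.val ^^^ 2 ^ k.val) (2 ^ i.val ^^^ 2 ^ l.val) from hwc ⟨_, ha⟩ ⟨_, hb⟩] at hmu
  obtain ⟨hp', -⟩ := F.point hb0 hb
  have hcl : D.Cl (F.phi (rho μ i l j ^^^ rho μ' i l k)) :=
    D.cl_of_Qof hp'.cl (F.pa_xor h3 h4) (F.phi_sq _) (F.phi_ne hm fun e => hw (by rw [← hmu, e]; rfl))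
  have hmem := (F.line_cl ha0 ha hb hw hr hru (F.pa_xor h1 h2) hm hmu).1 hcl
  have key : ∀ i j k l : Fin 4, i ≠ j → i ≠ k → j ≠ k → l ≠ i → l ≠ j → l ≠ k → ∀ κ κ' μ μ' : Bool,
      rho μ i l j ^^^ rho μ' i l k ∈ span8 (rho κ j k i ^^^ rho κ' j k l) (2 ^ j.val ^^^ 2 ^ k.val)
        (2 ^ i.val ^^^ 2 ^ l.val) → κ = κ' := by decide +kernel
  exact key i j k l hij hik hjk hli hlj hlk κ κ' μ μ' hmem

/-- One parameter describes all the lines. -/
theorem exists_tau : ∃ tau : Bool, ∀ u ∈ lineList, ∀ m < 2048, m >>> 5 = u →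
    (D.Cl (F.phi m) ↔ m ∈ lset tau u) := by
  have hK : ∀ j k i : Fin 4, ∃ κ : Bool, i ≠ j → i ≠ k → j ≠ k →
      F.PA (2 ^ j.val ^^^ 2 ^ k.val) (rho κ j k i) := fun j k i => by
    by_cases h : i ≠ j ∧ i ≠ k ∧ j ≠ k
    · obtain ⟨κ, hκ⟩ := F.exists_kappa h.1 h.2.1 h.2.2
      exact ⟨κ, fun _ _ _ => hκ⟩
    · exact ⟨false, fun a b c => absurd ⟨a, b, c⟩ h⟩
  choose K hK using hK
  have hsym : ∀ (j k i : Fin 4) (κ : Bool), F.PA (2 ^ j.val ^^^ 2 ^ k.val) (rho κ j k i) →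
      F.PA (2 ^ k.val ^^^ 2 ^ j.val) (rho κ k j i) := fun j k i κ h => by
    rw [rho, Nat.xor_comm (ycode i k), Nat.xor_comm (2 ^ k.val)]; exact h
  have T : ∀ i j k : Fin 4, i ≠ j → i ≠ k → j ≠ k → K j k i = K i k j ∧ K j k i = K i j k :=
    fun i j k a b c => F.kappa_triangle a b c (hK j k i a b c) (hK i k j a.symm c b)
      (hK i j k b.symm c.symm a)
  have P : ∀ j k i l : Fin 4, i ≠ j → i ≠ k → j ≠ k → l ≠ i → l ≠ j → l ≠ k → K j k i = K j k l :=
    fun j k i l a b c d e f => F.kappa_pair a b c d e f (hK j k i a b c) (hK j k l e f c)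
      (hK i l j a.symm e.symm d.symm) (hK i l k b.symm f.symm d.symm)
  set tau := K 1 2 0 with htau
  have t012 := T 0 1 2 (by decide) (by decide) (by decide)
  have t013 := T 0 1 3 (by decide) (by decide) (by decide)
  have t023 := T 0 2 3 (by decide) (by decide) (by decide)
  have t123 := T 1 2 3 (by decide) (by decide) (by decide)
  have p01 := P 0 1 2 3 (by decide) (by decide) (by decide) (by decide) (by decide) (by decide)
  have p02 := P 0 2 1 3 (by decide) (by decide) (by decide) (by decide) (by decide) (by decide)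
  have p12 := P 1 2 0 3 (by decide) (by decide) (by decide) (by decide) (by decide) (by decide)
  have e013 : K 0 1 3 = tau := p01.symm.trans t012.2.symm
  have e023 : K 0 2 3 = tau := p02.symm.trans t012.1.symm
  have e130 : K 1 3 0 = tau := t013.2.trans e013
  have e230 : K 2 3 0 = tau := t023.2.trans e023
  have e231 : K 2 3 1 = tau := t123.2.trans p12.symm
  have hall : ∀ j k i : Fin 4, j < k → i ≠ j → i ≠ k → K j k i = tau := by
    intro j k i hjk hij hik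
    fin_cases j <;> fin_cases k <;> first | exact absurd hjk (by decide) | skip
    all_goals fin_cases i <;> first | exact absurd rfl hij | exact absurd rfl hik | skip
    exacts [t012.2.symm, e013, t012.1.symm, e023, t013.1.symm.trans e130, t023.1.symm.trans e230,
      rfl, p12.symm, e130, t123.1.symm.trans e231, e230, e231]
  have hrc : ∀ a : Fin 16, a.val ≠ 0 → (oneBit a < 4 ∨ (twoBits a).1 < (twoBits a).2) →
      ∀ i : Fin 4, F.PA a (rc tau a i) := by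
    intro a ha0 hab i
    have hbits : ∀ a : Fin 16, oneBit a < 4 → 2 ^ oneBit a = a.val := by decide +kernel
    have hbits2 : ∀ a : Fin 16, ¬ oneBit a < 4 → (twoBits a).1 < (twoBits a).2 →
        (twoBits a).2 < 4 ∧ 2 ^ (twoBits a).1 ^^^ 2 ^ (twoBits a).2 = a.val := by decide +kernel
    by_cases h1 : oneBit a < 4
    · rw [rc, decide_eq_true h1, cond_true]
      have h := F.pa_y (i := ⟨oneBit a, h1⟩) i
      simp only at h
      rwa [hbits a h1] at h
    · have h2 := hab.resolve_left h1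
      obtain ⟨h4, he⟩ := hbits2 a h1 h2
      rw [rc, decide_eq_false h1, cond_false]
      set j : Fin 4 := ⟨(twoBits a).1, by omega⟩ with hj
      set k : Fin 4 := ⟨(twoBits a).2, h4⟩ with hk
      have hjk : j < k := h2
      show F.PA a (bif i.val == j.val || i.val == k.val then ycode j k
        else ycode i j ^^^ ycode i k ^^^ (bif tau then tcode (2 ^ i.val) else 0))
      have he' : 2 ^ j.val ^^^ 2 ^ k.val = a.val := he
      by_cases hi : i = j ∨ i = k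
      · rw [show (i.val == j.val || i.val == k.val) = true by
          rcases hi with rfl | rfl <;> simp, cond_true, ← he']
        refine F.pa_meet (by positivity) (pow_lt_16 j) (by positivity) (pow_lt_16 k)
          (fun e => hjk.ne (Fin.ext (Nat.pow_right_injective (le_refl 2) e))) ?_ (F.pa_y k) ?_
        · exact (by decide +kernel : ∀ j k : Fin 4, ycode j k < 2048) j k
        · have h := F.pa_y (i := k) j
          rwa [show ycode k.val j.val = ycode j.val k.val from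
            (by decide +kernel : ∀ j k : Fin 4, ycode k.val j.val = ycode j.val k.val) j k] at h
      · push Not at hi
        rw [show (i.val == j.val || i.val == k.val) = false by
          simp [Fin.val_ne_of_ne hi.1, Fin.val_ne_of_ne hi.2], cond_false, ← he']
        have h := hK j k i hi.1 hi.2 hjk.ne
        rw [hall j k i hjk hi.1 hi.2] at h
        exact h
  refine ⟨tau, fun u hu m hm hmu => ?_⟩
  have table : ∀ u ∈ lineList, ∀ t : Bool, lineA.getD u 0 ≠ 0 ∧ lineA.getD u 0 < 16 ∧ lineB.getD u 0 < 16 ∧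
      (oneBit (lineA.getD u 0) < 4 ∨ (twoBits (lineA.getD u 0)).1 < (twoBits (lineA.getD u 0)).2) ∧
      wedge (lineA.getD u 0) (lineB.getD u 0) = u ∧ u ≠ 0 ∧ rep t u < 2048 ∧ rep t u >>> 5 = u := by
    decide +kernel
  obtain ⟨ha0, ha, hb, hab, hwu, hu0, hr, hru⟩ := table u hu tau
  have hrep : F.PA (lineA.getD u 0) (rep tau u) := by
    have hc : ∀ L : List ℕ, (∀ x ∈ L, F.PA (lineA.getD u 0) x) → ∀ c, F.PA (lineA.getD u 0) (comboAux L c) := by
      intro L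
      induction L with
      | nil => exact fun _ c => F.pa_zero _
      | cons x xs ih =>
        intro h c
        refine F.pa_xor ?_ (ih (fun y hy => h y (List.mem_cons_of_mem _ hy)) _)
        cases c % 2 == 1
        exacts [F.pa_zero _, h x List.mem_cons_self]
    refine hc _ (fun x hx => ?_) _
    simp only [List.mem_cons, List.not_mem_nil, or_false] at hx
    rcases hx with rfl | rfl | rfl | rfl
    exacts [hrc ⟨_, ha⟩ ha0 hab 0, hrc ⟨_, ha⟩ ha0 hab 1, hrc ⟨_, ha⟩ ha0 hab 2, hrc ⟨_, ha⟩ ha0 hab 3]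
  rw [lset_eq]
  exact F.line_cl ha0 ha hb (by rw [hwu]; exact hu0) hr (hru.trans hwu.symm) hrep hm (hmu.trans hwu.symm)

end Gen

end Cfsg.Lib.CoOneLocal
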