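import Cfsg.Agent.Lib.CoOneLocal.Setup
import Cfsg.Agent.Lib.Solv.GaschutzAbelian

/-!
# A two-subgroup of the normalizer meeting the abelian subgroup trivially
-/

set_option autoImplicit false
set_option linter.style.haveILetI false
set_option linter.unusedSectionVars false

namespace Cfsg.Lib.CoOneLocal

open Cfsg Module Cfsg.Lib.Linear.Orth Cfsg.Lib.Extra.Wide Cfsg.Lib.Concrete
open scoped Matrix

variable {G : Type*} [Group G] [Finite G] {D : Data G I8}

theorem rGL_inv_self {q : V8 → ZMod 2} {B : LinearMap.BilinForm (ZMod 2) V8} (C : Space q B) {v : V8}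
    (hv : q v = 1) : (rGL q v)⁻¹ = rGL q v := by
  refine inv_eq_of_mul_eq_one_right (gl_ext fun x => ?_)
  rw [mul_act, rGL_apply C hv, rGL_apply C hv, map_add, map_smul, B_self C, smul_zero, add_zero, add_assoc,
    vadd_self, add_zero, Units.val_one, Matrix.one_mulVec]

/-- The product in normal form. -/
def nform (a b c d e f : G) (v : Fin 6 → ZMod 2) : G :=
  pick a (v 0) * pick d (v 1) * pick f (v 2) * pick b (v 3) * pick e (v 4) * pick c (v 5)

/-- Normal forms for the upper triangular group of degree four. -/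
theorem normal_form {a b c d e f : G} (ha2 : a * a = 1) (hb2 : b * b = 1) (hc2 : c * c = 1) (hd2 : d * d = 1)
    (he2 : e * e = 1) (hf2 : f * f = 1) (hac : Commute a c) (hbd : Commute b d) (hbf : Commute b f)
    (hce : Commute c e) (hcf : Commute c f) (hba : b * a = a * d * b) (hcb : c * b = b * e * c)
    (hcd : c * d = d * f * c) : ∀ x ∈ Subgroup.closure ({a, b, c} : Set G), ∃ v, nform a b c d e f v = x := by
  have ps : ∀ {u : G}, u * u = 1 → ∀ i j : ZMod 2, pick u i * pick u j = pick u (i + j) := fun h => pick_add h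
  have pc : ∀ {u w : G}, Commute u w → ∀ i, Commute u (pick w i) := fun h i => (pick_comm h.symm i).symm
  have step : ∀ g ∈ ({a, b, c} : Set G), ∀ v, ∃ w, nform a b c d e f w = g * nform a b c d e f v := by
    intro g hg v
    simp only [Set.mem_insert_iff, Set.mem_singleton_iff] at hg
    rcases hg with rfl | rfl | rfl
    · refine ⟨![1 + v 0, v 1, v 2, v 3, v 4, v 5], ?_⟩
      show pick g (1 + v 0) * pick d (v 1) * pick f (v 2) * pick b (v 3) * pick e (v 4) * pick c (v 5) =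
        g * nform g b c d e f v
      rw [← ps ha2, pick_one, nform]
      simp only [mul_assoc]
    · refine ⟨![v 0, v 0 + v 1, v 2, 1 + v 3, v 4, v 5], ?_⟩
      show pick a (v 0) * pick d (v 0 + v 1) * pick f (v 2) * pick g (1 + v 3) * pick e (v 4) * pick c (v 5) =
        g * (pick a (v 0) * pick d (v 1) * pick f (v 2) * pick g (v 3) * pick e (v 4) * pick c (v 5))
      have h0 : g * pick a (v 0) = pick a (v 0) * pick d (v 0) * g := by
        rcases bit (v 0) with h | h <;> rw [h] <;> simp [hba]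
      rw [← ps hd2, ← ps hb2, pick_one]
      symm
      calc g * (pick a (v 0) * pick d (v 1) * pick f (v 2) * pick g (v 3) * pick e (v 4) * pick c (v 5))
          = (g * pick a (v 0)) * pick d (v 1) * pick f (v 2) * pick g (v 3) * pick e (v 4) * pick c (v 5) := by
            simp only [mul_assoc]
        _ = pick a (v 0) * pick d (v 0) * (g * pick d (v 1)) * pick f (v 2) * pick g (v 3) * pick e (v 4) *
            pick c (v 5) := by rw [h0]; simp only [mul_assoc]
        _ = pick a (v 0) * pick d (v 0) * pick d (v 1) * (g * pick f (v 2)) * pick g (v 3) * pick e (v 4) *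
            pick c (v 5) := by rw [(pc hbd (v 1)).eq]; simp only [mul_assoc]
        _ = _ := by rw [(pc hbf (v 2)).eq]; simp only [mul_assoc]
    · refine ⟨![v 0, v 1, v 1 + v 2, v 3, v 3 + v 4, 1 + v 5], ?_⟩
      show pick a (v 0) * pick d (v 1) * pick f (v 1 + v 2) * pick b (v 3) * pick e (v 3 + v 4) *
          pick g (1 + v 5) =
        g * (pick a (v 0) * pick d (v 1) * pick f (v 2) * pick b (v 3) * pick e (v 4) * pick g (v 5))
      have h1 : g * pick d (v 1) = pick d (v 1) * pick f (v 1) * g := by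
        rcases bit (v 1) with h | h <;> rw [h] <;> simp [hcd]
      have h3 : g * pick b (v 3) = pick b (v 3) * pick e (v 3) * g := by
        rcases bit (v 3) with h | h <;> rw [h] <;> simp [hcb]
      rw [← ps hf2, ← ps he2, ← ps hc2, pick_one]
      symm
      calc g * (pick a (v 0) * pick d (v 1) * pick f (v 2) * pick b (v 3) * pick e (v 4) * pick g (v 5))
          = (g * pick a (v 0)) * pick d (v 1) * pick f (v 2) * pick b (v 3) * pick e (v 4) * pick g (v 5) := by
            simp only [mul_assoc]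
        _ = pick a (v 0) * (g * pick d (v 1)) * pick f (v 2) * pick b (v 3) * pick e (v 4) * pick g (v 5) := by
            rw [(pc hac.symm (v 0)).eq]; simp only [mul_assoc]
        _ = pick a (v 0) * pick d (v 1) * pick f (v 1) * (g * pick f (v 2)) * pick b (v 3) * pick e (v 4) *
            pick g (v 5) := by rw [h1]; simp only [mul_assoc]
        _ = pick a (v 0) * pick d (v 1) * pick f (v 1) * pick f (v 2) * (g * pick b (v 3)) * pick e (v 4) *
            pick g (v 5) := by rw [(pc hcf (v 2)).eq]; simp only [mul_assoc]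
        _ = pick a (v 0) * pick d (v 1) * pick f (v 1) * pick f (v 2) * pick b (v 3) * pick e (v 3) *
            (g * pick e (v 4)) * pick g (v 5) := by rw [h3]; simp only [mul_assoc]
        _ = _ := by rw [(pc hce (v 4)).eq]; simp only [mul_assoc]
  intro x hx
  refine Subgroup.closure_induction_left (p := fun x _ => ∃ v, nform a b c d e f v = x) ⟨0, by simp [nform]⟩
    (fun g hg y _ hy => ?_) (fun g hg y _ hy => ?_) hx
  all_goals obtain ⟨v, rfl⟩ := hy
  · exact step g hg v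
  · have hgi : g⁻¹ = g := inv_eq_of_mul_eq_one_right (by
      simp only [Set.mem_insert_iff, Set.mem_singleton_iff] at hg
      rcases hg with rfl | rfl | rfl <;> assumption)
    rw [hgi]
    exact step g hg v

/-- The radical elements on four different coordinates commute. -/
theorem cross_comm (F : Gen D) {i j k l : Fin 4} (hik : i ≠ k) (hil : i ≠ l) (hjk : j ≠ k) (hjl : j ≠ l)
    (hkl : k ≠ l) {y y' : G} (hy : D.InPQ (F.T i) y)
    (hyv : D.act y = sGL D.qf D.B (D.cls (F.T i)) (vf (2 ^ k.val))) (hy' : D.InPQ (F.T j) y')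
    (hyv' : D.act y' = sGL D.qf D.B (D.cls (F.T j)) (vf (2 ^ l.val))) : Commute y y' := by
  have hdot : ∀ a b : Fin 4, dot (2 ^ a.val) (2 ^ b.val) = if a = b then 1 else 0 := by decide +kernel
  set vk := ve (2 ^ k.val) + vf (2 ^ k.val) with hvk
  set vl := ve (2 ^ l.val) + vf (2 ^ l.val) with hvl
  have hq1 : ∀ a : Fin 4, D.qf (ve (2 ^ a.val) + vf (2 ^ a.val)) = 1 := fun a => by
    rw [D.space.add, qf_ve F.qp, qf_vf F.qp, B_ve_vf F.qp, hdot, if_pos rfl, zero_add, zero_add]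
  obtain ⟨g, hg, -, hgv⟩ := witt_step D.space (⊥ : Submodule (ZMod 2) V8) (x := vk) (x' := vl)
    (fun h => by
      have h1 := hq1 k
      rw [← hvk, (Submodule.mem_bot _).1 h, D.space.zero] at h1
      exact zero_ne_one h1)
    (fun h => by
      have h1 := hq1 l
      rw [← hvl, (Submodule.mem_bot _).1 h, D.space.zero] at h1
      exact zero_ne_one h1)
    ((hq1 k).trans (hq1 l).symm) (by simp)
  set rk := rGL D.qf vk with hrk
  set rl := rGL D.qf vl with hrl
  have hrkm : rk ∈ isometryGroup (ZMod 2) D.qf := rGL_mem' D.space (hq1 k)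
  have hgr : g * rk * g⁻¹ = rl := by
    rw [hrk, rGL_conj D.space (by rw [hq1 k]; exact one_ne_zero) hg, hgv]
  have hkk : rk⁻¹ = rk := rGL_inv_self D.space (hq1 k)
  have hΩ : rk * rl ∈ Cfsg.Geo.omegaGL D.qf := by
    let rk' : ↥(isometryGroup (ZMod 2) D.qf) := ⟨rk, hrkm⟩
    let g' : ↥(isometryGroup (ZMod 2) D.qf) := ⟨g, hg⟩
    refine Subgroup.mem_map.2 ⟨rk'⁻¹ * g' * rk'⁻¹⁻¹ * g'⁻¹,
      Subgroup.commutator_mem_commutator (Subgroup.mem_top rk'⁻¹) (Subgroup.mem_top g'), ?_⟩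
    simp only [map_mul, map_inv, Subgroup.subtype_apply, inv_inv, rk', g']
    rw [hkk, ← hgr]
    group
  obtain ⟨M, hMz, hM⟩ := D.act_surj _ hΩ
  have hiso := D.act_iso hMz
  have hfix : ∀ a : Fin 4, a ≠ k → a ≠ l → (D.act M).val *ᵥ ve (2 ^ a.val) = ve (2 ^ a.val) := by
    intro a hak hal
    rw [hM, mul_act, hrl, rGL_apply D.space (hq1 l), map_add, LinearMap.add_apply, B_ve_ve F.qp,
      B_vf_ve F.qp, hdot, if_neg hal.symm, add_zero, zero_smul, add_zero, hrk, rGL_apply D.space (hq1 k),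
      map_add, LinearMap.add_apply, B_ve_ve F.qp, B_vf_ve F.qp, hdot, if_neg hak.symm, add_zero,
      zero_smul, add_zero]
  have hswap : ∀ a : Fin 4, a = k ∨ a = l → (D.act M).val *ᵥ ve (2 ^ a.val) = vf (2 ^ a.val) := by
    intro a ha
    have one : ∀ x y : Fin 4, (rGL D.qf (ve (2 ^ x.val) + vf (2 ^ x.val))).val *ᵥ ve (2 ^ y.val) =
        if x = y then vf (2 ^ y.val) else ve (2 ^ y.val) := by
      intro x y
      rw [rGL_apply D.space (hq1 x), map_add, LinearMap.add_apply, B_ve_ve F.qp, B_vf_ve F.qp, hdot, zero_add]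
      by_cases h : x = y
      · subst h; rw [if_pos rfl, if_pos rfl, one_smul, ← add_assoc, vadd_self, zero_add]
      · rw [if_neg h, if_neg h, zero_smul, add_zero]
    have onef : ∀ x y : Fin 4, x ≠ y → (rGL D.qf (ve (2 ^ x.val) + vf (2 ^ x.val))).val *ᵥ vf (2 ^ y.val) =
        vf (2 ^ y.val) := by
      intro x y h
      rw [rGL_apply D.space (hq1 x), map_add, LinearMap.add_apply, B_ve_vf F.qp, B_vf_vf F.qp, hdot, if_neg h,
        add_zero, zero_smul, add_zero]
    rw [hM, mul_act, hrl, one l a]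
    rcases ha with rfl | rfl
    · rw [if_neg hkl.symm, hrk, one, if_pos rfl]
    · rw [if_pos rfl, hrk, onef _ _ hkl]
  have hmem : ∀ {i' k' : Fin 4} {c : G}, i' ≠ k → i' ≠ l → (k' = k ∨ k' = l) → i' ≠ k' →
      D.InPQ (F.T i') c → D.act c = sGL D.qf D.B (D.cls (F.T i')) (vf (2 ^ k'.val)) → M⁻¹ * c * M ∈ AA D := by
    intro i' k' c h1 h2 h3 h4 hc hcv
    refine mem_AA.2 ?_
    rintro w ⟨hwQ, a, ha, ea⟩
    refine commute_unconj M ?_
    have hw' : M * w * M⁻¹ ∈ D.Q := (Subgroup.mem_normalizer_iff.1 (D.ctx.norm M hMz) w).1 hwQ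
    have hB : ∀ x, D.B ((D.act M).val *ᵥ x) (D.cls (M * w * M⁻¹)) = D.B x (ve a) := fun x => by
      rw [D.act_cls M hMz w hwQ, ea, D.space.B_act hiso]
    refine ((F.pt i').comm ((F.pt i').inCQ_iff hw' |>.2 ?_) hc ?_ hcv).1 ?_
    · rw [F.cls_T, ← hfix i' h1 h2, hB, B_ve_ve F.qp]
    · rw [F.cls_T, B_ve_vf F.qp, hdot, if_neg h4]
    · rw [D.space.symm, ← hswap k' h3, hB, B_ve_ve F.qp]
  have h := F.abel _ (hmem hik hil (Or.inl rfl) hik hy hyv) _ (hmem hjk hjl (Or.inr rfl) hjl hy' hyv')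
  have := (Commute.conj_iff M).2 h
  rwa [show M * (M⁻¹ * y * M) * M⁻¹ = y by group, show M * (M⁻¹ * y' * M) * M⁻¹ = y' by group] at this

/-- The action of a normal form on the second half. -/
def tform (v : Fin 6 → ZMod 2) (r : ℕ) : ℕ :=
  let p : ZMod 2 → (ℕ → ℕ) → ℕ → ℕ := fun x f r => if x = 0 then r else f r
  p (v 0) (tvA 1 0) (p (v 1) (tvA 2 0) (p (v 2) (tvA 3 0) (p (v 3) (tvA 2 1) (p (v 4) (tvA 3 1)
    (p (v 5) (tvA 3 2) r)))))

theorem tform_inj : ∀ v w : Fin 6 → ZMod 2, (∀ r : Fin 16, tform v r = tform w r) → v = w := by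
  decide +kernel

namespace Setup

variable (S : Setup D)
include S

/-- A two-subgroup in general position. -/
theorem exists_two : ∃ K : Subgroup G, K ≤ Subgroup.normalizer (AA D : Set G) ∧
    K ≤ Subgroup.centralizer ({D.z} : Set G) ∧ K ⊓ AA D = ⊥ ∧ Nat.card ↥K = 2 ^ 10 := by
  classical
  set F := S.F
  have hdot : ∀ a b : Fin 4, dot (2 ^ a.val) (2 ^ b.val) = if a = b then 1 else 0 := by decide +kernel
  have hlift : ∀ i j : Fin 4, i ≠ j → ∃ d, D.InPQ (F.T i) d ∧
      D.act d = sGL D.qf D.B (D.cls (F.T i)) (vf (2 ^ j.val)) ∧ d ∈ Subgroup.normalizer (AA D : Set G) ∧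
      d * d = 1 := by
    intro i j h
    obtain ⟨d, hd, hdv, hN, -, -⟩ := exists_trans F h
    exact ⟨d, hd, hdv, hN, ((F.pt i).third hd (by rw [F.cls_T, B_ve_vf F.qp, hdot, if_neg h]) hdv).1
      (qf_vf F.qp _)⟩
  obtain ⟨a, ha, hav, haN, ha2⟩ := hlift 0 1 (by decide)
  obtain ⟨b, hb, hbv, hbN, hb2⟩ := hlift 1 2 (by decide)
  obtain ⟨c, hc, hcv, hcN, hc2⟩ := hlift 2 3 (by decide)
  have hBT : ∀ i j : Fin 4, i ≠ j → D.B (D.cls (F.T i)) (vf (2 ^ j.val)) = 0 := fun i j h => by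
    rw [F.cls_T, B_ve_vf F.qp, hdot, if_neg h]
  -- conjugation of labels
  have htr : ∀ (i j : Fin 4), i ≠ j → ∀ (x : G), D.InPQ (F.T i) x →
      D.act x = sGL D.qf D.B (D.cls (F.T i)) (vf (2 ^ j.val)) →
      (∀ r < 16, (D.act x).val *ᵥ vf r = vf (tvA j i r)) ∧
      (∀ e : Fin 4, e ≠ j → Commute x (F.T e)) ∧ (∀ e : Fin 4, e ≠ j → (D.act x).val *ᵥ ve (2 ^ e.val) = ve (2 ^ e.val)) := by
    intro i j hij x hx hxv
    have key : ∀ (i : Fin 4) (r : Fin 16), dot (2 ^ i.val) r = (if r.val.testBit i then 1 else 0) := by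
      decide +kernel
    refine ⟨fun r hr => ?_, fun e he => ?_, fun e he => ?_⟩
    · rw [hxv, sGL_apply D.space (F.pt i).cls_sing (hBT i j hij), F.cls_T, B_ve_vf F.qp, B_vf_vf F.qp,
        qf_vf F.qp, show dot (2 ^ i.val) r = _ from key i ⟨r, hr⟩]
      simp only [zero_mul, add_zero, zero_smul, tvA]
      cases r.testBit i.val <;> simp [vf_xor]
    · refine ((F.pt i).comm ⟨(F.pt e).mem, F.abel _ (F.T_mem e) _ (F.T_mem i)⟩ hx (hBT i j hij) hxv).1 ?_
      rw [hBT e j he]
    · rw [hxv, sGL_apply D.space (F.pt i).cls_sing (hBT i j hij), F.cls_T, B_ve_ve F.qp, B_vf_ve F.qp,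
        qf_vf F.qp, hdot, if_neg he.symm]
      simp
  have hcommutator : ∀ (i j j' : Fin 4), i ≠ j → i ≠ j' → ∀ (x q : G), D.InPQ (F.T i) x →
      D.act x = sGL D.qf D.B (D.cls (F.T i)) (vf (2 ^ j.val)) → x * x = 1 → Commute q D.z → q * q = 1 →
      Commute q (F.T i) → (D.act q).val *ᵥ ve (2 ^ i.val) = ve (2 ^ i.val) →
      (D.act q).val *ᵥ vf (2 ^ j.val) = vf (2 ^ j.val) + vf (2 ^ j'.val) →
      D.InPQ (F.T i) (x * (q * x * q)) ∧
        D.act (x * (q * x * q)) = sGL D.qf D.B (D.cls (F.T i)) (vf (2 ^ j'.val)) ∧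
        x * (q * x * q) * (x * (q * x * q)) = 1 ∧
        Commute x (x * (q * x * q)) ∧ Commute q (x * (q * x * q)) := by
    intro i j j' hij hij' x q hx hxv hx2 hqz hq2 hqT hqe hqf
    have hp := F.pt i
    have hqi : q⁻¹ = q := inv_eq_of_mul_eq_one_right hq2
    have hxi : x⁻¹ = x := inv_eq_of_mul_eq_one_right hx2
    have hcm : D.InPQ (F.T i) (q * x * q⁻¹) := hp.pq_conj hqz hqT hx
    rw [hqi] at hcm
    have hd := hp.pq_mul hx hcm
    have hpe : (D.act q).val *ᵥ D.cls (F.T i) = D.cls (F.T i) := by rw [F.cls_T]; exact hqe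
    have hdv : D.act (x * (q * x * q)) = sGL D.qf D.B (D.cls (F.T i)) (vf (2 ^ j'.val)) := by
      have e : D.act (q * x * q⁻¹) = sGL D.qf D.B (D.cls (F.T i)) (vf (2 ^ j.val) + vf (2 ^ j'.val)) := by
        rw [act_conj hqz hx.2, hxv, sGL_conj D.space hp.cls_sing (hBT i j hij) (D.act_iso hqz), hpe, hqf]
      rw [hqi] at e
      rw [D.act_mul _ _ hx.2 hcm.2, hxv, e, sGL_mul D.space hp.cls_sing (hBT i j hij)
        (by rw [map_add, hBT i j hij, hBT i j' hij', add_zero]), ← add_assoc, vadd_self, zero_add]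
    have hd2 := (hp.third hd (hBT i j' hij') hdv).1 (qf_vf F.qp _)
    have hxd : Commute x (x * (q * x * q)) := by
      have h := hp.swap_pq hx hd (hBT i j hij) (hBT i j' hij') hxv hdv
      rw [B_vf_vf F.qp] at h
      simpa [Data.zt, Commute, SemiconjBy] using h
    refine ⟨hd, hdv, hd2, hxd, mul_inv_eq_iff_eq_mul.1 ?_⟩
    calc q * (x * (q * x * q)) * q⁻¹ = (q * x * q) * x * (q * q⁻¹) := by group
      _ = (x * (q * x * q))⁻¹ := by
          rw [mul_inv_cancel, mul_one, mul_inv_rev, mul_inv_rev, mul_inv_rev, hxi, hqi]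
          group
      _ = _ := inv_eq_of_mul_eq_one_right hd2
  obtain ⟨ta, taT, tae⟩ := htr 0 1 (by decide) a ha hav
  obtain ⟨tb, tbT, tbe⟩ := htr 1 2 (by decide) b hb hbv
  obtain ⟨tc, tcT, tce⟩ := htr 2 3 (by decide) c hc hcv
  set d := a * (b * a * b) with hd_def
  obtain ⟨hd, hdv, hd2, had, hbd⟩ := hcommutator 0 1 2 (by decide) (by decide) a b ha hav ha2 hb.2 hb2
    (tbT 0 (by decide)) (tbe 0 (by decide)) (by rw [tb _ (by norm_num), ← vf_xor]; decide +kernel)
  set e := b * (c * b * c) with he_def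
  obtain ⟨he, hev, he2, hbe, hce⟩ := hcommutator 1 2 3 (by decide) (by decide) b c hb hbv hb2 hc.2 hc2
    (tcT 1 (by decide)) (tce 1 (by decide)) (by rw [tc _ (by norm_num), ← vf_xor]; decide +kernel)
  obtain ⟨te, teT, tee⟩ := htr 1 3 (by decide) e he hev
  set f := a * (e * a * e) with hf_def
  obtain ⟨hf, hfv, hf2, haf, hef⟩ := hcommutator 0 1 3 (by decide) (by decide) a e ha hav ha2 he.2 he2
    (teT 0 (by decide)) (tee 0 (by decide)) (by rw [te _ (by norm_num), ← vf_xor]; decide +kernel)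
  obtain ⟨td, -, -⟩ := htr 0 2 (by decide) d hd hdv
  obtain ⟨tf, -, -⟩ := htr 0 3 (by decide) f hf hfv
  have hac : Commute a c := cross_comm F (by decide) (by decide) (by decide) (by decide) (by decide) ha hav hc hcv
  have hbf : Commute b f := (cross_comm F (by decide) (by decide) (by decide) (by decide) (by decide) hb hbv hf hfv)
  have hde : Commute d e := cross_comm F (by decide) (by decide) (by decide) (by decide) (by decide) hd hdv he hev
  have hdf : Commute d f := by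
    have h := (F.pt 0).swap_pq hd hf (hBT 0 2 (by decide)) (hBT 0 3 (by decide)) hdv hfv
    rw [B_vf_vf F.qp] at h
    simpa [Data.zt, Commute, SemiconjBy] using h
  have hba : b * a = a * d * b := by
    rw [hd_def, ← mul_assoc a a, ha2, one_mul, mul_assoc _ b b, hb2, mul_one]
  have hcb : c * b = b * e * c := by
    rw [he_def, ← mul_assoc b b, hb2, one_mul, mul_assoc _ c c, hc2, mul_one]
  have heae : e * a * e = a * f := by rw [hf_def, ← mul_assoc a a, ha2, one_mul]
  have hcf : Commute c f := by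
    rw [hf_def]
    exact hac.symm.mul_right (((hce).mul_right hac.symm).mul_right hce)
  have hcd : c * d = d * f * c := by
    have hcbc : c * b * c = b * e := by rw [hcb, mul_assoc, hc2, mul_one]
    have h1 : c * d * c = a * (b * e) * a * (b * e) := by
      calc c * d * c = (c * a) * b * a * (b * c) := by rw [hd_def]; group
        _ = (a * c) * b * (c * c) * a * (b * c) := by rw [hac.eq, hc2, mul_one]
        _ = a * (c * b * c) * (c * a) * (b * c) := by group
        _ = a * (c * b * c) * (a * c) * (b * c) := by rw [hac.eq]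
        _ = a * (c * b * c) * a * (c * b * c) := by group
        _ = _ := by rw [hcbc]
    have h2 : a * (b * e) * a * (b * e) = d * f := by
      calc a * (b * e) * a * (b * e) = a * b * (e * a) * (b * e) := by simp only [mul_assoc]
        _ = a * b * (e * a) * (e * b) := by rw [hbe.eq]
        _ = a * b * (e * a * e) * b := by simp only [mul_assoc]
        _ = a * b * a * (f * b) := by rw [heae]; group
        _ = a * b * a * (b * f) := by rw [hbf.eq]
        _ = _ := by rw [hd_def]; group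
    rw [← h2, ← h1, mul_assoc _ c c, hc2, mul_one]
  let X : (Fin 6 → ZMod 2) → G := nform a b c d e f
  set K1 := Subgroup.closure ({a, b, c} : Set G) with hK1
  have hgenC : ∀ x ∈ ({a, b, c} : Set G), x ∈ K1 := fun x hx => Subgroup.subset_closure hx
  have haK := hgenC a (by simp)
  have hbK := hgenC b (by simp)
  have hcK := hgenC c (by simp)
  have hdK : d ∈ K1 := by rw [hd_def]; exact mul_mem haK (mul_mem (mul_mem hbK haK) hbK)
  have heK : e ∈ K1 := by rw [he_def]; exact mul_mem hbK (mul_mem (mul_mem hcK hbK) hcK)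
  have hfK : f ∈ K1 := by rw [hf_def]; exact mul_mem haK (mul_mem (mul_mem heK haK) heK)
  have hpk : ∀ {x : G}, x ∈ K1 → ∀ i : ZMod 2, pick x i ∈ K1 := fun hx i => by
    rcases bit i with rfl | rfl <;> simp [hx, one_mem]
  have hXK : ∀ v, X v ∈ K1 := fun v =>
    mul_mem (mul_mem (mul_mem (mul_mem (mul_mem (hpk haK _) (hpk hdK _)) (hpk hfK _)) (hpk hbK _)) (hpk heK _))
      (hpk hcK _)
  have hX : ∀ x ∈ K1, ∃ v, X v = x :=
    normal_form ha2 hb2 hc2 hd2 he2 hf2 hac hbd hbf hce hcf hba hcb hcd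
  -- the action on the second half
  have hpick : ∀ {x : G} {t : ℕ → ℕ}, Commute x D.z → (∀ r < 16, t r < 16) →
      (∀ r < 16, (D.act x).val *ᵥ vf r = vf (t r)) → ∀ (i : ZMod 2) (r : ℕ), r < 16 →
      Commute (pick x i) D.z ∧ (D.act (pick x i)).val *ᵥ vf r = vf (if i = 0 then r else t r) ∧
        (if i = 0 then r else t r) < 16 := by
    intro x t hxz ht hact i r hr
    rcases bit i with rfl | rfl
    · rw [pick_zero, D.act_one, if_pos rfl]
      exact ⟨Commute.one_left _, by simp, hr⟩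
    · rw [pick_one, if_neg one_ne_zero]
      exact ⟨hxz, hact r hr, ht r hr⟩
  have htvlt : ∀ i j r, i < 4 → r < 16 → tvA i j r < 16 := by
    intro i j r hi hr
    unfold tvA
    cases r.testBit j
    · exact hr
    · exact Nat.xor_lt_two_pow (n := 4) hr (lt_of_lt_of_eq (Nat.pow_lt_pow_right (by norm_num) hi) (by norm_num))
  have hactX : ∀ v, ∀ r < 16, (D.act (X v)).val *ᵥ vf r = vf (tform v r) := by
    intro v r hr
    obtain ⟨z5, e5, l5⟩ := hpick hc.2 (fun r h => htvlt 3 2 r (by norm_num) h) tc (v 5) r hr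
    obtain ⟨z4, e4, l4⟩ := hpick he.2 (fun r h => htvlt 3 1 r (by norm_num) h) te (v 4) _ l5
    obtain ⟨z3, e3, l3⟩ := hpick hb.2 (fun r h => htvlt 2 1 r (by norm_num) h) tb (v 3) _ l4
    obtain ⟨z2, e2, l2⟩ := hpick hf.2 (fun r h => htvlt 3 0 r (by norm_num) h) tf (v 2) _ l3
    obtain ⟨z1, e1, l1⟩ := hpick hd.2 (fun r h => htvlt 2 0 r (by norm_num) h) td (v 1) _ l2
    obtain ⟨z0, e0, -⟩ := hpick ha.2 (fun r h => htvlt 1 0 r (by norm_num) h) ta (v 0) _ l1
    show (D.act (pick a (v 0) * pick d (v 1) * pick f (v 2) * pick b (v 3) * pick e (v 4) * pick c (v 5))).val *ᵥ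
      vf r = _
    rw [D.act_mul _ _ ((((z0.mul_left z1).mul_left z2).mul_left z3).mul_left z4) z5,
      D.act_mul _ _ (((z0.mul_left z1).mul_left z2).mul_left z3) z4,
      D.act_mul _ _ ((z0.mul_left z1).mul_left z2) z3, D.act_mul _ _ (z0.mul_left z1) z2, D.act_mul _ _ z0 z1,
      mul_act, mul_act, mul_act, mul_act, mul_act, e5, e4, e3, e2, e1, e0]
    rfl
  have hK1z : ∀ x ∈ K1, Commute x D.z := by
    intro x hx
    have : K1 ≤ Subgroup.centralizer ({D.z} : Set G) := by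
      rw [hK1, Subgroup.closure_le]
      rintro y (rfl | rfl | rfl)
      exacts [Subgroup.mem_centralizer_singleton_iff.2 ha.2.eq, Subgroup.mem_centralizer_singleton_iff.2 hb.2.eq,
        Subgroup.mem_centralizer_singleton_iff.2 hc.2.eq]
    exact Subgroup.mem_centralizer_singleton_iff.1 (this hx)
  -- the part in the extraspecial subgroup
  obtain ⟨w1, hw1, ew1⟩ := D.cls_surj (vf 1)
  have hconjQ : ∀ {x q : G}, Commute x D.z → q ∈ D.Q → x * q * x⁻¹ * q⁻¹ ∈ D.Q := fun hx hq =>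
    mul_mem ((Subgroup.mem_normalizer_iff.1 (D.ctx.norm _ hx) _).1 hq) (inv_mem hq)
  have hcl : ∀ {x q : G} {r r' : ℕ}, Commute x D.z → q ∈ D.Q → D.cls q = vf r →
      (D.act x).val *ᵥ vf r = vf r' → D.cls (x * q * x⁻¹ * q⁻¹) = vf (r' ^^^ r) := fun {x q r r'} hx hq h h' => by
    rw [D.cls_mul _ ((Subgroup.mem_normalizer_iff.1 (D.ctx.norm _ hx) _).1 hq) _ (inv_mem hq),
      D.cls_inv hq, D.act_cls x hx q hq, h, h', vf_xor]
  set w2 := a * w1 * a⁻¹ * w1⁻¹ with hw2d
  have hw2 : w2 ∈ D.Q := hconjQ ha.2 hw1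
  have ew2 : D.cls w2 = vf 2 := (hcl ha.2 hw1 ew1 (ta 1 (by norm_num))).trans (by decide +kernel)
  set w3 := b * w2 * b⁻¹ * w2⁻¹ with hw3d
  have hw3 : w3 ∈ D.Q := hconjQ hb.2 hw2
  have ew3 : D.cls w3 = vf 4 := (hcl hb.2 hw2 ew2 (tb 2 (by norm_num))).trans (by decide +kernel)
  set w4 := c * w3 * c⁻¹ * w3⁻¹ with hw4d
  have hw4 : w4 ∈ D.Q := hconjQ hc.2 hw3
  have ew4 : D.cls w4 = vf 8 := (hcl hc.2 hw3 ew3 (tc 4 (by norm_num))).trans (by decide +kernel)
  set L := [w1, w2, w3, w4] with hLd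
  have hL : ∀ w ∈ L, w ∈ D.Q ∧ ∃ k : Fin 4, D.cls w = vf (2 ^ k.val) := by
    simp only [hLd, List.mem_cons, List.not_mem_nil, or_false]
    rintro w (rfl | rfl | rfl | rfl)
    exacts [⟨hw1, 0, ew1⟩, ⟨hw2, 1, ew2⟩, ⟨hw3, 2, ew3⟩, ⟨hw4, 3, ew4⟩]
  have hLc : ∀ u ∈ L, ∀ w ∈ L, Commute u w := fun u hu w hw => by
    obtain ⟨hu', k, ek⟩ := hL u hu
    obtain ⟨hw', k', ek'⟩ := hL w hw
    exact (D.cls_comm u hu' w hw').2 (by rw [ek, ek', B_vf_vf F.qp])
  have hL2 : ∀ u ∈ L, u * u = 1 := fun u hu => by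
    obtain ⟨hu', k, ek⟩ := hL u hu
    exact (D.cls_sq u hu').2 (by rw [ek, qf_vf F.qp])
  let W0 : Subgroup G :=
    { carrier := {g | ∃ r < 16, gcombo L r = g}
      one_mem' := ⟨0, by norm_num, gcombo_zero L⟩
      mul_mem' := by
        rintro _ _ ⟨r, hr, rfl⟩ ⟨r', hr', rfl⟩
        exact ⟨r ^^^ r', Nat.xor_lt_two_pow (n := 4) hr hr', gcombo_xor hLc hL2 r r'⟩
      inv_mem' := by
        rintro _ ⟨r, hr, rfl⟩
        exact ⟨r, hr, eq_inv_of_mul_eq_one_left (by rw [← gcombo_xor hLc hL2, Nat.xor_self, gcombo_zero])⟩ }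
  have hW0 : ∀ r < 16, gcombo L r ∈ D.Q ∧ D.cls (gcombo L r) = vf r := by
    refine xor_all (P := fun r => gcombo L r ∈ D.Q ∧ D.cls (gcombo L r) = vf r) 4
      ⟨by rw [gcombo_zero]; exact one_mem _, by rw [gcombo_zero, D.cls_one, vf_zero]⟩ (fun x y _ _ hx hy => ?_)
      (fun k hk => ?_)
    · rw [gcombo_xor hLc hL2]
      exact ⟨mul_mem hx.1 hy.1, by rw [D.cls_mul _ hx.1 _ hy.1, hx.2, hy.2, vf_xor]⟩
    · interval_cases k <;> simp [hLd, gcombo, hw1, hw2, hw3, hw4, ew1, ew2, ew3, ew4]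
  have hmemW : ∀ w ∈ L, w ∈ W0 := by
    simp only [hLd, List.mem_cons, List.not_mem_nil, or_false]
    rintro w (rfl | rfl | rfl | rfl)
    exacts [⟨1, by norm_num, by simp [hLd, gcombo]⟩, ⟨2, by norm_num, by simp [hLd, gcombo]⟩,
      ⟨4, by norm_num, by simp [hLd, gcombo]⟩, ⟨8, by norm_num, by simp [hLd, gcombo]⟩]
  have hcfix : ∀ (i j : Fin 4) (x w : G) (k : Fin 4), i ≠ j → D.InPQ (F.T i) x →
      D.act x = sGL D.qf D.B (D.cls (F.T i)) (vf (2 ^ j.val)) → w ∈ D.Q → D.cls w = vf (2 ^ k.val) → k ≠ i →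
      x * w * x⁻¹ = w := by
    intro i j x w k hij hx hxv hwQ ew hki
    have hw' : D.InCQ (F.T i) w := ((F.pt i).inCQ_iff hwQ).2 (by rw [ew, hBT i k hki.symm])
    exact mul_inv_eq_iff_eq_mul.2 (((F.pt i).comm hw' hx (hBT i j hij) hxv).1 (by rw [ew, B_vf_vf F.qp])).eq
  have hnormW : ∀ x ∈ ({a, b, c} : Set G), ∀ g ∈ W0, x * g * x⁻¹ ∈ W0 := by
    intro x hx g hg
    obtain ⟨r, -, rfl⟩ := hg
    have hxL : ∀ w ∈ L, x * w * x⁻¹ ∈ W0 := by
      simp only [hLd, List.mem_cons, List.not_mem_nil, or_false]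
      have m1 := hmemW w1 (by simp [hLd])
      have m2 := hmemW w2 (by simp [hLd])
      have m3 := hmemW w3 (by simp [hLd])
      have m4 := hmemW w4 (by simp [hLd])
      rcases hx with rfl | rfl | rfl <;> rintro w (rfl | rfl | rfl | rfl)
      · rw [show x * w * x⁻¹ = w2 * w by rw [hw2d]; group]; exact mul_mem m2 m1
      · rw [hcfix 0 1 x _ 1 (by decide) ha hav hw2 ew2 (by decide)]; exact m2
      · rw [hcfix 0 1 x _ 2 (by decide) ha hav hw3 ew3 (by decide)]; exact m3
      · rw [hcfix 0 1 x _ 3 (by decide) ha hav hw4 ew4 (by decide)]; exact m4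
      · rw [hcfix 1 2 x _ 0 (by decide) hb hbv hw1 ew1 (by decide)]; exact m1
      · rw [show x * w2 * x⁻¹ = w3 * w2 by rw [hw3d]; group]; exact mul_mem m3 m2
      · rw [hcfix 1 2 x _ 2 (by decide) hb hbv hw3 ew3 (by decide)]; exact m3
      · rw [hcfix 1 2 x _ 3 (by decide) hb hbv hw4 ew4 (by decide)]; exact m4
      · rw [hcfix 2 3 x _ 0 (by decide) hc hcv hw1 ew1 (by decide)]; exact m1
      · rw [hcfix 2 3 x _ 1 (by decide) hc hcv hw2 ew2 (by decide)]; exact m2
      · rw [show x * w3 * x⁻¹ = w4 * w3 by rw [hw4d]; group]; exact mul_mem m4 m3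
      · rw [hcfix 2 3 x _ 3 (by decide) hc hcv hw4 ew4 (by decide)]; exact m4
    have hmap : gcombo L r ∈ W0.comap (MulAut.conj x).toMonoidHom := gcombo_mem hxL r
    exact hmap
  have hnorm : K1 ≤ Subgroup.normalizer (W0 : Set G) := by
    rw [hK1, Subgroup.closure_le]
    intro x hx
    refine Subgroup.mem_normalizer_iff.2 fun g => ⟨hnormW x hx g, fun h => ?_⟩
    have hx2 : x * x = 1 := by rcases hx with rfl | rfl | rfl <;> assumption
    have := hnormW x hx _ h
    rwa [show x * (x * g * x⁻¹) * x⁻¹ = (x * x) * g * (x * x)⁻¹ by group, hx2, one_mul, inv_one, mul_one] at this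
  let K : Subgroup G :=
    { carrier := {g | ∃ w ∈ W0, ∃ x ∈ K1, w * x = g}
      one_mem' := ⟨1, one_mem _, 1, one_mem _, one_mul _⟩
      mul_mem' := by
        rintro _ _ ⟨w, hw, x, hx, rfl⟩ ⟨w', hw', x', hx', rfl⟩
        exact ⟨w * (x * w' * x⁻¹), mul_mem hw ((Subgroup.mem_normalizer_iff.1 (hnorm hx) w').1 hw'),
          x * x', mul_mem hx hx', by group⟩
      inv_mem' := by
        rintro _ ⟨w, hw, x, hx, rfl⟩
        refine ⟨x⁻¹ * w⁻¹ * x⁻¹⁻¹, (Subgroup.mem_normalizer_iff.1 (hnorm (inv_mem hx)) _).1 (inv_mem hw),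
          x⁻¹, inv_mem hx, by group⟩ }
  have hK1N : K1 ≤ Subgroup.normalizer (AA D : Set G) := by
    rw [hK1, Subgroup.closure_le]
    rintro x (rfl | rfl | rfl) <;> assumption
  -- products are determined by their classes
  have hdet : ∀ r < 16, ∀ v, D.act (gcombo L r * X v) = D.act (X v) := fun r hr v => by
    rw [D.act_mul _ _ (D.ctx.central _ (hW0 r hr).1).symm (hK1z _ (hXK v)), D.act_q (hW0 r hr).1, one_mul]
  have hzero : ∀ v, D.act (X v) = 1 → v = 0 := fun v hv => by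
    refine tform_inj v 0 fun r => ?_
    have h0 : ∀ r : Fin 16, tform 0 r = r.val := by decide +kernel
    have hlt : ∀ (v : Fin 6 → ZMod 2) (r : Fin 16), tform v r < 16 := by decide +kernel
    rw [h0]
    refine vf_inj (hlt v r) r.2 ?_
    rw [← hactX v r r.2, hv, Units.val_one, Matrix.one_mulVec]
  refine ⟨K, ?_, ?_, ?_, ?_⟩
  · rintro _ ⟨w, ⟨r, hr, rfl⟩, x, hx, rfl⟩
    exact mul_mem (S.q_norm (hW0 r hr).1) (hK1N hx)
  · rintro _ ⟨w, ⟨r, hr, rfl⟩, x, hx, rfl⟩
    exact Subgroup.mem_centralizer_singleton_iff.2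
      ((D.ctx.central _ (hW0 r hr).1).symm.mul_left (hK1z x hx)).eq
  · rw [Subgroup.eq_bot_iff_forall]
    rintro _ ⟨⟨w, ⟨r, hr, rfl⟩, x, hx, rfl⟩, hA⟩
    obtain ⟨v, rfl⟩ := hX x hx
    obtain ⟨u, hu, eu⟩ := act_AA F.qp hA
    rw [hdet r hr v] at eu
    -- a radical element keeping the second half is trivial
    have hu0 : u = 0 := by
      refine congrArg Fin.val (nN_inj ⟨u, hu⟩ 0 ?_)
      ext p q
      have h := congrFun (hactX v (2 ^ q.val) (pow_lt_16 q)) (Sum.inl p)
      rw [eu, nU_inl] at h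
      have hev : ∀ i j : Fin 4, ev (2 ^ i.val) j = if j = i then 1 else 0 := by decide +kernel
      simp [vf, hev] at h
      rw [h, Fin.val_zero, nN_zero]
      rfl
    rw [hu0, nU_zero] at eu
    have hv := hzero v eu
    subst hv
    have hX0 : X 0 = 1 := by simp [X, nform]
    rw [hX0, mul_one] at hA ⊢
    obtain ⟨hq, hc'⟩ := hW0 r hr
    have hWS := WS_of_perp F.qp hq (mem_AA.1 hA)
    obtain ⟨-, k, hk, ek⟩ := hWS
    have hr0 : r = 0 := vf_inj hr (by norm_num) (funext fun i => by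
      cases i with
      | inl i => simp [vf]
      | inr i =>
        have := congrFun (hc'.symm.trans ek) (Sum.inr i)
        simpa [vf, ve, ev_zero] using this)
    rw [hr0, gcombo_zero]
  · have hbij : Function.Bijective (fun p : Fin 16 × (Fin 6 → ZMod 2) =>
        (⟨gcombo L p.1 * X p.2, gcombo L p.1, ⟨p.1, p.1.2, rfl⟩, X p.2, hXK _, rfl⟩ : K)) := by
      refine ⟨fun p q h => ?_, ?_⟩
      · have h' : gcombo L p.1 * X p.2 = gcombo L q.1 * X q.2 := congrArg Subtype.val h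
        have hact : D.act (X p.2) = D.act (X q.2) := by
          rw [← hdet _ p.1.2, ← hdet _ q.1.2, h']
        have hv : p.2 = q.2 := tform_inj _ _ fun r => by
          have hlt : ∀ (v : Fin 6 → ZMod 2) (r : Fin 16), tform v r < 16 := by decide +kernel
          refine vf_inj (hlt _ r) (hlt _ r) ?_
          rw [← hactX _ r r.2, ← hactX _ r r.2, hact]
        rw [hv] at h'
        have hg := mul_right_cancel h'
        refine Prod.ext (Fin.ext (vf_inj p.1.2 q.1.2 ?_)) hv
        rw [← (hW0 _ p.1.2).2, ← (hW0 _ q.1.2).2, hg]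
      · rintro ⟨_, w, ⟨r, hr, rfl⟩, x, hx, rfl⟩
        obtain ⟨v, rfl⟩ := hX x hx
        exact ⟨(⟨r, hr⟩, v), rfl⟩
    rw [← Nat.card_congr (Equiv.ofBijective _ hbij), Nat.card_prod, Nat.card_fun, Nat.card_zmod,
      Nat.card_eq_fintype_card, Nat.card_eq_fintype_card, Fintype.card_fin, Fintype.card_fin]
    norm_num

end Setup

end Cfsg.Lib.CoOneLocal
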