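import Cfsg.Agent.Lib.CoOneLocal.Mathieu
import Cfsg.Agent.Lib.CoOneLocal.Split
import Cfsg.Agent.Lib.Solv.GaschutzAbelian

/-!
# The large two-local subgroup of a group of Conway type

The centralizer of the preimage of a maximal totally singular subspace is elementary abelian of order
`2 ^ 11`; its normalizer is a split extension by the Mathieu group of degree twenty-four and has two
orbits on the involutions of this subgroup.
-/

set_option autoImplicit false
set_option linter.style.haveILetI false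
set_option linter.unusedSectionVars false

namespace Cfsg.Lib.CoOneLocal

open Cfsg Module Cfsg.Lib.Linear.Orth Cfsg.Lib.Extra.Wide Cfsg.Lib.Concrete
open scoped Matrix

/-- A word in the transvections, applied to a point. -/
def runW (w : List (ℕ × ℕ)) (a : ℕ) : ℕ := w.foldr (fun p x => tvA p.1 p.2 x) a

theorem runW_lt : ∀ w : List (ℕ × ℕ), (∀ p ∈ w, p ∈ tvAll) → ∀ a < 16, runW w a < 16
  | [], _, _, ha => ha
  | p :: w, h, a, ha =>
    (tvA_lt p (h p List.mem_cons_self) _ (runW_lt w (fun q hq => h q (List.mem_cons_of_mem _ hq)) a ha)).1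

theorem tvAll_bounds : ∀ p ∈ tvAll, p.1 < 4 ∧ p.2 < 4 ∧ p.1 ≠ p.2 := by decide +kernel

theorem periods :
    ((runW [(0, 1), (0, 2), (1, 0), (2, 3), (3, 1)])^[5] 1 = 1 ∧
      runW [(0, 1), (0, 2), (1, 0), (2, 3), (3, 1)] 1 ≠ 1) ∧
    ((runW [(0, 1), (1, 2), (2, 0)])^[7] 1 = 1 ∧ runW [(0, 1), (1, 2), (2, 0)] 1 ≠ 1) := by
  decide +kernel

variable {G : Type*} [Group G] [Finite G] {D : Data G I8}

theorem word_lift (F : Gen D) : ∀ w : List (ℕ × ℕ), (∀ p ∈ w, p ∈ tvAll) →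
    ∃ n, n ∈ Subgroup.normalizer (AA D : Set G) ∧ Commute n D.z ∧
      ∀ a < 16, (D.act n).val *ᵥ ve a = ve (runW w a)
  | [], _ => by
    refine ⟨1, one_mem _, Commute.one_left _, fun a _ => ?_⟩
    have h : D.act 1 = 1 := by
      have e := D.act_mul 1 1 (Commute.one_left _) (Commute.one_left _)
      rw [one_mul] at e
      exact mul_left_cancel (e.symm.trans (mul_one _).symm)
    rw [h, Units.val_one, Matrix.one_mulVec]
    rfl
  | p :: w, h => by
    obtain ⟨n, hn, hz, ha⟩ := word_lift F w fun q hq => h q (List.mem_cons_of_mem _ hq)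
    obtain ⟨h1, h2, h3⟩ := tvAll_bounds p (h p List.mem_cons_self)
    obtain ⟨d, hd, -, hdN, hda, -⟩ := exists_trans F (i := ⟨p.1, h1⟩) (j := ⟨p.2, h2⟩)
      fun e => h3 (congrArg Fin.val e)
    refine ⟨d * n, mul_mem hdN hn, hd.2.mul_left hz, fun a ha' => ?_⟩
    rw [D.act_mul _ _ hd.2 hz, Units.val_mul, ← Matrix.mulVec_mulVec, ha a ha',
      hda _ (runW_lt w (fun q hq => h q (List.mem_cons_of_mem _ hq)) a ha')]
    rfl

theorem prime_dvd_stab (F : Gen D) {p : ℕ} (hp : p.Prime) (w : List (ℕ × ℕ)) (hw : ∀ q ∈ w, q ∈ tvAll)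
    (hper : (runW w)^[p] 1 = 1) (hmove : runW w 1 ≠ 1) :
    p ∣ Nat.card ↥(Subgroup.normalizer (AA D : Set G) ⊓ Subgroup.centralizer ({D.z} : Set G)) := by
  obtain ⟨n, hn, hz, ha⟩ := word_lift F w hw
  have key : ∀ k : ℕ, (runW w)^[k] 1 < 16 ∧ (D.act (n ^ k)).val *ᵥ ve 1 = ve ((runW w)^[k] 1) := by
    intro k
    induction k with
    | zero =>
      obtain ⟨m, -, hm, hm'⟩ := word_lift F [] (by simp)
      have h : D.act 1 = 1 := by
        have e := D.act_mul 1 1 (Commute.one_left _) (Commute.one_left _)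
        rw [one_mul] at e
        exact mul_left_cancel (e.symm.trans (mul_one _).symm)
      exact ⟨by norm_num, by rw [pow_zero, h, Units.val_one, Matrix.one_mulVec]; rfl⟩
    | succ k ih =>
      rw [Function.iterate_succ', Function.comp_apply]
      refine ⟨runW_lt w hw _ ih.1, ?_⟩
      rw [pow_succ', D.act_mul _ _ hz (hz.pow_left k), Units.val_mul, ← Matrix.mulVec_mulVec, ih.2, ha _ ih.1]
  have hfix : (runW w)^[orderOf n] 1 = 1 := by
    refine ve_inj (key _).1 (by norm_num) ?_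
    rw [← (key _).2, pow_orderOf_eq_one, ← pow_zero n, (key 0).2]
    rfl
  refine dvd_trans ?_ (Subgroup.orderOf_dvd_natCard _ ⟨hn, Subgroup.mem_centralizer_singleton_iff.2 hz⟩)
  by_contra hd
  have h1 : Function.IsPeriodicPt (runW w) p 1 := hper
  have h2 : Function.IsPeriodicPt (runW w) (orderOf n) 1 := hfix
  have h3 := h1.gcd h2
  rw [(hp.coprime_iff_not_dvd.2 hd).gcd_eq_one] at h3
  exact hmove h3

theorem exists_index {L g : ℕ} (h : (L, g) ∈ cases) :
    ∃ i : Fin 8, g = (cases.getD i.val (0, 0)).2 := by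
  obtain ⟨i, hi, e⟩ := List.mem_iff_getElem.1 h
  have h8 : cases.length = 8 := rfl
  refine ⟨⟨i, h8 ▸ hi⟩, ?_⟩
  rw [List.getD_eq_getElem _ _ hi, e]

/-- The parameters of the model, the order of the point stabilizer and the splitting. -/
theorem Setup.exists_structure (S : Setup D) :
    ∃ (i : Fin 8) (g : ℕ), g = (cases.getD i.val (0, 0)).2 ∧
      (∀ m < 2048, (S.Orb (Subgroup.normalizer (AA D : Set G)) m ↔ incand g m = true)) ∧
      2 ^ 21 * 35 ∣
        Nat.card ↥(Subgroup.normalizer (AA D : Set G) ⊓ Subgroup.centralizer ({D.z} : Set G)) ∧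
      ∃ K : Subgroup ↥(Subgroup.normalizer (AA D : Set G)),
        ((AA D).subgroupOf (Subgroup.normalizer (AA D : Set G))).IsComplement' K := by
  classical
  obtain ⟨g, hc, -, horb⟩ := S.exists_model
  obtain ⟨i, hg⟩ := exists_index hc
  set N := Subgroup.normalizer (AA D : Set G) with hN
  set C := N ⊓ Subgroup.centralizer ({D.z} : Set G) with hC
  set A₁ := (AA D).subgroupOf N with hA₁
  haveI : A₁.Normal := Subgroup.normal_in_normalizer
  haveI : IsMulCommutative ↥A₁ := ⟨⟨fun a b => Subtype.ext (Subtype.ext (S.F.abel _ a.2 _ b.2).eq)⟩⟩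
  have hcA : Nat.card ↥A₁ = 2 ^ 11 := by
    rw [Nat.card_congr (Subgroup.subgroupOfEquivOfLe Subgroup.le_normalizer).toEquiv, S.F.card_AA]
  obtain ⟨K, hKN, hKz, hKA, hKc⟩ := S.exists_two
  set K₁ := K.subgroupOf N with hK₁
  have hcK : Nat.card ↥K₁ = 2 ^ 10 := by
    rw [Nat.card_congr (Subgroup.subgroupOfEquivOfLe hKN).toEquiv, hKc]
  have hdisj : K₁ ⊓ A₁ = ⊥ := by
    refine (Subgroup.eq_bot_iff_forall _).2 fun x hx => Subtype.ext ?_
    have hm : (x : G) ∈ K ⊓ AA D := hx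
    rw [hKA, Subgroup.mem_bot] at hm
    exact hm
  set U := A₁ ⊔ K₁ with hU
  have hcU : Nat.card ↥U = 2 ^ 21 := by
    let f : ↥A₁ × ↥K₁ → ↥U := fun p =>
      ⟨p.1 * p.2, mul_mem (Subgroup.mem_sup_left p.1.2) (Subgroup.mem_sup_right p.2.2)⟩
    have hf : Function.Bijective f := by
      constructor
      · rintro ⟨a, k⟩ ⟨a', k'⟩ h
        have e : (a : ↥N) * k = a' * k' := congrArg Subtype.val h
        have h1 : (k : ↥N) * (k' : ↥N)⁻¹ = (a : ↥N)⁻¹ * a' := by
          rw [eq_inv_mul_iff_mul_eq, ← mul_assoc, e, mul_inv_cancel_right]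
        have h2 : (k : ↥N) * (k' : ↥N)⁻¹ ∈ K₁ ⊓ A₁ :=
          Subgroup.mem_inf.2 ⟨mul_mem k.2 (inv_mem k'.2), h1 ▸ mul_mem (inv_mem a.2) a'.2⟩
        rw [hdisj, Subgroup.mem_bot, mul_inv_eq_one] at h2
        refine Prod.ext (Subtype.ext ?_) (Subtype.ext h2)
        rw [h2] at e
        exact mul_right_cancel e
      · rintro ⟨x, hx⟩
        obtain ⟨a, ha, k, hk, e⟩ := Subgroup.mem_sup_of_normal_left.1 hx
        exact ⟨⟨⟨a, ha⟩, ⟨k, hk⟩⟩, Subtype.ext e⟩
    rw [← Nat.card_eq_of_bijective f hf, Nat.card_prod, hcA, hcK]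
    norm_num
  have hUC : U ≤ C.subgroupOf N := sup_le
    (fun x hx => ⟨x.2, Subgroup.mem_centralizer_singleton_iff.2 (AA_comm_z hx)⟩)
    (fun x hx => ⟨x.2, hKz hx⟩)
  have hcC : Nat.card ↥(C.subgroupOf N) = Nat.card ↥C :=
    Nat.card_congr (Subgroup.subgroupOfEquivOfLe inf_le_left).toEquiv
  have h21 : 2 ^ 21 ∣ Nat.card ↥C := hcU ▸ hcC ▸ Subgroup.card_dvd_of_le hUC
  have h5 : 5 ∣ Nat.card ↥C :=
    prime_dvd_stab S.F (by norm_num) _ (by decide +kernel) periods.1.1 periods.1.2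
  have h7 : 7 ∣ Nat.card ↥C :=
    prime_dvd_stab S.F (by norm_num) _ (by decide +kernel) periods.2.1 periods.2.2
  have hdvd : 2 ^ 21 * 35 ∣ Nat.card ↥C :=
    Nat.Coprime.mul_dvd_of_dvd_of_dvd (by norm_num) h21
      (Nat.Coprime.mul_dvd_of_dvd_of_dvd (by norm_num : Nat.Coprime 5 7) h5 h7)
  refine ⟨i, g, hg, horb, hdvd, ?_⟩
  obtain ⟨hnor, ⟨e⟩, -⟩ := S.exists_mathieu i hg horb hdvd
  have hidx : U.index = 239085 := by
    have h1 := U.card_mul_index
    have h2 := Subgroup.card_eq_card_quotient_mul_card_subgroup A₁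
    rw [Nat.card_congr e.toEquiv, card_M24, hcA] at h2
    rw [hcU, h2] at h1
    refine Nat.eq_of_mul_eq_mul_left (by norm_num : 0 < 2 ^ 21) (h1.trans ?_)
    norm_num
  exact Cfsg.Lib.GaschutzAbelian.exists_complement A₁ U le_sup_left
    (by rw [hcA, hidx]; norm_num) K₁ le_sup_right hdisj rfl

/-- The two-local subgroup of shape `2 ^ 11 : M24` in a group of Conway type. -/
theorem golay_two_local (D₀ : Data G I8) (hq₀ : D₀.qf = Cfsg.quadFormPlus 4 (ZMod 2)) :
    ∃ A : Subgroup G, Cfsg.IsElementaryAbelian 2 A ∧ Nat.card A = 2 ^ 11 ∧ D₀.z ∈ A ∧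
      ∃ _ : (A.subgroupOf (Subgroup.normalizer (A : Set G))).Normal,
        Nonempty (↥(Subgroup.normalizer (A : Set G)) ⧸ A.subgroupOf (Subgroup.normalizer (A : Set G)) ≃*
            ↥Cfsg.M24) ∧
          (∃ K : Subgroup ↥(Subgroup.normalizer (A : Set G)),
            (A.subgroupOf (Subgroup.normalizer (A : Set G))).IsComplement' K) ∧
          ∃ a ∈ A, ∃ b ∈ A, a ≠ 1 ∧ b ≠ 1 ∧
            (∀ n ∈ Subgroup.normalizer (A : Set G), n * a * n⁻¹ ≠ b) ∧
            ∀ c ∈ A, c ≠ 1 → ∃ n ∈ Subgroup.normalizer (A : Set G), n * c * n⁻¹ = a ∨ n * c * n⁻¹ = b := by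
  classical
  obtain ⟨D, hq, hzD, -, hab⟩ := exists_abelian D₀ hq₀
  obtain ⟨S⟩ := exists_setup D hq hab
  obtain ⟨i, g, hg, horb, hdvd, hK⟩ := S.exists_structure
  obtain ⟨hnor, he, horbits⟩ := S.exists_mathieu i hg horb hdvd
  exact ⟨AA D, S.F.elementary, S.F.card_AA, hzD ▸ S.F.z_mem, hnor, he, hK, horbits⟩

end Cfsg.Lib.CoOneLocal
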