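import Cfsg.Agent.Lib.CoOneLocal.Orbit
import Cfsg.Agent.Lib.CoOneLocal.GolayChecks
import Cfsg.Agent.Lib.Golay.Duads
import Cfsg.Agent.Lib.Concrete.M24Fix
import Cfsg.Agent.Lib.Concrete.Mathieu
import Cfsg.Agent.Lib.FischerLarge.PairCode

/-!
# The normalizer acts as the Mathieu group on the Golay code
-/

set_option autoImplicit false
set_option linter.style.haveILetI false
set_option linter.unusedSectionVars false

namespace Cfsg.Lib.CoOneLocal

open Cfsg Module Cfsg.Lib.Extra.Wide Cfsg.Lib.Concrete Cfsg.Lib.H3.Golay Cfsg.Lib.Golay.Duads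
open scoped Matrix Pointwise

/-- The coordinates of a word. -/
noncomputable def cOf (w : GolayPt → ZMod 2) : ℕ := fmask (support₂ w) &&& 4095

theorem cOf_word {c : ℕ} (hc : c < 4096) : cOf (word (combo c)) = c := by
  rw [cOf, support₂_word, mset_inj (fmask_lt _) (combo_lt hc) (mset_fmask _), combo_and hc]

theorem exists_coord {w : GolayPt → ZMod 2} (hw : w ∈ golayCode) : ∃ c < 4096, word (combo c) = w ∧ cOf w = c := by
  obtain ⟨c, hc, rfl⟩ := mem_golayCode_iff.1 hw
  exact ⟨c, hc, rfl, cOf_word hc⟩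

/-- The code word of coordinates. -/
noncomputable def wordC (c : ℕ) : golayCode :=
  ⟨word (combo (c % 4096)), mem_golayCode_iff.2 ⟨_, Nat.mod_lt _ (by norm_num), rfl⟩⟩

theorem cOf_wordC {c : ℕ} (hc : c < 4096) : cOf (wordC c : GolayPt → ZMod 2) = c := by
  show cOf (word (combo (c % 4096))) = c
  rw [Nat.mod_eq_of_lt hc, cOf_word hc]

theorem cOf_add (v w : golayCode) :
    cOf ((v + w : golayCode) : GolayPt → ZMod 2) = cOf (v : GolayPt → ZMod 2) ^^^ cOf (w : GolayPt → ZMod 2) := by
  obtain ⟨a, ha, ea, ea'⟩ := exists_coord v.2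
  obtain ⟨b, hb, eb, eb'⟩ := exists_coord w.2
  rw [Submodule.coe_add, ea', eb', ← ea, ← eb, ← word_xor, ← combo_xor,
    cOf_word (Nat.xor_lt_two_pow (n := 12) ha hb)]

theorem cOf_lt (w : golayCode) : cOf (w : GolayPt → ZMod 2) < 4096 :=
  lt_of_le_of_lt Nat.and_le_right (by norm_num)

theorem cOf_inj {v w : golayCode} (h : cOf (v : GolayPt → ZMod 2) = cOf (w : GolayPt → ZMod 2)) : v = w := by
  obtain ⟨a, -, ea, ea'⟩ := exists_coord v.2
  obtain ⟨b, -, eb, eb'⟩ := exists_coord w.2
  exact Subtype.ext (by rw [← ea, ← eb, ← ea', ← eb', h])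

theorem cOf_one : cOf (oneC : GolayPt → ZMod 2) = 4095 := by
  have h : (oneC : GolayPt → ZMod 2) = word (combo 4095) := by
    rw [all_ones]; exact one_eq_word
  rw [h, cOf_word (by norm_num)]

theorem card_support (w : golayCode) :
    (support₂ (w : GolayPt → ZMod 2)).card = pcnt (combo (cOf (w : GolayPt → ZMod 2))) := by
  obtain ⟨c, hc, e, e'⟩ := exists_coord w.2
  rw [e', ← e, support₂_word, mset_card, mcnt_eq_pcnt]

theorem sep_points {p q : GolayPt} (h : p ≠ q) : ∃ o ∈ octads, p ∈ o ∧ q ∉ o := by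
  have hne : gidx p ≠ gidx q := by
    intro e
    apply h
    have hinj : Function.Injective gidx := by decide +kernel
    exact hinj e
  obtain ⟨o, ho, h1, h2⟩ := point_sep _ _ hne
  exact ⟨mset o, (mset_mem_octads_iff (octList_lt ho)).2 ho, mem_mset.2 h1, fun hm => by
    rw [mem_mset, h2] at hm; exact Bool.false_ne_true hm⟩

set_option maxRecDepth 100000 in
theorem dodecad_compl :
    ∀ c ∈ List.range 4096, pcnt (combo c) = 12 → pcnt (combo (c ^^^ 4095)) = 12 := by decide +kernel

variable {G : Type*} [Group G] [Finite G] {D : Data G I8} (S : Setup D)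

namespace Setup

/-- The image of a code word for one of the cases. -/
noncomputable def gimg (i : Fin 8) (w : golayCode) : G := S.F.phi (pim i (cOf (w : GolayPt → ZMod 2)))

variable (i : Fin 8)

include S

theorem gimg_add (v w : golayCode) : S.gimg i (v + w) = S.gimg i v * S.gimg i w := by
  rw [gimg, gimg, gimg, cOf_add, pim, comboAux_xor, S.F.phi_xor]
  rfl

theorem gimg_one : S.gimg i oneC = 1 := by
  rw [gimg, cOf_one, (pim_lists i).2.2.1, S.F.phi_zero]

theorem pim_lt (c : ℕ) : pim i c < 2048 := comboAux_lt (n := 11) (pim_lists i).1 c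

theorem gimg_sec {m : ℕ} (hm : m < 2048) : secc i m < 4096 ∧ S.gimg i (wordC (secc i m)) = S.F.phi m := by
  have hlt : secc i m < 4096 := comboAux_lt (n := 12) (pim_lists i).2.1 m
  refine ⟨hlt, ?_⟩
  rw [gimg, cOf_wordC hlt]
  congr 1
  refine xor_all (P := fun m => pim i (secc i m) = m) 11 ?_ (fun a b _ _ ha hb => ?_)
    (fun k hk => (pim_lists i).2.2.2 ⟨k, hk⟩) m hm
  · have z : ∀ i : Fin 8, pim i (secc i 0) = 0 := by decide +kernel
    exact z i
  · rw [secc, comboAux_xor, pim, comboAux_xor]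
    exact congrArg₂ (· ^^^ ·) ha hb

theorem gimg_mem (w : golayCode) : S.gimg i w ∈ AA D := S.F.phi_mem _

theorem gimg_eq {v w : golayCode} (h : S.gimg i v = S.gimg i w) : v = w ∨ v = w + oneC := by
  have h1 : pim i (cOf (v : GolayPt → ZMod 2) ^^^ cOf (w : GolayPt → ZMod 2)) = 0 := by
    rw [pim, comboAux_xor, Nat.xor_eq_zero_iff]
    exact S.F.phi_inj (S.pim_lt i _) (S.pim_lt i _) h
  rcases pim_kernel i _ (List.mem_range.2 (Nat.xor_lt_two_pow (n := 12) (cOf_lt v) (cOf_lt w))) h1 with e | e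
  · exact Or.inl (cOf_inj (Nat.xor_eq_zero_iff.1 e))
  · refine Or.inr (cOf_inj ?_)
    rw [cOf_add, cOf_one, ← e, Nat.xor_comm (cOf (v : GolayPt → ZMod 2)), ← Nat.xor_assoc, Nat.xor_self,
      Nat.zero_xor]

/-- A permutation induced by a normalizing element. -/
def Rel (n : G) (σ : Equiv.Perm GolayPt) : Prop :=
  σ ∈ M24 ∧ ∀ w w' : golayCode, (w' : GolayPt → ZMod 2) = actW σ (w : GolayPt → ZMod 2) →
    S.gimg i w' = n * S.gimg i w * n⁻¹

theorem rel_one : S.Rel i 1 1 := ⟨one_mem _, fun w w' e => by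
  rw [show w' = w from Subtype.ext e]; group⟩

theorem rel_mul {n m : G} {σ τ : Equiv.Perm GolayPt} (h : S.Rel i n σ) (h' : S.Rel i m τ) :
    S.Rel i (n * m) (σ * τ) := by
  refine ⟨mul_mem h.1 h'.1, fun w w' e => ?_⟩
  let v : golayCode := ⟨actW τ (w : GolayPt → ZMod 2), actW_mem h'.1 w.2⟩
  rw [h.2 v w' (by rw [e]; rfl), h'.2 w v rfl]
  group

theorem rel_unique {n : G} {σ τ : Equiv.Perm GolayPt} (h : S.Rel i n σ) (h' : S.Rel i n τ) : σ = τ := by
  have hoct : ∀ o ∈ octads, σ • o = τ • o := by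
    intro o ho
    obtain ⟨w, hw, hws⟩ := ho.1
    let v : golayCode := ⟨actW σ w, actW_mem h.1 hw⟩
    let v' : golayCode := ⟨actW τ w, actW_mem h'.1 hw⟩
    have e : S.gimg i v = S.gimg i v' := (h.2 ⟨w, hw⟩ v rfl).trans (h'.2 ⟨w, hw⟩ v' rfl).symm
    rcases S.gimg_eq i e with e' | e'
    · have := congrArg (fun u : golayCode => support₂ (u : GolayPt → ZMod 2)) e'
      simpa [v, v', support₂_actW, hws] using this
    · exfalso
      have hs : support₂ (v : GolayPt → ZMod 2) = (support₂ (v' : GolayPt → ZMod 2))ᶜ := by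
        rw [e']
        ext p
        rw [Finset.mem_compl, support₂, support₂, Finset.mem_filter, Finset.mem_filter, Submodule.coe_add]
        simp only [Finset.mem_univ, true_and, Pi.add_apply, oneC]
        exact (show ∀ a : ZMod 2, a + 1 ≠ 0 ↔ ¬a ≠ 0 by decide) _
      have h8 := congrArg Finset.card hs
      rw [Finset.card_compl] at h8
      simp only [v, v', support₂_actW, hws, Finset.card_smul_finset, ho.2, card_golayPt] at h8
      omega
  refine Equiv.ext fun p => ?_
  by_contra hne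
  obtain ⟨o, ho, h1, h2⟩ := sep_points hne
  have hσ : σ⁻¹ • o ∈ octads := by
    obtain ⟨w, hw, hws⟩ := ho.1
    exact ⟨⟨actW σ⁻¹ w, actW_mem (inv_mem h.1) hw, by rw [support₂_actW, hws]⟩,
      by rw [Finset.card_smul_finset]; exact ho.2⟩
  have h3 := hoct _ hσ
  rw [smul_inv_smul] at h3
  have h4 : τ p ∈ τ • (σ⁻¹ • o) := by
    rw [← Equiv.Perm.smul_def, Finset.smul_mem_smul_finset_iff, ← Finset.smul_mem_smul_finset_iff σ,
      smul_inv_smul, Equiv.Perm.smul_def]
    exact h1
  exact h2 (h3 ▸ h4)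

variable {g : ℕ} (hg : g = (cases.getD i.val (0, 0)).2)
  (horb : ∀ m < 2048, S.Orb (Subgroup.normalizer (AA D : Set G)) m ↔ incand g m = true)

include hg horb

theorem exists_rel {n : G} (hn : n ∈ Subgroup.normalizer (AA D : Set G)) : ∃ σ, S.Rel i n σ := by
  classical
  choose m hm he using fun w : golayCode => S.conj_code hn (pim i (cOf (w : GolayPt → ZMod 2)))
  have hadd : ∀ v w, m (v + w) = m v ^^^ m w := fun v w => by
    refine S.F.phi_inj (hm _) (Nat.xor_lt_two_pow (n := 11) (hm v) (hm w)) ?_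
    rw [S.F.phi_xor, ← he, ← he, ← he, show S.F.phi (pim i (cOf ((v + w : golayCode) : GolayPt → ZMod 2))) =
      S.gimg i v * S.gimg i w from S.gimg_add i v w, gimg, gimg]
    group
  let lam : golayCode → ZMod 2 := fun w => (w : GolayPt → ZMod 2) none
  let f : golayCode →+ golayCode := AddMonoidHom.mk' (fun w => wordC (secc i (m w)) + lam w • oneC) fun v w => by
    have e : wordC (secc i (m (v + w))) = wordC (secc i (m v)) + wordC (secc i (m w)) := by
      refine cOf_inj ?_
      rw [cOf_add, hadd, cOf_wordC (S.gimg_sec i (hm v)).1, cOf_wordC (S.gimg_sec i (hm w)).1,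
        cOf_wordC (S.gimg_sec i (Nat.xor_lt_two_pow (n := 11) (hm v) (hm w))).1, secc, comboAux_xor]
      rfl
    rw [e, show lam (v + w) = lam v + lam w from rfl, add_smul]
    abel
  have hf : ∀ w, S.gimg i (f w) = n * S.gimg i w * n⁻¹ := by
    intro w
    show S.gimg i (wordC (secc i (m w)) + lam w • oneC) = _
    rw [S.gimg_add, (S.gimg_sec i (hm w)).2, ← he]
    rcases bit (lam w) with h | h <;> rw [h]
    · rw [zero_smul, show S.gimg i 0 = 1 by
        have := S.gimg_add i 0 0
        rw [add_zero] at this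
        exact (mul_eq_left.1 this.symm), mul_one]
      rfl
    · rw [one_smul, S.gimg_one, mul_one]; rfl
  have hone : f oneC = oneC := by
    show wordC (secc i (m oneC)) + lam oneC • oneC = oneC
    have hm0 : m oneC = 0 := by
      refine S.F.phi_inj (hm _) (by norm_num) ?_
      rw [← he, show S.F.phi (pim i (cOf (oneC : GolayPt → ZMod 2))) = 1 from S.gimg_one i, S.F.phi_zero]
      group
    have hs0 : wordC (secc i 0) = 0 := by
      refine cOf_inj ?_
      rw [cOf_wordC (S.gimg_sec i (by norm_num : 0 < 2048)).1]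
      have z : ∀ i : Fin 8, secc i 0 = 0 := by decide +kernel
      rw [z i]
      have := cOf_add (0 : golayCode) 0
      rw [add_zero, Nat.xor_self] at this
      exact this.symm
    rw [hm0, hs0, zero_add, show lam oneC = 1 from rfl, one_smul]
  have hinj : Function.Injective f := by
    refine (injective_iff_map_eq_zero f).2 fun w hw => ?_
    have h1 := hf w
    have h0 : S.gimg i 0 = 1 := by
      have := S.gimg_add i 0 0
      rw [add_zero] at this
      exact (mul_eq_left.1 this.symm)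
    rw [hw, h0] at h1
    rcases S.gimg_eq i (v := w) (w := 0) (by rw [conj_eq_one_iff.1 h1.symm, h0]) with e | e
    · exact e
    · rw [zero_add] at e
      rw [e, hone] at hw
      rw [e, hw]
  let x : golayCode ≃ₗ[ZMod 2] golayCode :=
    LinearEquiv.ofBijective (f.toZModLinearMap 2) (Finite.injective_iff_bijective.1 hinj)
  have hoct : ∀ o ∈ octads, ∀ h : ind o ∈ golayCode, ∃ o' ∈ octads,
      (x ⟨ind o, h⟩ : GolayPt → ZMod 2) = ind o' ∨ (x ⟨ind o, h⟩ : GolayPt → ZMod 2) = ind o' + fun _ => 1 := by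
    intro o ho h
    set w : golayCode := ⟨ind o, h⟩
    obtain ⟨M, hM, rfl⟩ := mem_octads_iff.1 ho
    obtain ⟨c, hc, e, e'⟩ := exists_coord w.2
    have hcM : M &&& 4095 = c := by
      rw [← e']
      show M &&& 4095 = cOf (ind (mset M))
      rw [cOf, support₂_ind, mset_inj (fmask_lt _) (octList_lt hM) (mset_fmask _)]
    have h1 : incand g (pim i c) = true := by rw [hg, ← hcM]; exact pim_oct i M hM
    obtain ⟨k, hk, ek⟩ := (horb _ (S.pim_lt i c)).2 h1
    have h2 : S.Orb (Subgroup.normalizer (AA D : Set G)) (pim i (cOf (f w : GolayPt → ZMod 2))) := by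
      refine ⟨n * k, mul_mem hn hk, ?_⟩
      show _ = S.gimg i (f w)
      rw [hf, gimg, e', ← ek]; group
    set c' := cOf (f w : GolayPt → ZMod 2) with hc'
    have h3 := (horb _ (S.pim_lt i c')).1 h2
    have hne : pim i c' ≠ 0 := (S.orb_cl h2).2
    have key : ∀ v : golayCode, pcnt (combo (cOf (v : GolayPt → ZMod 2))) = 8 →
        support₂ (v : GolayPt → ZMod 2) ∈ octads ∧ ind (support₂ (v : GolayPt → ZMod 2)) = v :=
      fun v hv => ⟨⟨⟨_, v.2, rfl⟩, by rw [card_support, hv]⟩, ind_support₂ _⟩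
    rw [hg] at h3
    rcases (pim_weight i c' (List.mem_range.2 (cOf_lt _)) hne).1 h3 with h8 | h8
    · obtain ⟨ho', ei⟩ := key (f w) h8
      exact ⟨_, ho', Or.inl ei.symm⟩
    · obtain ⟨ho', ei⟩ := key (f w + oneC) (by rw [cOf_add, cOf_one]; exact h8)
      refine ⟨_, ho', Or.inr ?_⟩
      show (f w : GolayPt → ZMod 2) = _
      rw [ei, Submodule.coe_add, add_assoc]
      show (f w : GolayPt → ZMod 2) = _ + ((oneC : GolayPt → ZMod 2) + (oneC : GolayPt → ZMod 2))
      rw [add_self_word, add_zero]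
  obtain ⟨σ, hσ, hx⟩ := exists_perm x hone hoct
  refine ⟨σ, hσ, fun w w' e => ?_⟩
  rcases hx w with h | h
  · rw [show w' = f w from Subtype.ext (e.trans h.symm), hf]
  · have : w' = f w + oneC := by
      refine Subtype.ext ?_
      rw [Submodule.coe_add]
      show (w' : GolayPt → ZMod 2) = (x w : GolayPt → ZMod 2) + (oneC : GolayPt → ZMod 2)
      rw [h, e, add_assoc]
      show _ = actW σ _ + ((oneC : GolayPt → ZMod 2) + (oneC : GolayPt → ZMod 2))
      rw [add_self_word, add_zero]
    rw [this, S.gimg_add, hf, S.gimg_one, mul_one]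

/-- The normalizer modulo the abelian subgroup is the Mathieu group, and there are two orbits. -/
theorem exists_mathieu
    (hdvd : 2 ^ 21 * 35 ∣
      Nat.card ↥(Subgroup.normalizer (AA D : Set G) ⊓ Subgroup.centralizer ({D.z} : Set G))) :
    ∃ _ : ((AA D).subgroupOf (Subgroup.normalizer (AA D : Set G))).Normal,
      Nonempty (↥(Subgroup.normalizer (AA D : Set G)) ⧸
        (AA D).subgroupOf (Subgroup.normalizer (AA D : Set G)) ≃* ↥Cfsg.M24) ∧
      ∃ a ∈ AA D, ∃ b ∈ AA D, a ≠ 1 ∧ b ≠ 1 ∧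
        (∀ n ∈ Subgroup.normalizer (AA D : Set G), n * a * n⁻¹ ≠ b) ∧
        ∀ c ∈ AA D, c ≠ 1 → ∃ n ∈ Subgroup.normalizer (AA D : Set G),
          n * c * n⁻¹ = a ∨ n * c * n⁻¹ = b := by
  classical
  set N := Subgroup.normalizer (AA D : Set G) with hN
  choose σ hσ using fun n : ↥N => S.exists_rel i hg horb n.2
  let ψ : ↥N →* ↥Cfsg.M24 :=
    { toFun := fun n => ⟨σ n, (hσ n).1⟩
      map_one' := Subtype.ext (S.rel_unique i (hσ 1) (S.rel_one i))
      map_mul' := fun a b => Subtype.ext (S.rel_unique i (hσ (a * b)) (S.rel_mul i (hσ a) (hσ b))) }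
  have hker : ψ.ker = (AA D).subgroupOf N := by
    ext n
    rw [MonoidHom.mem_ker, Subgroup.mem_subgroupOf]
    constructor
    · intro h
      have h1 : σ n = 1 := congrArg Subtype.val h
      rw [← S.F.centralizer_AA]
      refine Subgroup.mem_centralizer_iff.2 fun a ha => ?_
      obtain ⟨m, hm, rfl⟩ := S.F.phi_surj ha
      have h2 := (hσ n).2 (wordC (secc i m)) (wordC (secc i m)) (by rw [h1]; rfl)
      rw [(S.gimg_sec i hm).2] at h2
      exact (eq_mul_inv_iff_mul_eq.1 h2)
    · intro h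
      refine Subtype.ext (S.rel_unique i (hσ n) ⟨one_mem _, fun w w' e => ?_⟩)
      rw [show w' = w from Subtype.ext e, (S.F.abel _ h _ (S.gimg_mem i w)).eq, mul_inv_cancel_right]
  -- the order of the image
  set C := N ⊓ Subgroup.centralizer ({D.z} : Set G) with hC
  have hNC : Nat.card ↥N = 759 * Nat.card ↥C := by
    let z0 : ↥(AA D) := ⟨D.z, S.F.z_mem⟩
    let ρ : ↥N →* MulAut ↥(AA D) := Subgroup.normalizerMonoidHom (AA D)
    letI : MulAction ↥N ↥(AA D) := MulAction.compHom _ ρ
    have hsm : ∀ n : ↥N, ((n • z0 : ↥(AA D)) : G) = n * D.z * (n : G)⁻¹ := fun n => rfl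
    have hst : Nat.card ↥(MulAction.stabilizer ↥N z0) = Nat.card ↥C := by
      refine Nat.card_congr
        { toFun := fun n => ⟨n.1.1, n.1.2, Subgroup.mem_centralizer_singleton_iff.2 (mul_inv_eq_iff_eq_mul.1
            ((hsm n.1).symm.trans (congrArg Subtype.val n.2)))⟩
          invFun := fun c => ⟨⟨c.1, c.2.1⟩, Subtype.ext ((hsm _).trans (mul_inv_eq_iff_eq_mul.2
            (Subgroup.mem_centralizer_singleton_iff.1 c.2.2)))⟩
          left_inv := fun _ => rfl
          right_inv := fun _ => rfl }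
    have horbit : Nat.card (MulAction.orbit ↥N z0) = 759 := by
      have hcnt : ((List.range 2048).filter fun m => incand g m).length = 759 := by
        rw [hg]
        exact (by decide +kernel : ∀ i : Fin 8,
          ((List.range 2048).filter fun m => incand (cases.getD i.val (0, 0)).2 m).length = 759) i
      set Lst := (List.range 2048).filter fun m => incand g m with hL
      rw [← hcnt, ← List.toFinset_card_of_nodup (List.nodup_range.filter _), ← Nat.card_eq_finsetCard]
      refine (Nat.card_congr (Equiv.ofBijective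
        (fun m : Lst.toFinset => (⟨⟨S.F.phi m, S.F.phi_mem m⟩, ?_⟩ : MulAction.orbit ↥N z0)) ⟨?_, ?_⟩)).symm
      · obtain ⟨hm, hi⟩ := List.mem_filter.1 (List.mem_toFinset.1 m.2)
        obtain ⟨n, hn, e⟩ := (horb _ (List.mem_range.1 hm)).2 hi
        exact ⟨⟨n, hn⟩, Subtype.ext ((hsm _).trans e)⟩
      · intro a b h
        exact Subtype.ext (S.F.phi_inj (List.mem_range.1 (List.mem_filter.1 (List.mem_toFinset.1 a.2)).1)
          (List.mem_range.1 (List.mem_filter.1 (List.mem_toFinset.1 b.2)).1)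
          (congrArg (fun w => ((w.1 : ↥(AA D)) : G)) h))
      · rintro ⟨w, n, hw⟩
        obtain ⟨m, hm, e⟩ := S.F.phi_surj w.2
        refine ⟨⟨m, List.mem_toFinset.2 (List.mem_filter.2 ⟨List.mem_range.2 hm, (horb m hm).1
          ⟨n, n.2, ?_⟩⟩)⟩, Subtype.ext (Subtype.ext e)⟩
        rw [e, ← hsm n]
        exact congrArg Subtype.val hw
    rw [← horbit, ← hst, Nat.card_congr (MulAction.orbitEquivQuotientStabilizer ↥N z0)]
    exact Subgroup.card_eq_card_quotient_mul_card_subgroup _
  have hsurj : Function.Surjective ψ := by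
    haveI := isSimple_M24
    rw [← MonoidHom.range_eq_top]
    refine Cfsg.Lib.FischerLarge.PairCode.eq_top_of_index_small _ ?_
    have hk : Nat.card ↥ψ.ker = 2 ^ 11 := by
      rw [hker, Nat.card_congr (Subgroup.subgroupOfEquivOfLe Subgroup.le_normalizer).toEquiv, S.F.card_AA]
    have hr := Subgroup.card_eq_card_quotient_mul_card_subgroup ψ.ker
    rw [Nat.card_congr (QuotientGroup.quotientKerEquivRange ψ).toEquiv, hk, hNC] at hr
    have hm := ψ.range.card_mul_index
    rw [card_M24] at hm ⊢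
    obtain ⟨k, hk'⟩ := hdvd
    rw [hk'] at hr
    have hr' : Nat.card ↥ψ.range = 27202560 * k := by
      have : 2 ^ 11 * Nat.card ↥ψ.range = 2 ^ 11 * (27202560 * k) := by
        rw [mul_comm, ← hr]; ring
      exact Nat.eq_of_mul_eq_mul_left (by norm_num) this
    rw [hr'] at hm
    have hi : ψ.range.index ≤ 9 := by
      refine Nat.le_of_dvd (by norm_num) (Dvd.intro_left k ?_)
      nlinarith
    calc ψ.range.index.factorial ≤ Nat.factorial 9 := Nat.factorial_le hi
      _ < 244823040 := by decide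
  haveI hnor : ((AA D).subgroupOf N).Normal := hker ▸ inferInstance
  refine ⟨hnor, ⟨(QuotientGroup.quotientMulEquivOfEq hker.symm).trans
    (QuotientGroup.quotientKerEquivOfSurjective ψ hsurj)⟩, ?_⟩
  obtain ⟨c0, hc0, hw0⟩ := some_dodecad
  have hz1 : incand g 1 = true := (horb 1 (by norm_num)).1 ⟨1, one_mem _, by rw [S.F.phi_one]; simp⟩
  have hdod : ∀ c < 4096, pcnt (combo c) = 12 → pim i c ≠ 0 ∧ incand g (pim i c) = false := by
    intro c hc h12
    have hne : pim i c ≠ 0 := fun h0 => by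
      rcases pim_kernel i c (List.mem_range.2 hc) h0 with rfl | rfl <;> revert h12 <;> decide +kernel
    refine ⟨hne, ?_⟩
    by_contra hb
    rw [Bool.not_eq_false, hg] at hb
    have h16 := dodecad_compl
    rcases (pim_weight i c (List.mem_range.2 hc) hne).1 hb with h | h
    · omega
    · have := h16 c (List.mem_range.2 hc) h12; omega
  obtain ⟨hne0, hin0⟩ := hdod c0 hc0 hw0
  refine ⟨D.z, S.F.z_mem, S.F.phi (pim i c0), S.F.phi_mem _, D.ctx.ne_one,
    fun h => hne0 (S.F.phi_inj (S.pim_lt i c0) (by norm_num) (h.trans S.F.phi_zero.symm)),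
    fun n hn e => ?_, fun c hc hc1 => ?_⟩
  · have := (horb _ (S.pim_lt i c0)).1 ⟨n, hn, e⟩
    rw [hin0] at this
    exact Bool.false_ne_true this
  obtain ⟨m, hm, rfl⟩ := S.F.phi_surj hc
  have hm0 : m ≠ 0 := fun h => hc1 (h ▸ S.F.phi_zero)
  rcases Bool.eq_false_or_eq_true (incand g m) with h | h
  · obtain ⟨n, hn, e⟩ := (horb m hm).2 h
    exact ⟨n⁻¹, inv_mem hn, Or.inl (by rw [← e]; group)⟩
  · obtain ⟨hlt, he⟩ := S.gimg_sec i hm
    set w := wordC (secc i m)
    have hpm : pim i (secc i m) = m := by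
      refine S.F.phi_inj (S.pim_lt i _) hm ?_
      rw [← he, gimg, cOf_wordC hlt]
    have hw12 : pcnt (combo (secc i m)) = 12 :=
      (pim_weight i _ (List.mem_range.2 hlt) (by rw [hpm]; exact hm0)).2 (by rw [hpm, ← hg]; exact h)
    have hd : ∀ c < 4096, pcnt (combo c) = 12 →
        support₂ (wordC c : GolayPt → ZMod 2) ∈ dodecads := fun c hc h12 =>
      ⟨⟨_, (wordC c).2, rfl⟩, by rw [card_support, cOf_wordC hc, h12]⟩
    obtain ⟨γ, hγ, hγe⟩ := M24_dodecad_transitive (hd _ hlt hw12) (hd _ hc0 hw0)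
    obtain ⟨n, hn⟩ := hsurj ⟨γ, hγ⟩
    refine ⟨n, n.2, Or.inr ?_⟩
    have hσn : σ n = γ := congrArg Subtype.val hn
    have e2 := (hσ n).2 w (wordC c0) (by
      refine support₂_injective ?_
      rw [support₂_actW, hσn]
      exact hγe.symm)
    rw [← he, ← e2, gimg, cOf_wordC hc0]

end Setup

end Cfsg.Lib.CoOneLocal
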