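import Cfsg.Agent.Lib.Concrete.Golay

/-!
# The coordinate model of the large elementary abelian two-group of a group of Conway type

An element is a code below `2048`: bit `0` is the central involution, bits `1..4` are the four points
and bits `5..10` are the six pairs of points.  As functions on the affine space with sixteen points
this is the Reed-Muller code of order two.
-/

set_option autoImplicit false

namespace Cfsg.Lib.CoOneLocal

open Cfsg.Lib.Concrete

/-- The four coordinates. -/
def four : List ℕ := [0, 1, 2, 3]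

/-- The pairs of coordinates. -/
def pairs : List (ℕ × ℕ) := [(0, 1), (0, 2), (0, 3), (1, 2), (1, 3), (2, 3)]

/-- Truth tables of the eleven basis functions. -/
def tabList : List ℕ := [65535, 21845, 13107, 3855, 255, 34952, 41120, 43520, 49344, 52224, 61440]

/-- The truth table of a code. -/
def tval (m : ℕ) : ℕ := comboAux tabList m

/-- The weight of a code. -/
def wt (m : ℕ) : ℕ := pcnt (tval m)

/-- A bit as a number. -/
def b2n (b : Bool) : ℕ := bif b then 1 else 0

/-- A coordinate of the product of two vectors. -/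
def wbit (a b : ℕ) (p : ℕ × ℕ) : Bool :=
  (a.testBit p.1 && b.testBit p.2) ^^ (a.testBit p.2 && b.testBit p.1)

/-- The product of two vectors in the exterior square. -/
def wedge (a b : ℕ) : ℕ :=
  b2n (wbit a b (0, 1)) + 2 * b2n (wbit a b (0, 2)) + 4 * b2n (wbit a b (0, 3)) + 8 * b2n (wbit a b (1, 2)) +
    16 * b2n (wbit a b (1, 3)) + 32 * b2n (wbit a b (2, 3))

/-- The Klein quadric. -/
def pfB (u : ℕ) : Bool :=
  (u.testBit 0 && u.testBit 5) ^^ ((u.testBit 1 && u.testBit 4) ^^ (u.testBit 2 && u.testBit 3))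

/-- The pair of two coordinates. -/
def ycode : ℕ → ℕ → ℕ
  | 0, 1 => 32 | 1, 0 => 32 | 0, 2 => 64 | 2, 0 => 64 | 0, 3 => 128 | 3, 0 => 128
  | 1, 2 => 256 | 2, 1 => 256 | 1, 3 => 512 | 3, 1 => 512 | 2, 3 => 1024 | 3, 2 => 1024
  | _, _ => 0

/-- The point of a vector. -/
def tcode (a : ℕ) : ℕ := 2 * a

/-- The two coordinates of a vector of weight two. -/
def twoBits : ℕ → ℕ × ℕ
  | 3 => (0, 1) | 5 => (0, 2) | 9 => (0, 3) | 6 => (1, 2) | 10 => (1, 3) | 12 => (2, 3)
  | _ => (0, 0)

/-- The coordinate of a vector of weight one. -/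
def oneBit : ℕ → ℕ
  | 1 => 0 | 2 => 1 | 4 => 2 | 8 => 3
  | _ => 4

/-- The representative of the line through the point of `a` and a coordinate point. -/
def rc (tau : Bool) (a i : ℕ) : ℕ :=
  bif oneBit a < 4 then ycode (oneBit a) i
  else bif i == (twoBits a).1 || i == (twoBits a).2 then ycode (twoBits a).1 (twoBits a).2
  else ycode i (twoBits a).1 ^^^ ycode i (twoBits a).2 ^^^ (bif tau then tcode (2 ^ i) else 0)

/-- A first point of every line. -/
def lineA : List ℕ := [0, 1, 1, 1, 1, 1, 1, 1, 2, 2, 3, 3, 0, 0, 0, 0, 2, 2, 0, 0, 3, 3, 0, 0, 2, 2, 0, 0, 0,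
    0, 3, 3, 4, 0, 4, 0, 5, 0, 5, 0, 4, 0, 4, 0, 0, 5, 0, 5, 6, 0, 0, 6, 8, 0, 0, 9, 6, 0, 0, 6, 0, 10, 12, 0]

/-- A second point of every line. -/
def lineB : List ℕ := [0, 2, 4, 6, 8, 10, 12, 14, 4, 5, 4, 5, 0, 0, 0, 0, 8, 9, 0, 0, 8, 9, 0, 0, 12, 13, 0, 0,
    0, 0, 12, 13, 8, 0, 9, 0, 8, 0, 9, 0, 10, 0, 11, 0, 0, 10, 0, 11, 8, 0, 0, 9, 7, 0, 0, 7, 10, 0, 0, 11, 0,
    7, 7, 0]

/-- The codes of the lines. -/
def lineList : List ℕ := [1, 2, 3, 4, 5, 6, 7, 8, 9, 10, 11, 16, 17, 20, 21, 24, 25, 30, 31, 32, 34, 36, 38,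
    40, 42, 45, 47, 48, 51, 52, 55, 56, 59, 61, 62]

/-- The representative of a line. -/
def rep (tau : Bool) (u : ℕ) : ℕ :=
  let a := lineA.getD u 0
  let b := lineB.getD u 0
  comboAux [rc tau a 0, rc tau a 1, rc tau a 2, rc tau a 3] b

/-- The classes of central type over a line. -/
def lset (tau : Bool) (u : ℕ) : List ℕ :=
  let r := rep tau u
  let p := tcode (lineA.getD u 0)
  let q := tcode (lineB.getD u 0)
  [r, r ^^^ 1, r ^^^ p, r ^^^ 1 ^^^ p, r ^^^ q, r ^^^ 1 ^^^ q, r ^^^ p ^^^ q, r ^^^ 1 ^^^ p ^^^ q]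

/-- The translations. -/
def qImg : List (List ℕ) := [[1, 3, 4, 8, 16, 37, 73, 145, 256, 512, 1024], [1, 2, 5, 8, 16, 35, 64, 128, 265,
    529, 1024], [1, 2, 4, 9, 16, 32, 67, 128, 261, 512, 1041], [1, 2, 4, 8, 17, 32, 64, 131, 256, 517, 1033]]

/-- A translation. -/
def qop (k m : ℕ) : ℕ := comboAux (qImg.getD k []) m

/-- The images of the basis under the swap, with parameters `L` and `b`. -/
def simg (L b : ℕ) : List ℕ :=
  [3, 2, 4 ^^^ 32 ^^^ 2 * b2n (b.testBit 0), 8 ^^^ 64 ^^^ 2 * b2n (b.testBit 1),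
    16 ^^^ 128 ^^^ 2 * b2n (b.testBit 2), 32, 64, 128, 256 ^^^ 32 * (L % 8), 512 ^^^ 32 * (L / 8 % 8),
    1024 ^^^ 32 * (L / 64)]

/-- The swap. -/
def sop (L b m : ℕ) : ℕ := comboAux (simg L b) m

/-- The eight parameters of the swap, with the rank-four class of each. -/
def cases : List (ℕ × ℕ) := [(95, 297240324323938304), (125, 1153493800946253824), (215, 162138520192815104),
    (245, 9224500273492803584), (350, 9223952613425291264), (380, 153192790703243264), (470,
    1154117781990416384), (500, 306262375974600704)]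

/-- The codes of the class of the central involution. -/
def incand (g m : ℕ) : Bool :=
  !(m == 0) && (m >>> 5 == 0 || (bif pfB (m >>> 5) then (bif g.testBit (m >>> 5) then wt m == 10 else wt m == 6)
    else wt m == 4 || wt m == 12))

/-- The images of the basis of the Golay code in the eight cases. -/
def pimList : List (List ℕ) := [[509, 619, 1759, 950, 1063, 19, 5, 1869, 14, 30, 1428, 7], [509, 619, 1759,
    951, 1063, 19, 5, 1868, 14, 30, 1428, 7], [509, 619, 1758, 950, 1063, 19, 5, 1868, 14, 30, 1428, 7], [509,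
    618, 1759, 950, 1063, 19, 5, 1868, 14, 30, 1428, 7], [509, 619, 1759, 950, 1063, 19, 5, 1868, 14, 30, 1429,
    7], [508, 619, 1759, 950, 1063, 19, 5, 1868, 14, 30, 1428, 7], [509, 619, 1759, 950, 1062, 19, 5, 1868, 14,
    30, 1428, 7], [508, 618, 1758, 951, 1062, 19, 5, 1869, 14, 30, 1429, 7]]

/-- Golay words over the basis of the model in the eight cases. -/
def invList : List (List ℕ) := [[5279, 1009728, 1256224, 2220640, 4645632, 2060276, 3140334, 5238729, 3406834,
    5761959, 6813668], [5279, 1009728, 1256224, 2220640, 4645632, 2063211, 3140334, 5238729, 3403629, 5766968,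
    6808443], [5279, 1009728, 1256224, 2220640, 4645632, 2060276, 3140334, 5241686, 3403629, 5761959, 6813668],
    [5279, 1009728, 1256224, 2220640, 4645632, 2063211, 3140334, 5241686, 3406834, 5761959, 6808443], [5279,
    1009728, 1256224, 2220640, 4645632, 2060276, 3145329, 5238729, 3403629, 5766968, 6813668], [5279, 1009728,
    1256224, 2220640, 4645632, 2063211, 3145329, 5238729, 3403629, 5761959, 6808443], [5279, 1009728, 1256224,
    2220640, 4645632, 2060276, 3145329, 5241686, 3406834, 5766968, 6808443], [5279, 1009728, 1256224, 2220640,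
    4645632, 2063211, 3145329, 5241686, 3406834, 5766968, 6813668]]

end Cfsg.Lib.CoOneLocal
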