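import Cfsg.Agent.Lib.CoOneLocal.Count

/-!
# The orbit of the central involution under the normalizer
-/

set_option autoImplicit false
set_option linter.style.haveILetI false
set_option linter.unusedSectionVars false

namespace Cfsg.Lib.CoOneLocal

open Cfsg Module Cfsg.Lib.Linear.Orth Cfsg.Lib.Extra.Wide Cfsg.Lib.Concrete
open scoped Matrix

theorem comboAux_lt {n : ℕ} {L : List ℕ} (h : ∀ x ∈ L, x < 2 ^ n) (c : ℕ) : comboAux L c < 2 ^ n := by
  induction L generalizing c with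
  | nil => exact Nat.two_pow_pos n
  | cons x xs ih =>
    refine Nat.xor_lt_two_pow (n := n) ?_ (ih (fun y hy => h y (List.mem_cons_of_mem _ hy)) _)
    cases c % 2 == 1
    exacts [Nat.two_pow_pos n, h x List.mem_cons_self]

theorem qop_lt (k : Fin 4) (m : ℕ) : qop k m < 2048 :=
  comboAux_lt (n := 11) ((by decide +kernel : ∀ k : Fin 4, ∀ x ∈ qImg.getD k.val [], x < 2 ^ 11) k) m

theorem sop_lt {L b : ℕ} (hL : L < 512) (m : ℕ) : sop L b m < 2048 := by
  refine comboAux_lt (n := 11) ?_ m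
  have hbit : ∀ e : Bool, 2 * b2n e < 2 ^ 11 := by decide
  have hx : ∀ a c : ℕ, a < 2 ^ 11 → c < 2 ^ 11 → a ^^^ c < 2 ^ 11 := fun a c => Nat.xor_lt_two_pow (n := 11)
  simp only [simg, List.mem_cons, List.not_mem_nil, or_false]
  rintro x (rfl | rfl | rfl | rfl | rfl | rfl | rfl | rfl | rfl | rfl | rfl)
  all_goals repeat first
    | exact hbit _
    | (refine hx _ _ ?_ ?_)
    | (show (_ : ℕ) < 2048; omega)

theorem sop_xor (L b m n : ℕ) : sop L b (m ^^^ n) = sop L b m ^^^ sop L b n := comboAux_xor _ _ _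

theorem sop_shift {L b m : ℕ} (hm : m < 2048) : sop L b m >>> 5 = sop L 0 m >>> 5 := by
  have h0 : ∀ L b, sop L b 0 = 0 := fun L b => by simp [sop, simg, comboAux]
  refine xor_all (P := fun m => sop L b m >>> 5 = sop L 0 m >>> 5) 11 (by rw [h0, h0])
    (fun x y _ _ hx hy => ?_) (fun k hk => ?_) m hm
  · rw [sop_xor, sop_xor, Nat.shiftRight_xor_distrib, Nat.shiftRight_xor_distrib, hx, hy]
  have he : ∀ e : Bool, (2 * b2n e) >>> 5 = 0 := by decide
  interval_cases k <;> simp [sop, simg, comboAux, Nat.shiftRight_xor_distrib, he]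

theorem sop_near {L b : ℕ} {m : ℕ} (hm : m < 256) : sop L b m >>> 5 < 8 := by
  refine xor_all (P := fun m => sop L b m >>> 5 < 8) 8 ?_ (fun x y _ _ hx hy => ?_) (fun k hk => ?_) m hm
  · simp [sop, simg, comboAux]
  · rw [sop_xor, Nat.shiftRight_xor_distrib]
    exact Nat.xor_lt_two_pow (n := 3) hx hy
  have he : ∀ e : Bool, (2 * b2n e) >>> 5 = 0 := by decide
  interval_cases k <;> simp [sop, simg, comboAux, Nat.shiftRight_xor_distrib, he]

variable {G : Type*} [Group G] [Finite G]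

namespace Setup

variable {D : Data G I8} (S : Setup D)
include S

theorem rich_norm : S.Rich (Subgroup.normalizer (AA D : Set G)) := by
  refine ⟨le_rfl, fun q hq => S.q_norm hq, S.s_norm, fun p hp => ?_⟩
  obtain ⟨h1, h2, h3⟩ := tvAll_spec p hp
  obtain ⟨d, hd, -, hN, ha, -⟩ := exists_trans S.F (i := ⟨p.1, h1⟩) (j := ⟨p.2, h2⟩)
    (fun e => h3 (congrArg Fin.val e))
  exact ⟨d, hN, hd.2, ha⟩

/-- Conjugations fixing the two points keep the rank of the swapped element. -/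
theorem pf_move {n : G} (hz : Commute n D.z) (ht : Commute n (S.F.T 0)) {m m' : ℕ} (hm : m < 2048)
    (hm' : m' < 2048) (e : n * S.F.phi m * n⁻¹ = S.F.phi m') :
    pfB (sop S.L S.b m >>> 5) = pfB (sop S.L S.b m' >>> 5) := by
  have hsi : S.s⁻¹ * D.z * S.s = D.z * S.F.T 0 := by
    have h := (S.F.pt 0).swap_z S.hs S.hsz
    conv_lhs => rw [← h]
    group
  have hc : Commute (S.s * n * S.s⁻¹) D.z := by
    refine (commute_conj S.s ?_).symm
    rw [hsi]
    exact (hz.mul_right ht).symm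
  have e2 : S.F.phi (sop S.L S.b m') = (S.s * n * S.s⁻¹) * S.F.phi (sop S.L S.b m) * (S.s * n * S.s⁻¹)⁻¹ := by
    rw [← S.swap, ← S.swap, ← e]; group
  have h := congrArg (fun x => fixCard (D.act x)) e2
  simp only [act_conj hc (AA_comm_z (S.F.phi_mem _)), fixCard_conj] at h
  refine Bool.eq_iff_iff.2 ?_
  rw [← S.fix_code (sop_lt S.hL m), ← S.fix_code (sop_lt S.hL m'), h]

theorem pf_q {k : Fin 4} (hk : k ≠ 0) {m : ℕ} (hm : m < 2048) :
    pfB (sop S.L S.b m >>> 5) = pfB (sop S.L S.b (qop k m) >>> 5) := by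
  obtain ⟨q, hq, hc⟩ := D.cls_surj (vf (2 ^ k.val))
  refine S.pf_move (D.ctx.central q hq).symm ?_ hm (qop_lt k m) (S.F.q_conj k hq hc m)
  refine (D.cls_comm q hq _ (S.F.pt 0).mem).2 ?_
  rw [hc, S.F.cls_T, B_vf_ve S.F.qp]
  exact (by decide +kernel : ∀ k : Fin 4, k ≠ 0 → dot (2 ^ k.val) (2 ^ (0 : Fin 4).val) = 0) k hk

theorem pf_line {u : ℕ} (hu : u ∈ farList) {m : ℕ} (hm : m ∈ lset S.tau u) :
    pfB (sop S.L S.b m >>> 5) = pfB (sop S.L S.b (rep S.tau u) >>> 5) := by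
  have hul : u ∈ lineList := List.mem_of_mem_filter hu
  obtain ⟨hall, -, -, hr0, -⟩ := lset_facts S.tau u hul
  obtain ⟨c, hc, hcase⟩ := far_orbit S.tau u hu m hm
  have hrl : rep S.tau u < 2048 := (hall _ hr0).1
  have hstep : ∀ (k : Fin 4) (e : Bool) (x : ℕ), k ≠ 0 → x < 2048 →
      (bif e then qop k else id) x < 2048 ∧
        pfB (sop S.L S.b x >>> 5) = pfB (sop S.L S.b ((bif e then qop k else id) x) >>> 5) := by
    intro k e x hk hx
    cases e
    · exact ⟨hx, rfl⟩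
    · exact ⟨qop_lt k x, S.pf_q hk hx⟩
  have hq : pfB (sop S.L S.b (qword c (rep S.tau u)) >>> 5) = pfB (sop S.L S.b (rep S.tau u) >>> 5) := by
    have h0 : c.testBit 0 = false :=
      (by decide +kernel : ∀ c ∈ [0, 2, 4, 6, 8, 10, 12, 14], Nat.testBit c 0 = false) c hc
    obtain ⟨a1, b1⟩ := hstep 1 (c.testBit 1) _ (by decide) hrl
    obtain ⟨a2, b2⟩ := hstep 2 (c.testBit 2) _ (by decide) a1
    obtain ⟨a3, b3⟩ := hstep 3 (c.testBit 3) _ (by decide) a2
    rw [qword, h0]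
    simp only [cond_false, id]
    exact ((b1.trans b2).trans b3).symm
  have h1 : ∀ x, sop S.L S.b (x ^^^ 1) >>> 5 = sop S.L S.b x >>> 5 := fun x => by
    rw [sop_xor, Nat.shiftRight_xor_distrib, show sop S.L S.b 1 = 3 by simp [sop, simg, comboAux]]
    simp
  rcases hcase with rfl | rfl
  · exact hq
  · rw [h1]; exact hq

theorem pf_const : ∀ u ∈ farList, ∀ m ∈ lset S.tau u,
    pfB (sop S.L S.b m >>> 5) = pfB (sop S.L S.b (rep S.tau 8) >>> 5) := by
  have h8 : (8 : ℕ) ∈ farList := by decide +kernel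
  have key : ∀ k, ∀ u ∈ reach (fun p u => tvU p.1 p.2 u) tvFix 8 k, u ∈ farList ∧
      pfB (sop S.L S.b (rep S.tau u) >>> 5) = pfB (sop S.L S.b (rep S.tau 8) >>> 5) := by
    intro k
    induction k with
    | zero =>
      simp only [reach, List.mem_singleton]
      rintro u rfl
      exact ⟨h8, rfl⟩
    | succ k ih =>
      intro u hu
      simp only [reach, List.mem_eraseDups, List.mem_append, List.mem_flatMap, List.mem_map] at hu
      rcases hu with hu | ⟨w, hw, p, hp, rfl⟩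
      · exact ih u hu
      obtain ⟨hwf, e⟩ := ih w hw
      obtain ⟨hpA, hp2⟩ := tvFix_sub p hp
      obtain ⟨h1, h2, h3⟩ := tvAll_spec p hpA
      obtain ⟨d, hd, -, hN, ha, hdt⟩ := exists_trans S.F (i := ⟨p.1, h1⟩) (j := ⟨p.2, h2⟩)
        (fun e => h3 (congrArg Fin.val e))
      have hdt' := hdt (fun e => hp2 (congrArg Fin.val e))
      have hfar : tvU p.1 p.2 w ∈ farList :=
        (by decide +kernel : ∀ p ∈ tvFix, ∀ w ∈ farList, tvU p.1 p.2 w ∈ farList) p hp w hwf
      refine ⟨hfar, ?_⟩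
      have hwl : w ∈ lineList := List.mem_of_mem_filter hwf
      obtain ⟨hall, -, -, hr0, -⟩ := lset_facts S.tau w hwl
      obtain ⟨hlt, hsh, -, -⟩ := hall _ hr0
      obtain ⟨m', hm', e'⟩ := S.conj_code hN (rep S.tau w)
      have hu' : m' >>> 5 = tvU p.1 p.2 w := by
        have h := act_conj (D := D) hd.2 (AA_comm_z (S.F.phi_mem (rep S.tau w)))
        rw [e', S.F.act_phi _ hm', S.F.act_phi _ hlt, hsh,
          trans_conj S.F (i := p.1) (j := p.2) hpA hd.2 ha _ (near_line w hwl).1] at h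
        exact nU_inj (shift5_lt hm') (tvU_lt p hpA w (near_line w hwl).1).1 h
      have hcl : D.Cl (S.F.phi m') := e' ▸ ((S.line w hwl _ hlt hsh).2 hr0).conj D d
      have hmem := (S.line _ (List.mem_of_mem_filter hfar) m' hm' hu').1 hcl
      rw [← S.pf_line hfar hmem, ← S.pf_move hd.2 hdt' hlt hm' e', e]
  exact fun u hu m hm => (S.pf_line hu hm).trans (key 5 u (reach_far u hu)).2

/-- All far lines go to rank-four classes. -/
theorem rank : ∀ u ∈ farList, ∀ m ∈ lset S.tau u, pfB (sop S.L S.b m >>> 5) = true := by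
  rcases Bool.eq_false_or_eq_true (pfB (sop S.L S.b (rep S.tau 8) >>> 5)) with h | h
  · exact fun u hu m hm => (S.pf_const u hu m hm).trans h
  exfalso
  let K : G → Prop := fun x => x ∈ AA D ∧ D.Cl x ∧ fixCard (D.act x) ≠ 16
  let M : Subgroup G :=
    { carrier := {n | n ∈ Subgroup.normalizer (AA D : Set G) ∧ ∀ x, K (n * x * n⁻¹) ↔ K x}
      one_mem' := ⟨one_mem _, fun x => by simp⟩
      mul_mem' := by
        rintro a c ⟨ha, ha'⟩ ⟨hc, hc'⟩
        refine ⟨mul_mem ha hc, fun x => ?_⟩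
        rw [show a * c * x * (a * c)⁻¹ = a * (c * x * c⁻¹) * a⁻¹ by group, ha', hc']
      inv_mem' := by
        rintro a ⟨ha, ha'⟩
        refine ⟨inv_mem ha, fun x => ?_⟩
        conv_rhs => rw [show x = a * (a⁻¹ * x * a⁻¹⁻¹) * a⁻¹ by group, ha'] }
  have hloc : ∀ n, n ∈ Subgroup.normalizer (AA D : Set G) → Commute n D.z → n ∈ M := by
    refine fun n hn hz => ⟨hn, fun x => ?_⟩
    have hA : n * x * n⁻¹ ∈ AA D ↔ x ∈ AA D := (Subgroup.mem_normalizer_iff.1 hn x).symm
    have hC : D.Cl (n * x * n⁻¹) ↔ D.Cl x := by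
      refine ⟨fun hc => ?_, fun hc => hc.conj D n⟩
      have := hc.conj D n⁻¹
      rwa [show n⁻¹ * (n * x * n⁻¹) * n⁻¹⁻¹ = x by group] at this
    show _ ∧ _ ∧ _ ↔ _ ∧ _ ∧ _
    rw [hA, hC]
    refine and_congr_right fun hx => and_congr_right fun _ => ?_
    rw [act_conj hz (AA_comm_z hx), fixCard_conj]
  have hs1 : ∀ x, K x → K (S.s * x * S.s⁻¹) := by
    rintro x ⟨hx, hc, hf⟩
    refine ⟨(Subgroup.mem_normalizer_iff.1 S.s_norm x).1 hx, hc.conj D S.s, ?_⟩
    obtain ⟨m, hm, rfl⟩ := S.F.phi_surj hx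
    rw [Ne, S.fix_code hm] at hf
    rw [S.swap, Ne, S.fix_code (sop_lt S.hL m)]
    by_cases hnear : m < 256
    · rw [small_u _ (sop_near hnear)]; simp
    have hu8 : 8 ≤ m >>> 5 := by rw [Nat.shiftRight_eq_div_pow]; omega
    have hul : m >>> 5 ∈ lineList := by
      by_contra hn
      exact hf ((line_or_pf _ (shift5_lt hm) (by omega)).2 hn)
    rw [S.pf_const _ ((near_line _ hul).2.2.1.1 hu8) m ((S.line _ hul m hm rfl).1 hc), h]
    simp
  have hsM : S.s ∈ M := by
    refine ⟨S.s_norm, fun x => ⟨fun hk => ?_, hs1 x⟩⟩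
    have hx : x ∈ AA D := (Subgroup.mem_normalizer_iff.1 S.s_norm x).2 hk.1
    have := hs1 _ hk
    rwa [S.s_twice hx] at this
  have hM : S.Rich M := by
    refine ⟨fun n hn => hn.1, fun q hq => hloc q (S.q_norm hq) (D.ctx.central q hq).symm, hsM, fun p hp => ?_⟩
    obtain ⟨d, hdN, hdz, hda⟩ := S.rich_norm.d p hp
    exact ⟨d, hloc d hdN hdz, hdz, hda⟩
  obtain ⟨m, hm⟩ := Finset.card_ne_zero.1 (by rw [(S.counts hM).2]; norm_num : (S.fibre M 33).card ≠ 0)
  obtain ⟨hm2, hmu, n, hn, e⟩ := S.mem_fibre.1 hm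
  have hKz : K D.z := ⟨S.F.z_mem, D.cl_z, by
    rw [← S.F.phi_one, Ne, S.fix_code (by norm_num)]; decide⟩
  have hk : K (n * D.z * n⁻¹) := (hn.2 D.z).2 hKz
  rw [e] at hk
  exact hk.2.2 ((S.fix_code hm2).2 (by rw [hmu]; decide))

/-- The model. -/
theorem exists_model : ∃ g : ℕ, (S.L, g) ∈ cases ∧ S.b = 7 ∧
    ∀ m < 2048, (S.Orb (Subgroup.normalizer (AA D : Set G)) m ↔ incand g m = true) := by
  classical
  have hM := S.rich_norm
  set M := Subgroup.normalizer (AA D : Set G)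
  obtain ⟨htau, hLc⟩ := rank_check S.tau S.L S.hL fun u hu m hm => by
    have hl : m < 2048 := ((lset_facts S.tau u (List.mem_of_mem_filter hu)).1 m hm).1
    rw [← sop_shift hl]
    exact S.rank u hu m hm
  obtain ⟨⟨L', g⟩, hc, hL'⟩ := List.mem_map.1 hLc
  have hL'' : L' = S.L := hL'
  subst hL''
  obtain ⟨h8, h16⟩ := S.counts hM
  have hline : ∀ u ∈ lineList, ∀ m < 2048, m >>> 5 = u → (S.Orb M m ↔ m ∈ lset true u) := by
    intro u hu m hm hmu
    rw [← htau]
    refine ⟨fun ho => (S.line u hu m hm hmu).1 (S.orb_cl ho).1, fun hl => ?_⟩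
    have hc8 : (S.fibre M u).card = 8 :=
      ((S.fibre_reach hM tvAll (fun _ h => h) 1 (by norm_num) 5 u (reach_line u hu)).2).trans h8
    have hsub : S.fibre M u ⊆ (lset S.tau u).toFinset := fun x hx => by
      obtain ⟨h1, h2, h3⟩ := S.mem_fibre.1 hx
      exact List.mem_toFinset.2 ((S.line u hu x h1 h2).1 (S.orb_cl h3).1)
    have he := Finset.eq_of_subset_of_card_le hsub (by
      rw [hc8]; exact le_of_le_of_eq (List.toFinset_card_le _) rfl)
    exact (S.mem_fibre.1 (he ▸ List.mem_toFinset.2 hl)).2.2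
  have hkeys : ∀ k ∈ keys S.L S.b, ∃ w < 2048, pfB (w >>> 5) = true ∧ S.Orb M w ∧
      k = 2 * (w >>> 5) + b2n (wt w == 10) := by
    intro k hk
    simp only [keys, List.mem_map, List.mem_flatMap] at hk
    obtain ⟨m, ⟨u, hu, hm⟩, rfl⟩ := hk
    have hul : u ∈ lineList := List.mem_of_mem_filter hu
    obtain ⟨h1, h2, -, -⟩ := (lset_facts true u hul).1 m hm
    refine ⟨sop S.L S.b m, sop_lt S.hL m, S.rank u hu m (htau ▸ hm), ?_, rfl⟩
    exact S.orb_move hM.s ((hline u hul m h1 h2).2 hm) (S.swap m)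
  have hpf : ∀ u < 64, pfB u = true → ∃ x : Bool, ∀ k < 32,
      (S.Orb M (32 * u ^^^ k) ↔ (wt (32 * u ^^^ k) == 10) = x) := by
    intro u hu hp
    obtain ⟨x, y, h⟩ := S.fibre_pf_eq hM hu hp
    have hc16 : (S.fibre M u).card = 16 :=
      ((S.fibre_reach hM tvAll (fun _ h => h) 33 (by norm_num) 5 u (reach_pf u hu hp)).2).trans h16
    have hxy : y = !x := by
      have := (h 0 (by norm_num)).2
      rw [hc16] at this
      revert this
      cases x <;> cases y <;> decide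
    refine ⟨x, fun k hk => (h k hk).1.trans ?_⟩
    subst hxy
    cases (wt (32 * u ^^^ k) == 10) <;> cases x <;> simp
  have hdec : ∀ w < 2048, ∃ k < 32, w = 32 * (w >>> 5) ^^^ k := fun w hw => by
    refine ⟨32 * (w >>> 5) ^^^ w, ?_, by rw [← Nat.xor_assoc, Nat.xor_self, Nat.zero_xor]⟩
    have e0 : (32 * (w >>> 5) ^^^ w) >>> 5 = 0 := by
      rw [Nat.shiftRight_xor_distrib, show (32 * (w >>> 5)) >>> 5 = w >>> 5 by
        rw [Nat.shiftRight_eq_div_pow (32 * _)]; omega, Nat.xor_self]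
    rw [Nat.shiftRight_eq_div_pow] at e0
    omega
  have hxkey : ∀ w < 2048, ∀ w' < 2048, pfB (w >>> 5) = true → w >>> 5 = w' >>> 5 → S.Orb M w →
      (S.Orb M w' ↔ (wt w' == 10) = (wt w == 10)) := by
    intro w hw w' hw' hp e ho
    obtain ⟨x, hx⟩ := hpf _ (shift5_lt hw) hp
    obtain ⟨k, hk, ek⟩ := hdec w hw
    obtain ⟨k', hk', ek'⟩ := hdec w' hw'
    rw [← e] at ek'
    have h1 := hx k hk
    have h2 := hx k' hk'
    rw [← ek] at h1
    rw [← ek'] at h2
    rw [h2, h1.1 ho]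
  have hex : ¬ ∃ k ∈ keys S.L S.b, k ^^^ 1 ∈ keys S.L S.b := by
    rintro ⟨k, hk, hk'⟩
    obtain ⟨w, hw, hp, ho, rfl⟩ := hkeys k hk
    obtain ⟨w', hw', -, ho', e⟩ := hkeys _ hk'
    have h2 : ∀ u : ℕ, 2 * u ^^^ 1 = 2 * u + 1 := fun u => by
      refine Nat.eq_of_testBit_eq fun i => ?_
      cases i <;> simp [Nat.testBit_succ, Nat.testBit_zero, Nat.add_mod, Nat.xor_div_two]
    have key : ∀ (u : ℕ) (e : Bool), (2 * u + b2n e) ^^^ 1 = 2 * u + b2n (!e) := fun u e => by
      cases e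
      · exact h2 u
      · show (2 * u + 1) ^^^ 1 = 2 * u
        rw [← h2, Nat.xor_assoc, Nat.xor_self, Nat.xor_zero]
    rw [key] at e
    have hb : ∀ e : Bool, b2n e < 2 := by decide
    have e1 : w >>> 5 = w' >>> 5 := by
      have := hb (!(wt w == 10)); have := hb (wt w' == 10); omega
    have e2 : b2n (!(wt w == 10)) = b2n (wt w' == 10) := by omega
    have h := (hxkey w hw w' hw' hp e1 ho).1 ho'
    rw [h] at e2
    revert e2
    cases (wt w == 10) <;> decide
  obtain ⟨hb7, hall⟩ := (case_check _ hc S.b S.hb).resolve_right hex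
  refine ⟨g, hc, hb7, fun m hm => ?_⟩
  by_cases hm0 : m = 0
  · subst hm0
    exact iff_of_false (fun h => (S.orb_cl h).2 rfl) (by simp [incand])
  by_cases hu0 : m >>> 5 = 0
  · refine iff_of_true (S.orb_small hM m ?_ hm0) ?_
    · rw [Nat.shiftRight_eq_div_pow] at hu0; omega
    · simp [incand, hm0, hu0]
  have hu := shift5_lt hm
  obtain ⟨k, hk, ek⟩ := hdec m hm
  by_cases hp : pfB (m >>> 5) = true
  · obtain ⟨w, hw, -, ho, e⟩ := hkeys _ (hall _ hu hp)
    simp only at e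
    have hb : ∀ e : Bool, b2n e < 2 := by decide
    have e1 : m >>> 5 = w >>> 5 := by
      have := hb (g.testBit (m >>> 5)); have := hb (wt w == 10); omega
    have e2 : g.testBit (m >>> 5) = (wt w == 10) := by
      have e' : b2n (g.testBit (m >>> 5)) = b2n (wt w == 10) := by omega
      revert e'
      cases g.testBit (m >>> 5) <;> cases (wt w == 10) <;> decide
    rw [hxkey w hw m hm (e1 ▸ hp) e1.symm ho, ← e2]
    have hwt := pf_weights _ hu hp k hk
    rw [← ek] at hwt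
    simp only [incand, hp, show (m == 0) = false from beq_eq_false_iff_ne.2 hm0,
      show (m >>> 5 == 0) = false from beq_eq_false_iff_ne.2 hu0, Bool.not_false, Bool.true_and,
      Bool.false_or, cond_true]
    rcases hwt with e' | e' <;> rw [e'] <;> cases g.testBit (m >>> 5) <;> simp
  · have hul : m >>> 5 ∈ lineList := by
      by_contra hn
      exact hp ((line_or_pf _ hu hu0).2 hn)
    rw [hline _ hul m hm rfl]
    have h := lset_weight _ hul k hk
    rw [← ek] at h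
    rw [h]
    simp [incand, hp, hm0, hu0]

end Setup

end Cfsg.Lib.CoOneLocal
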