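import Cfsg.Agent.Lib.CoOneLocal.Code

/-!
# An element exchanging the central involution with another one of the first half
-/

set_option autoImplicit false
set_option linter.style.haveILetI false
set_option linter.unusedSectionVars false

namespace Cfsg.Lib.CoOneLocal

open Cfsg Module Cfsg.Lib.Linear.Orth Cfsg.Lib.Extra.Wide Cfsg.Lib.Concrete
open scoped Matrix

/-- The index of a pair of coordinates. -/
def pidx (i j : Fin 4) : ℕ := if i.val = 0 ∨ j.val = 0 then i.val + j.val - 1 else i.val + j.val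

theorem pidx_symm (i j : Fin 4) : pidx i j = pidx j i := by
  simp only [pidx, or_comm (a := i.val = 0), add_comm i.val]

variable {G : Type*} [Group G] [Finite G] {D : Data G I8}

namespace Gen

variable (F : Gen D)

/-- The central involution or nothing. -/
def zb (_F : Gen D) (a : Bool) : G := bif a then D.z else 1

/-- The first point or nothing. -/
def tb (F : Gen D) (a : Bool) : G := bif a then F.T 0 else 1

/-- The radical elements changed by the central involution. -/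
def shift (d : ℕ) : Gen D where
  T := F.T
  y i j := F.y i j * F.zb (d.testBit (pidx i j))
  qp := F.qp
  abel := F.abel
  pt := F.pt
  cls_T := F.cls_T
  pq i j h := by
    refine (F.pt i).pq_mul (F.pq i j h) ?_
    cases d.testBit (pidx i j)
    exacts [(F.pt i).pq_A (Or.inl rfl), (F.pt i).pq_A (Or.inr (Or.inl rfl))]
  symm i j := by rw [F.symm, pidx_symm]
  y_mem i j := by
    refine mul_mem (F.y_mem i j) ?_
    cases d.testBit (pidx i j)
    exacts [one_mem _, F.z_mem]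
  act_y i j h := by
    have hm : F.zb (d.testBit (pidx i j)) ∈ D.Q := by
      cases d.testBit (pidx i j)
      exacts [one_mem _, D.ctx.mem]
    rw [D.act_mul _ _ (AA_comm_z (F.y_mem i j)) (D.ctx.central _ hm).symm, D.act_q hm, mul_one,
      F.act_y i j h]

include F

theorem pa_low : ∀ u < 8, F.phi (32 * u) ∈ D.Qof (F.T 0) := by
  intro u hu
  refine xor_all (P := fun u => F.phi (32 * u) ∈ D.Qof (F.T 0)) 3 (by rw [mul_zero, F.phi_zero]; exact one_mem _)
    (fun a b _ _ ha hb => ?_) (fun k hk => ?_) u hu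
  · have e : ∀ x, 32 * x = x <<< 5 := fun x => by rw [Nat.shiftLeft_eq]; omega
    show F.phi (32 * (a ^^^ b)) ∈ _
    rw [e, Nat.shiftLeft_xor_distrib, ← e, ← e, F.phi_xor]
    exact mul_mem ha hb
  · interval_cases k
    · show F.phi 32 ∈ _
      rw [show F.phi 32 = F.y 0 1 from F.phi_y (i := 0) (j := 1) (by decide)]
      exact (F.pq 0 1 (by decide)).1
    · show F.phi 64 ∈ _
      rw [show F.phi 64 = F.y 0 2 from F.phi_y (i := 0) (j := 2) (by decide)]
      exact (F.pq 0 2 (by decide)).1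
    · show F.phi 128 ∈ _
      rw [show F.phi 128 = F.y 0 3 from F.phi_y (i := 0) (j := 3) (by decide)]
      exact (F.pq 0 3 (by decide)).1

/-- The part of the radical at the first point inside the abelian subgroup. -/
theorem pq_zero_mem {g : G} (hg : g ∈ AA D) (hgp : g ∈ D.Qof (F.T 0)) :
    ∃ u < 8, ∃ a b : Bool, g = F.phi (32 * u) * (F.zb a * F.tb b) := by
  obtain ⟨m, hm, rfl⟩ := F.phi_surj hg
  have hp := F.pt 0
  have hcT : D.cls (F.T 0) = ve 1 := F.cls_T 0
  obtain ⟨L, hL, hLv⟩ := hp.label ⟨hgp, AA_comm_z hg⟩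
  rw [F.act_phi m hm] at hLv
  have hent : ∀ i j : Fin 4, i ≠ 0 → j ≠ 0 → nN (m >>> 5) i j = 0 := by
    intro i j hi hj
    have h : ((nU (m >>> 5)).val *ᵥ vf (2 ^ j.val)) (Sum.inl i) =
        ((sGL D.qf D.B (D.cls (F.T 0)) L).val *ᵥ vf (2 ^ j.val)) (Sum.inl i) := by rw [← hLv]
    rw [sGL_apply D.space hp.cls_sing hL, nU_inl, hcT, B_ve_vf F.qp,
      show dot 1 (2 ^ j.val) = 0 from
        (by decide +kernel : ∀ j : Fin 4, j ≠ 0 → dot 1 (2 ^ j.val) = 0) j hj] at h
    have hev : ∀ i j : Fin 4, ev (2 ^ i.val) j = if j = i then 1 else 0 := by decide +kernel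
    have h1 : ∀ i : Fin 4, ev 1 i = if i = 0 then 1 else 0 := by decide +kernel
    simpa [vf, ve, hev, h1, hi] using h
  have hu : m >>> 5 < 8 := by
    have key : ∀ u : Fin 64, nN u 1 2 = 0 → nN u 1 3 = 0 → nN u 2 3 = 0 → u.val < 8 := by decide +kernel
    have h64 : m >>> 5 < 64 := by rw [Nat.shiftRight_eq_div_pow]; omega
    exact key ⟨_, h64⟩ (hent 1 2 (by decide) (by decide)) (hent 1 3 (by decide) (by decide))
      (hent 2 3 (by decide) (by decide))
  refine ⟨m >>> 5, hu, ?_⟩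
  set k := 32 * (m >>> 5) with hk
  have hmk : m ^^^ k < 32 := by
    have e : (m ^^^ k) >>> 5 = 0 := by
      rw [Nat.shiftRight_xor_distrib, hk, show (32 * (m >>> 5)) >>> 5 = m >>> 5 by
        rw [Nat.shiftRight_eq_div_pow (32 * _)]; omega, Nat.xor_self]
    rw [Nat.shiftRight_eq_div_pow] at e
    omega
  obtain ⟨hQ, -⟩ := F.small_phi _ hmk
  have hA := hp.inter hQ (by rw [F.phi_xor]; exact mul_mem hgp (F.pa_low _ hu))
  have e : F.phi m = F.phi k * F.phi (m ^^^ k) := by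
    rw [← F.phi_xor, Nat.xor_comm m, ← Nat.xor_assoc, Nat.xor_self, Nat.zero_xor]
  rcases hA with h | h | h | h
  · exact ⟨false, false, by rw [e, h]; simp [zb, tb]⟩
  · exact ⟨true, false, by rw [e, h]; simp [zb, tb]⟩
  · exact ⟨false, true, by rw [e, h]; simp [zb, tb]⟩
  · exact ⟨true, true, by rw [e, h]; simp [zb, tb]⟩

theorem zb_mem (a : Bool) : F.zb a ∈ AA D := by cases a; exacts [one_mem _, F.z_mem]

theorem tb_mem (a : Bool) : F.tb a ∈ AA D := by cases a; exacts [one_mem _, F.T_mem 0]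

theorem abel_sq {g : G} (hg : g ∈ AA D) : g * g = 1 := by
  have := F.elementary.2 g hg
  rwa [pow_two] at this

theorem tb_phi (b : Bool) : F.tb b = F.phi (2 * b2n b) := by
  cases b
  · exact F.phi_zero.symm
  · exact (F.phi_T 0).symm

theorem tb_false {b : Bool} (h : F.tb b = 1) : b = false := by
  cases b
  · rfl
  · exact absurd h (F.pt 0).ne_one

/-- The exchange in suitable generators. -/
theorem exists_swap : ∃ (F' : Gen D) (s : G) (L b : ℕ), L < 512 ∧ b < 8 ∧ s ∈ D.Qof (F'.T 0) ∧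
    s * D.z * s⁻¹ = D.z * F'.T 0 ∧ ∀ m, s * F'.phi m * s⁻¹ = F'.phi (sop L b m) := by
  set t := F.T 0 with ht
  have hp := F.pt 0
  obtain ⟨s, hs, hsz⟩ := (D.ctx_Qof hp.cl).exists_move hp.mem_snd D.ctx.ne_one hp.ne_z.symm
  rw [← hp.comm_zt.eq] at hsz
  have hst : s * t * s⁻¹ = t := by
    rw [((D.ctx_Qof hp.cl).central s hs).symm.eq, mul_inv_cancel_right]
  have hconj : ∀ g h, s * (g * h) * s⁻¹ = s * g * s⁻¹ * (s * h * s⁻¹) := fun g h => by group
  have hss : ∀ g ∈ AA D, s * (s * g * s⁻¹) * s⁻¹ = g := by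
    intro g hg
    have hm : s * s ∈ AA D := by
      rcases (D.ctx_Qof hp.cl).sq s hs with e | e <;> rw [e]
      exacts [one_mem _, F.T_mem 0]
    calc s * (s * g * s⁻¹) * s⁻¹ = s * s * g * (s * s)⁻¹ := by group
      _ = g := by rw [(F.abel _ hm g hg).eq, mul_inv_cancel_right]
  have hstb : ∀ b, s * F.tb b * s⁻¹ = F.tb b := fun b => by
    cases b
    · simp [tb]
    · exact hst
  have hszb : ∀ a, s * F.zb a * s⁻¹ = F.zb a * F.tb a := fun a => by
    cases a
    · simp [zb, tb]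
    · exact hsz
  -- the images of the points
  have hWT : ∀ j : Fin 4, ∃ w ∈ AA D, s * F.T j * s⁻¹ = w ∧ (j ≠ 0 → ∃ a b : Bool,
      w = F.T j * (F.y 0 j * F.zb a) * F.tb b) := by
    intro j
    by_cases hj : j = 0
    · subst hj
      exact ⟨t, F.T_mem 0, hst, fun h => absurd rfl h⟩
    have hjt : D.InCQ t (F.T j) :=
      ⟨(F.pt j).mem, (F.abel _ (F.T_mem j) _ (F.T_mem 0))⟩
    obtain ⟨h1z, -, -⟩ := hp.swap_act hs hsz (D.ctx.central _ hjt.1).symm hjt.2
    set c := s * F.T j * s⁻¹ * (F.T j)⁻¹ with hc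
    have hcP : D.InPQ t c := by
      refine ⟨?_, h1z.mul_left (D.ctx.central _ hjt.1).symm.inv_left⟩
      rw [show c = s * (F.T j * s⁻¹ * (F.T j)⁻¹) by rw [hc]; group]
      refine mul_mem hs ?_
      have h := D.Qof_conj hp.cl (F.T j) (inv_mem hs)
      rwa [hjt.2.eq, mul_inv_cancel_right] at h
    have hcv : D.act c = sGL D.qf D.B (D.cls t) (ve (2 ^ j.val)) := by
      rw [hc, D.act_mul _ _ h1z (D.ctx.central _ hjt.1).symm.inv_left,
        D.act_inv (D.ctx.central _ hjt.1).symm, D.act_q hjt.1, inv_one, mul_one,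
        hp.swap_q hs hsz hjt, F.cls_T j]
    have hyv : D.act (F.y 0 j) = sGL D.qf D.B (D.cls t) (ve (2 ^ j.val)) := by
      rw [F.act_y 0 j (Ne.symm hj), ht, F.cls_T, sGL_ve F.qp (pow_lt_16 0) (pow_lt_16 j)]
    obtain ⟨e, he, hce⟩ := hp.same_label (F.pq 0 j (Ne.symm hj)) hcP (hyv.trans hcv.symm)
    obtain ⟨a, b, heq⟩ : ∃ a b, e = F.zb a * F.tb b := by
      rcases he with rfl | rfl | rfl | rfl
      exacts [⟨false, false, by simp [zb, tb]⟩, ⟨true, false, by simp [zb, tb]⟩,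
        ⟨false, true, by simp [zb, tb, ht]⟩, ⟨true, true, by simp [zb, tb, ht]⟩]
    have hw : s * F.T j * s⁻¹ = F.T j * (F.y 0 j * F.zb a) * F.tb b := by
      have hTe : s * F.T j * s⁻¹ = c * F.T j := by rw [hc]; group
      rw [hTe, hce, heq]
      have A := F.abel
      have hab := mul_mem (F.zb_mem a) (F.tb_mem b)
      rw [(A _ (mul_mem hab (F.y_mem 0 j)) _ (F.T_mem j)).eq, (A _ hab _ (F.y_mem 0 j)).eq]
      simp only [mul_assoc]
    exact ⟨_, mul_mem (mul_mem (F.T_mem j) (mul_mem (F.y_mem 0 j) (F.zb_mem a))) (F.tb_mem b), hw,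
      fun _ => ⟨a, b, rfl⟩⟩
  -- the exchange normalises the abelian subgroup
  have hnorm : ∀ g ∈ AA D, s * g * s⁻¹ ∈ AA D := by
    intro g hg
    have hgen : ∀ k < 32, s * F.phi k * s⁻¹ ∈ AA D := by
      refine xor_all 5 (by rw [F.phi_zero]; simp) (fun a b _ _ ha hb => ?_) (fun k hk => ?_)
      · rw [F.phi_xor, hconj]; exact mul_mem ha hb
      · rcases k with _ | k
        · rw [show F.phi (2 ^ 0) = D.z from F.phi_one, hsz]
          exact mul_mem F.z_mem (F.T_mem 0)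
        · obtain ⟨w, hw, e, -⟩ := hWT ⟨k, by omega⟩
          rw [show 2 ^ (k + 1) = 2 ^ (1 + (⟨k, by omega⟩ : Fin 4).val) by rw [add_comm], F.phi_T, e]
          exact hw
    refine mem_AA.2 fun w hw => ?_
    obtain ⟨m, hm, rfl⟩ := F.phi_surj (WS_le_AA F.qp hw)
    obtain ⟨hwQ, -⟩ := hw
    have hm32 : m < 32 := by
      have h := F.act_phi m hm
      rw [D.act_q hwQ, ← nU_zero] at h
      have := nU_inj (by norm_num) (by rw [Nat.shiftRight_eq_div_pow]; omega) h
      rw [Nat.shiftRight_eq_div_pow] at this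
      omega
    have h1 := hgen m hm32
    have h2 : Commute g (s * F.phi m * s⁻¹) := F.abel g hg _ h1
    have h3 := (Commute.conj_iff s).2 h2
    rwa [hss _ (WS_le_AA F.qp (⟨hwQ, (D.cls_surj 0).elim fun _ _ => ?_⟩ : F.phi m ∈ WS D))] at h3
    obtain ⟨-, hc⟩ := F.small_phi m hm32
    exact ⟨m >>> 1, by rw [Nat.shiftRight_eq_div_pow]; omega, hc⟩
  have hex : ∀ j : Fin 4, ∃ a b : Bool, j ≠ 0 → s * F.T j * s⁻¹ = F.T j * (F.y 0 j * F.zb a) * F.tb b :=
    fun j => by
      by_cases hj : j = 0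
      · exact ⟨false, false, fun h => absurd hj h⟩
      · obtain ⟨w, -, e, h⟩ := hWT j
        obtain ⟨a, b, e'⟩ := h hj
        exact ⟨a, b, fun _ => e.trans e'⟩
  choose aT bT hT using hex
  set dA := b2n (aT 1) + 2 * b2n (aT 2) + 4 * b2n (aT 3) with hdA
  set F1 := F.shift dA with hF1
  have hT1 : ∀ j : Fin 4, j ≠ 0 → s * F1.T j * s⁻¹ = F1.T j * F1.y 0 j * F1.tb (bT j) := by
    intro j hj
    have key : ∀ a1 a2 a3 : Bool, (b2n a1 + 2 * b2n a2 + 4 * b2n a3).testBit 0 = a1 ∧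
        (b2n a1 + 2 * b2n a2 + 4 * b2n a3).testBit 1 = a2 ∧
        (b2n a1 + 2 * b2n a2 + 4 * b2n a3).testBit 2 = a3 := by decide +kernel
    have hd : dA.testBit (pidx 0 j) = aT j := by
      obtain ⟨k1, k2, k3⟩ := key (aT 1) (aT 2) (aT 3)
      fin_cases j
      exacts [absurd rfl hj, k1, k2, k3]
    show s * F.T j * s⁻¹ = F.T j * (F.y 0 j * F.zb (dA.testBit (pidx 0 j))) * F.tb (bT j)
    rw [hd, hT j hj]
  have hconjT : ∀ b, s * F1.tb b * s⁻¹ = F1.tb b := hstb
  have hy1 : ∀ j : Fin 4, j ≠ 0 → s * F1.y 0 j * s⁻¹ = F1.y 0 j := by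
    intro j hj
    have hy := F1.pq 0 j (Ne.symm hj)
    obtain ⟨e, he, h⟩ := hp.comm_Qof hs hy.1
    obtain ⟨c, rfl⟩ : ∃ c, e = F1.tb c := by
      rcases he with rfl | rfl
      exacts [⟨false, rfl⟩, ⟨true, rfl⟩]
    have h2 := hss _ (F1.T_mem j)
    rw [hT1 j hj, hconj, hconj, hT1 j hj, h, hconjT] at h2
    have A := F1.abel
    have hYc : F1.y 0 j * F1.tb (bT j) * (F1.tb c * F1.y 0 j) * F1.tb (bT j) = F1.tb c := by
      rw [(A _ (F1.tb_mem c) _ (F1.y_mem 0 j)).eq,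
        (A _ (F1.y_mem 0 j) _ (F1.tb_mem (bT j))).eq]
      calc F1.tb (bT j) * F1.y 0 j * (F1.y 0 j * F1.tb c) * F1.tb (bT j)
          = F1.tb (bT j) * ((F1.y 0 j * F1.y 0 j) * F1.tb c) * F1.tb (bT j) := by group
        _ = _ := by
          rw [F1.y_sq (Ne.symm hj), one_mul, (A _ (F1.tb_mem _) _ (F1.tb_mem c)).eq, mul_assoc,
            F1.abel_sq (F1.tb_mem _), mul_one]
    have h3 : F1.T j * F1.tb c = F1.T j := by
      rw [← hYc]
      refine Eq.trans ?_ h2
      group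
    rw [h, mul_eq_left.1 h3, one_mul]
  have hlow : ∀ u < 8, s * F1.phi (32 * u) * s⁻¹ = F1.phi (32 * u) := by
    refine xor_all (P := fun u => s * F1.phi (32 * u) * s⁻¹ = F1.phi (32 * u)) 3
      (by rw [mul_zero, F1.phi_zero]; simp) (fun a b _ _ ha hb => ?_) (fun k hk => ?_)
    · have e : ∀ x, 32 * x = x <<< 5 := fun x => by rw [Nat.shiftLeft_eq]; omega
      rw [e, Nat.shiftLeft_xor_distrib, ← e, ← e, F1.phi_xor, hconj, ha, hb]
    · interval_cases k
      · rw [show F1.phi (32 * 2 ^ 0) = F1.y 0 1 from F1.phi_y (i := 0) (j := 1) (by decide)]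
        exact hy1 1 (by decide)
      · rw [show F1.phi (32 * 2 ^ 1) = F1.y 0 2 from F1.phi_y (i := 0) (j := 2) (by decide)]
        exact hy1 2 (by decide)
      · rw [show F1.phi (32 * 2 ^ 2) = F1.y 0 3 from F1.phi_y (i := 0) (j := 3) (by decide)]
        exact hy1 3 (by decide)
  -- the images of the other radical elements
  have hex2 : ∀ k l : Fin 4, ∃ u < 8, ∃ a b : Bool, k ≠ 0 → l ≠ 0 → k ≠ l →
      s * F1.y k l * s⁻¹ = F1.y k l * (F1.phi (32 * u) * (F1.zb a * F1.tb b)) := by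
    intro k l
    have hA := mul_mem (inv_mem (F1.y_mem k l)) (hnorm _ (F1.y_mem k l))
    have hQ : (F1.y k l)⁻¹ * (s * F1.y k l * s⁻¹) ∈ D.Qof (F1.T 0) := by
      rw [show (F1.y k l)⁻¹ * (s * F1.y k l * s⁻¹) = (F1.y k l)⁻¹ * s * F1.y k l * s⁻¹ by group]
      refine mul_mem ?_ (inv_mem hs)
      have h := D.Qof_conj hp.cl (F1.y k l)⁻¹ hs
      rw [(F.abel _ (inv_mem (F1.y_mem k l)) _ (F.T_mem 0)).eq, mul_inv_cancel_right, inv_inv] at h
      exact h
    obtain ⟨u, hu, a, b, e⟩ := F1.pq_zero_mem hA hQ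
    exact ⟨u, hu, a, b, fun _ _ _ => by rw [← e, mul_inv_cancel_left]⟩
  choose uY huY aY bY hY using hex2
  set dB := 8 * b2n (bY 1 2) + 16 * b2n (bY 1 3) + 32 * b2n (bY 2 3) with hdB
  set F2 := F1.shift dB with hF2
  have hd0 : ∀ j : Fin 4, j ≠ 0 → F2.y 0 j = F1.y 0 j := by
    intro j hj
    have key : ∀ j : Fin 4, j ≠ 0 → ∀ a1 a2 a3 : Bool,
        (8 * b2n a1 + 16 * b2n a2 + 32 * b2n a3).testBit (pidx 0 j) = false := by decide +kernel
    show F1.y 0 j * F1.zb (dB.testBit (pidx 0 j)) = _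
    rw [hdB, key j hj]
    exact mul_one _
  have hlow2 : ∀ u < 8, F2.phi (32 * u) = F1.phi (32 * u) := by
    refine xor_all (P := fun u => F2.phi (32 * u) = F1.phi (32 * u)) 3
      (by rw [mul_zero, F1.phi_zero, F2.phi_zero]) (fun a b _ _ ha hb => ?_) (fun k hk => ?_)
    · have e : ∀ x, 32 * x = x <<< 5 := fun x => by rw [Nat.shiftLeft_eq]; omega
      rw [e, Nat.shiftLeft_xor_distrib, ← e, ← e, F1.phi_xor, F2.phi_xor, ha, hb]
    · interval_cases k
      · rw [show F2.phi (32 * 2 ^ 0) = F2.y 0 1 from F2.phi_y (i := 0) (j := 1) (by decide),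
          hd0 1 (by decide)]
        exact (F1.phi_y (i := 0) (j := 1) (by decide)).symm
      · rw [show F2.phi (32 * 2 ^ 1) = F2.y 0 2 from F2.phi_y (i := 0) (j := 2) (by decide),
          hd0 2 (by decide)]
        exact (F1.phi_y (i := 0) (j := 2) (by decide)).symm
      · rw [show F2.phi (32 * 2 ^ 2) = F2.y 0 3 from F2.phi_y (i := 0) (j := 3) (by decide),
          hd0 3 (by decide)]
        exact (F1.phi_y (i := 0) (j := 3) (by decide)).symm
  have hY2 : ∀ k l : Fin 4, k ≠ 0 → k < l →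
      s * F2.y k l * s⁻¹ = F2.y k l * F2.phi (32 * uY k l) := by
    intro k l hk hkl
    have hl : l ≠ 0 := fun e => absurd (e ▸ hkl) (Fin.not_lt_zero k)
    have key : ∀ k l : Fin 4, k ≠ 0 → k < l → ∀ a1 a2 a3 : Bool,
        (8 * b2n a1 + 16 * b2n a2 + 32 * b2n a3).testBit (pidx k l) =
          (if k = 1 ∧ l = 2 then a1 else if k = 1 ∧ l = 3 then a2 else a3) := by decide +kernel
    have hd : dB.testBit (pidx k l) = bY k l := by
      rw [hdB, key k l hk hkl]
      fin_cases k <;> fin_cases l <;> first | exact absurd rfl hk | exact absurd hkl (by decide) | rfl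
    have A := F1.abel
    have e2 : F2.y k l = F1.y k l * F1.zb (bY k l) := by
      show F1.y k l * F1.zb (dB.testBit (pidx k l)) = _
      rw [hd]
    set P := F1.phi (32 * uY k l) with hP
    have h := hY k l hk hl hkl.ne
    have h1 : s * F2.y k l * s⁻¹ = F2.y k l * P * F1.zb (aY k l) := by
      rw [e2, hconj, h, show s * F1.zb (bY k l) * s⁻¹ = F1.zb (bY k l) * F1.tb (bY k l) from hszb _, ← hP]
      show F1.y k l * (P * (F1.zb (aY k l) * F1.tb (bY k l))) * (F1.zb (bY k l) * F1.tb (bY k l)) = _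
      rw [(A _ (F1.zb_mem (bY k l)) _ (F1.tb_mem (bY k l))).eq]
      have hb := F1.abel_sq (F1.tb_mem (bY k l))
      calc F1.y k l * (P * (F1.zb (aY k l) * F1.tb (bY k l))) * (F1.tb (bY k l) * F1.zb (bY k l))
          = F1.y k l * (P * F1.zb (aY k l)) * (F1.tb (bY k l) * F1.tb (bY k l)) * F1.zb (bY k l) := by group
        _ = F1.y k l * (F1.zb (bY k l) * (P * F1.zb (aY k l))) := by
          rw [hb, mul_one, mul_assoc,
            (A _ (mul_mem (F1.phi_mem _) (F1.zb_mem (aY k l))) _ (F1.zb_mem (bY k l))).eq]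
        _ = _ := by group
    have h2 := hss _ (F2.y_mem k l)
    rw [h1, hconj, hconj, h1, hP, hlow _ (huY k l), ← hP, show s * F1.zb (aY k l) * s⁻¹ =
      F1.zb (aY k l) * F1.tb (aY k l) from hszb _] at h2
    have hPz := mul_mem (F1.phi_mem (32 * uY k l)) (F1.zb_mem (aY k l))
    have e3 : F2.y k l * P * F1.zb (aY k l) * P * (F1.zb (aY k l) * F1.tb (aY k l)) =
        F2.y k l * F1.tb (aY k l) := by
      calc F2.y k l * P * F1.zb (aY k l) * P * (F1.zb (aY k l) * F1.tb (aY k l))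
          = F2.y k l * (P * F1.zb (aY k l) * (P * F1.zb (aY k l))) * F1.tb (aY k l) := by group
        _ = _ := by rw [F1.abel_sq hPz, mul_one]
    rw [e3] at h2
    rw [h1, F1.tb_false (mul_eq_left.1 h2), hlow2 _ (huY k l)]
    exact mul_one _
  have hy2 : ∀ j : Fin 4, j ≠ 0 → s * F2.y 0 j * s⁻¹ = F2.y 0 j := fun j hj => by
    rw [hd0 j hj]; exact hy1 j hj
  have hT2 : ∀ j : Fin 4, j ≠ 0 →
      s * F2.T j * s⁻¹ = F2.phi (2 ^ (1 + j.val) ^^^ ycode 0 j ^^^ 2 * b2n (bT j)) := by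
    intro j hj
    rw [F2.phi_xor, F2.phi_xor, F2.phi_T, show ycode 0 j.val = ycode (0 : Fin 4).val j.val from rfl,
      F2.phi_y (Ne.symm hj), ← F2.tb_phi, hd0 j hj]
    exact hT1 j hj
  have hY3 : ∀ k l : Fin 4, k ≠ 0 → k < l → s * F2.y k l * s⁻¹ = F2.phi (ycode k l ^^^ 32 * uY k l) :=
    fun k l hk hkl => by rw [F2.phi_xor, F2.phi_y hkl.ne]; exact hY2 k l hk hkl
  refine ⟨F2, s, uY 1 2 + 8 * uY 1 3 + 64 * uY 2 3, b2n (bT 1) + 2 * b2n (bT 2) + 4 * b2n (bT 3), ?_, ?_,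
    hs, hsz, fun m => F2.conj_phi ?_ m⟩
  · have := huY 1 2; have := huY 1 3; have := huY 2 3; omega
  · cases bT 1 <;> cases bT 2 <;> cases bT 3 <;> decide
  have hb : ∀ a1 a2 a3 : Bool, (b2n a1 + 2 * b2n a2 + 4 * b2n a3).testBit 0 = a1 ∧
      (b2n a1 + 2 * b2n a2 + 4 * b2n a3).testBit 1 = a2 ∧
      (b2n a1 + 2 * b2n a2 + 4 * b2n a3).testBit 2 = a3 := by decide +kernel
  obtain ⟨b1, b2, b3⟩ := hb (bT 1) (bT 2) (bT 3)
  have hz2 : s * D.z * s⁻¹ = F2.phi 3 := by
    rw [show (3 : ℕ) = 1 ^^^ 2 ^ (1 + (0 : Fin 4).val) from rfl, F2.phi_xor, F2.phi_one, F2.phi_T]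
    exact hsz
  have L1 : (uY 1 2 + 8 * uY 1 3 + 64 * uY 2 3) % 8 = uY 1 2 := by have := huY 1 2; omega
  have L2 : (uY 1 2 + 8 * uY 1 3 + 64 * uY 2 3) / 8 % 8 = uY 1 3 := by
    have := huY 1 2; have := huY 1 3; omega
  have L3 : (uY 1 2 + 8 * uY 1 3 + 64 * uY 2 3) / 64 = uY 2 3 := by
    have := huY 1 2; have := huY 1 3; omega
  simp only [simg, L1, L2, L3, b1, b2, b3]
  simp only [gens, List.map_cons, List.map_nil]
  rw [hz2, hT2 1 (by decide), hT2 2 (by decide), hT2 3 (by decide), hy2 1 (by decide), hy2 2 (by decide),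
    hy2 3 (by decide), hY3 1 2 (by decide) (by decide), hY3 1 3 (by decide) (by decide),
    hY3 2 3 (by decide) (by decide),
    show F2.phi 2 = F2.T 0 from F2.phi_T 0, show F2.phi 32 = F2.y 0 1 from F2.phi_y (i := 0) (j := 1) (by decide),
    show F2.phi 64 = F2.y 0 2 from F2.phi_y (i := 0) (j := 2) (by decide),
    show F2.phi 128 = F2.y 0 3 from F2.phi_y (i := 0) (j := 3) (by decide),
    show s * F2.T 0 * s⁻¹ = F2.T 0 from hst]
  rfl

end Gen

end Cfsg.Lib.CoOneLocal
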