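import Cfsg.Agent.Lib.CoOneLocal.Lines
import Cfsg.Agent.Lib.CoOneLocal.Swap
import Cfsg.Agent.Lib.CoOneLocal.Checks

/-!
# The coordinates and the elements of the normalizer
-/

set_option autoImplicit false
set_option linter.style.haveILetI false
set_option linter.unusedSectionVars false

namespace Cfsg.Lib.CoOneLocal

open Cfsg Module Cfsg.Lib.Linear.Orth Cfsg.Lib.Extra.Wide Cfsg.Lib.Concrete
open scoped Matrix

variable {G : Type*} [Group G] [Finite G]

/-- The data with its coordinates and the exchange. -/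
structure Setup (D : Data G I8) where
  /-- The generators. -/
  F : Gen D
  /-- The exchange. -/
  s : G
  /-- The parameters of the exchange. -/
  L : ℕ
  /-- The parameters of the exchange. -/
  b : ℕ
  /-- The parameter of the lines. -/
  tau : Bool
  hL : L < 512
  hb : b < 8
  hs : s ∈ D.Qof (F.T 0)
  hsz : s * D.z * s⁻¹ = D.z * F.T 0
  swap : ∀ m, s * F.phi m * s⁻¹ = F.phi (sop L b m)
  line : ∀ u ∈ lineList, ∀ m < 2048, m >>> 5 = u → (D.Cl (F.phi m) ↔ m ∈ lset tau u)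

theorem exists_setup (D : Data G I8) (hq : D.qf = Cfsg.quadFormPlus 4 (ZMod 2))
    (hab : ∀ g ∈ AA D, ∀ h ∈ AA D, Commute g h) : Nonempty (Setup D) := by
  obtain ⟨F0⟩ := exists_gen hq hab
  obtain ⟨F, s, L, b, hL, hb, hs, hsz, hsw⟩ := F0.exists_swap
  obtain ⟨tau, hl⟩ := F.exists_tau
  exact ⟨⟨F, s, L, b, tau, hL, hb, hs, hsz, hsw, hl⟩⟩

theorem norm_of {D : Data G I8} {n : G} (h : ∀ g ∈ AA D, n * g * n⁻¹ ∈ AA D) :
    n ∈ Subgroup.normalizer (AA D : Set G) := by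
  have hle : (AA D).map (MulAut.conj n).toMonoidHom ≤ AA D := by
    rintro _ ⟨g, hg, rfl⟩; exact h g hg
  have he := Subgroup.eq_of_le_of_card_ge hle
    (Subgroup.card_map_of_injective (MulAut.conj n).injective).ge
  refine Subgroup.mem_normalizer_iff.2 fun g => ⟨fun hg => h g hg, fun hg => ?_⟩
  rw [← he, mem_map_conj] at hg
  rwa [show n⁻¹ * (n * g * n⁻¹) * n = g by group] at hg

theorem norm_of_WS {D : Data G I8} {n : G} (h : ∀ w ∈ WS D, n * w * n⁻¹ ∈ WS D) :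
    n ∈ Subgroup.normalizer (AA D : Set G) := by
  have hle : (WS D).map (MulAut.conj n).toMonoidHom ≤ WS D := by
    rintro _ ⟨g, hg, rfl⟩; exact h g hg
  have he := Subgroup.eq_of_le_of_card_ge hle
    (Subgroup.card_map_of_injective (MulAut.conj n).injective).ge
  refine norm_of fun g hg => mem_AA.2 fun w hw => ?_
  rw [← he, mem_map_conj] at hw
  have := (Commute.conj_iff n).2 (mem_AA.1 hg _ hw)
  rwa [show n * (n⁻¹ * w * n) * n⁻¹ = w by group] at this

/-- The transvection lifts. -/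
theorem exists_trans {D : Data G I8} (F : Gen D) {i j : Fin 4} (hij : i ≠ j) :
    ∃ d, D.InPQ (F.T i) d ∧ D.act d = sGL D.qf D.B (D.cls (F.T i)) (vf (2 ^ j.val)) ∧
      d ∈ Subgroup.normalizer (AA D : Set G) ∧
      (∀ a < 16, (D.act d).val *ᵥ ve a = ve (tvA i j a)) ∧ (j ≠ 0 → Commute d (F.T 0)) := by
  have hB : D.B (D.cls (F.T i)) (vf (2 ^ j.val)) = 0 := by
    rw [F.cls_T, B_ve_vf F.qp]
    exact (by decide +kernel : ∀ i j : Fin 4, i ≠ j → dot (2 ^ i.val) (2 ^ j.val) = 0) i j hij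
  obtain ⟨d, hd, hdv⟩ := (F.pt i).exists_label hB
  have hact : ∀ a < 16, (D.act d).val *ᵥ ve a = ve (tvA i j a) := by
    intro a ha
    rw [hdv, sGL_apply D.space (F.pt i).cls_sing hB, F.cls_T, B_ve_ve F.qp, B_vf_ve F.qp]
    have key : ∀ (a : Fin 16) (j : Fin 4), dot (2 ^ j.val) a = (if a.val.testBit j then 1 else 0) := by
      decide +kernel
    rw [show dot (2 ^ j.val) a = _ from key ⟨a, ha⟩ j]
    simp only [zero_smul, add_zero, mul_zero, tvA]
    cases a.testBit j.val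
    · simp
    · simp [ve_xor]
  refine ⟨d, hd, hdv, norm_of_WS fun w hw => ?_, hact, fun hj => ?_⟩
  · obtain ⟨hwQ, a, ha, ea⟩ := hw
    refine ⟨(Subgroup.mem_normalizer_iff.1 (D.ctx.norm d hd.2) w).1 hwQ, tvA i j a, ?_, ?_⟩
    · have : ∀ (i j : Fin 4) (a : Fin 16), tvA i j a < 16 := by decide +kernel
      exact this i j ⟨a, ha⟩
    · rw [D.act_cls d hd.2 w hwQ, ea, hact a ha]
  · refine ((F.pt i).comm ⟨(F.pt 0).mem, F.abel _ (F.T_mem 0) _ (F.T_mem i)⟩ hd hB hdv).1 ?_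
    rw [F.cls_T, B_ve_vf F.qp]
    exact (by decide +kernel : ∀ j : Fin 4, j ≠ 0 → dot (2 ^ (0 : Fin 4).val) (2 ^ j.val) = 0) j hj

theorem act_conj {D : Data G I8} {n x : G} (hn : Commute n D.z) (hx : Commute x D.z) :
    D.act (n * x * n⁻¹) = D.act n * D.act x * (D.act n)⁻¹ := by
  rw [D.act_mul _ _ (hn.mul_left hx) hn.inv_left, D.act_mul _ _ hn hx, D.act_inv hn]

theorem wedge_pairs : wedge 1 2 = 1 ∧ wedge 1 4 = 2 ∧ wedge 1 8 = 4 ∧ wedge 2 4 = 8 ∧ wedge 2 8 = 16 ∧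
    wedge 4 8 = 32 := by decide +kernel

/-- The action of a transvection lift on the radical. -/
theorem trans_conj {D : Data G I8} (F : Gen D) {d : G} {i j : ℕ} (hp : (i, j) ∈ tvAll)
    (hdz : Commute d D.z) (hact : ∀ a < 16, (D.act d).val *ᵥ ve a = ve (tvA i j a)) :
    ∀ u < 64, D.act d * nU u * (D.act d)⁻¹ = nU (tvU i j u) := by
  have hb : ∀ a b, a < 16 → b < 16 →
      D.act d * nU (wedge a b) * (D.act d)⁻¹ = nU (wedge (tvA i j a) (tvA i j b)) := by
    intro a b ha hb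
    rw [← sGL_ve F.qp ha hb, ← sGL_ve F.qp (tvA_lt _ hp a ha).1 (tvA_lt _ hp b hb).1,
      sGL_conj D.space (qf_ve F.qp a) (B_ve_ve F.qp a b) (D.act_iso hdz), hact a ha, hact b hb]
  obtain ⟨w1, w2, w3, w4, w5, w6⟩ := wedge_pairs
  refine xor_all 6 ?_ (fun a b _ _ ha hb' => ?_) (fun k hk => ?_)
  · have h0 : tvU i j 0 = 0 := by simp [tvU, comboAux]
    rw [h0, nU_zero, mul_one, mul_inv_cancel]
  · rw [← nU_xor, show tvU i j (a ^^^ b) = tvU i j a ^^^ tvU i j b from comboAux_xor _ _ _, ← nU_xor,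
      ← ha, ← hb']
    group
  · interval_cases k <;> simp only [tvU, comboAux] <;> norm_num <;>
      simp only [show ((0 : ℕ) == 1) = false from rfl, cond_false, Nat.zero_xor, Nat.xor_zero]
    · have := hb 1 2 (by norm_num) (by norm_num); rwa [w1] at this
    · have := hb 1 4 (by norm_num) (by norm_num); rwa [w2] at this
    · have := hb 1 8 (by norm_num) (by norm_num); rwa [w3] at this
    · have := hb 2 4 (by norm_num) (by norm_num); rwa [w4] at this
    · have := hb 2 8 (by norm_num) (by norm_num); rwa [w5] at this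
    · have := hb 4 8 (by norm_num) (by norm_num); rwa [w6] at this

theorem shift5_lt {m : ℕ} (hm : m < 2048) : m >>> 5 < 64 := by
  rw [Nat.shiftRight_eq_div_pow]; omega

namespace Setup

variable {D : Data G I8} (S : Setup D)
include S

theorem conj_code {n : G} (hn : n ∈ Subgroup.normalizer (AA D : Set G)) (m : ℕ) :
    ∃ m' < 2048, n * S.F.phi m * n⁻¹ = S.F.phi m' := by
  obtain ⟨m', h, e⟩ := S.F.phi_surj ((Subgroup.mem_normalizer_iff.1 hn _).1 (S.F.phi_mem m))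
  exact ⟨m', h, e.symm⟩

theorem s_norm : S.s ∈ Subgroup.normalizer (AA D : Set G) := norm_of fun g hg => by
  obtain ⟨m, -, rfl⟩ := S.F.phi_surj hg
  rw [S.swap]; exact S.F.phi_mem _

theorem s_twice {x : G} (hx : x ∈ AA D) : S.s * (S.s * x * S.s⁻¹) * S.s⁻¹ = x := by
  have hm : S.s * S.s ∈ AA D := by
    rcases (D.ctx_Qof (S.F.pt 0).cl).sq S.s S.hs with e | e <;> rw [e]
    exacts [one_mem _, S.F.T_mem 0]
  calc S.s * (S.s * x * S.s⁻¹) * S.s⁻¹ = S.s * S.s * x * (S.s * S.s)⁻¹ := by group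
    _ = x := by rw [(S.F.abel _ hm x hx).eq, mul_inv_cancel_right]

theorem q_norm {q : G} (hq : q ∈ D.Q) : q ∈ Subgroup.normalizer (AA D : Set G) := by
  refine norm_of_WS fun w hw => ?_
  rcases D.q_conj hq hw.1 with e | e
  · rwa [e]
  · rw [e.2]; exact mul_mem z_mem_WS hw

theorem fix_code {m : ℕ} (hm : m < 2048) :
    fixCard (D.act (S.F.phi m)) = 16 ↔ pfB (m >>> 5) = true := by
  rw [S.F.act_phi m hm]; exact fixCard_pfB (shift5_lt hm)

theorem qword_conj (c m : ℕ) : ∃ q ∈ D.Q, q * S.F.phi m * q⁻¹ = S.F.phi (qword c m) := by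
  have hk : ∀ (k : Fin 4) (x : ℕ) (e : Bool), ∃ q ∈ D.Q,
      q * S.F.phi x * q⁻¹ = S.F.phi ((bif e then qop k else id) x) := by
    intro k x e
    cases e
    · exact ⟨1, one_mem _, by simp⟩
    · obtain ⟨q, hq, hc⟩ := D.cls_surj (vf (2 ^ k.val))
      exact ⟨q, hq, S.F.q_conj k hq hc x⟩
  obtain ⟨q0, h0, e0⟩ := hk 0 m (c.testBit 0)
  obtain ⟨q1, h1, e1⟩ := hk 1 ((bif c.testBit 0 then qop 0 else id) m) (c.testBit 1)
  obtain ⟨q2, h2, e2⟩ := hk 2 ((bif c.testBit 1 then qop 1 else id) ((bif c.testBit 0 then qop 0 else id) m))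
    (c.testBit 2)
  obtain ⟨q3, h3, e3⟩ := hk 3 ((bif c.testBit 2 then qop 2 else id) ((bif c.testBit 1 then qop 1 else id)
    ((bif c.testBit 0 then qop 0 else id) m))) (c.testBit 3)
  refine ⟨q3 * q2 * q1 * q0, mul_mem (mul_mem (mul_mem h3 h2) h1) h0, ?_⟩
  rw [show q3 * q2 * q1 * q0 * S.F.phi m * (q3 * q2 * q1 * q0)⁻¹ =
    q3 * (q2 * (q1 * (q0 * S.F.phi m * q0⁻¹) * q1⁻¹) * q2⁻¹) * q3⁻¹ by group]
  simp only [Fin.isValue, Fin.val_zero, Fin.val_one, Fin.val_two] at e0 e1 e2 e3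
  rw [e0, e1, e2, e3]
  rfl

end Setup

end Cfsg.Lib.CoOneLocal
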