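import Cfsg.Agent.Lib.CoOneLocal.Model
import Cfsg.Agent.Lib.Extra.Wide.Bound

/-!
# The model space and the unipotent radical of a maximal totally singular subspace
-/

set_option autoImplicit false
set_option linter.style.haveILetI false

namespace Cfsg.Lib.CoOneLocal

open Cfsg Module Cfsg.Lib.Linear.Orth Cfsg.Lib.Extra.Wide
open scoped Matrix

/-- The index set of the model space. -/
abbrev I8 := Fin 4 ⊕ Fin 4

/-- The model space. -/
abbrev V8 := I8 → ZMod 2

/-- The bits of a number below sixteen. -/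
def ev (a : ℕ) (i : Fin 4) : ZMod 2 := if a.testBit i then 1 else 0

/-- The vectors of the first half. -/
def ve (a : ℕ) : V8 := Sum.elim (ev a) 0

/-- The vectors of the second half. -/
def vf (a : ℕ) : V8 := Sum.elim 0 (ev a)

theorem ev_xor (a b : ℕ) : ev (a ^^^ b) = ev a + ev b := by
  funext i
  simp only [ev, Pi.add_apply, Nat.testBit_xor]
  cases a.testBit i <;> cases b.testBit i <;> decide

theorem ev_zero : ev 0 = 0 := by funext i; simp [ev]

theorem exists_ev : ∀ x : Fin 4 → ZMod 2, ∃ a : Fin 16, x = ev a := by decide +kernel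

theorem ev_inj : ∀ a b : Fin 16, ev a = ev b → a = b := by decide +kernel

theorem ve_xor (a b : ℕ) : ve (a ^^^ b) = ve a + ve b := by
  funext i; cases i <;> simp [ve, ev_xor]

theorem vf_xor (a b : ℕ) : vf (a ^^^ b) = vf a + vf b := by
  funext i; cases i <;> simp [vf, ev_xor]

theorem ve_zero : ve 0 = 0 := by funext i; cases i <;> simp [ve, ev_zero]

theorem vf_zero : vf 0 = 0 := by funext i; cases i <;> simp [vf, ev_zero]

theorem exists_code (v : V8) : ∃ a b : ℕ, a < 16 ∧ b < 16 ∧ v = ve a + vf b := by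
  obtain ⟨a, ha⟩ := exists_ev (v ∘ Sum.inl)
  obtain ⟨b, hb⟩ := exists_ev (v ∘ Sum.inr)
  refine ⟨a, b, a.2, b.2, funext fun i => ?_⟩
  cases i with
  | inl i => simpa [ve, vf] using congrFun ha i
  | inr i => simpa [ve, vf] using congrFun hb i

theorem ve_inj {a b : ℕ} (ha : a < 16) (hb : b < 16) (h : ve a = ve b) : a = b := by
  have e : ev a = ev b := funext fun i => congrFun h (Sum.inl i)
  exact congrArg Fin.val (ev_inj ⟨a, ha⟩ ⟨b, hb⟩ e)

theorem vf_inj {a b : ℕ} (ha : a < 16) (hb : b < 16) (h : vf a = vf b) : a = b := by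
  have e : ev a = ev b := funext fun i => congrFun h (Sum.inr i)
  exact congrArg Fin.val (ev_inj ⟨a, ha⟩ ⟨b, hb⟩ e)

/-- The polar form of the model. -/
def bf (u v : V8) : ZMod 2 := ∑ i, (u (.inl i) * v (.inr i) + u (.inr i) * v (.inl i))

/-- The scalar product of two codes. -/
def dot (a b : ℕ) : ZMod 2 := ∑ i : Fin 4, ev a i * ev b i

theorem bf_ve_ve (a b : ℕ) : bf (ve a) (ve b) = 0 := by simp [bf, ve]

theorem bf_ve_vf (a b : ℕ) : bf (ve a) (vf b) = dot a b := by simp [bf, ve, vf, dot]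

theorem bf_vf_ve (a b : ℕ) : bf (vf a) (ve b) = dot a b := by simp [bf, ve, vf, dot]

theorem bf_vf_vf (a b : ℕ) : bf (vf a) (vf b) = 0 := by simp [bf, vf]

theorem qp_ve (a : ℕ) : Cfsg.quadFormPlus 4 (ZMod 2) (ve a) = 0 := by simp [Cfsg.quadFormPlus, ve]

theorem qp_vf (a : ℕ) : Cfsg.quadFormPlus 4 (ZMod 2) (vf a) = 0 := by simp [Cfsg.quadFormPlus, vf]

/-! ## The unipotent radical -/

/-- An alternating matrix of the six bits of a code. -/
def nN (u : ℕ) : Matrix (Fin 4) (Fin 4) (ZMod 2) := fun i j =>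
  if i = j then 0
  else if u.testBit (if i.val = 0 ∨ j.val = 0 then i.val + j.val - 1 else i.val + j.val) then 1 else 0

theorem nN_xor (u w : ℕ) : nN (u ^^^ w) = nN u + nN w := by
  ext i j
  simp only [nN, Matrix.add_apply, Nat.testBit_xor]
  by_cases h : i = j
  · simp [h]
  · simp only [if_neg h]
    cases u.testBit (if i.val = 0 ∨ j.val = 0 then i.val + j.val - 1 else i.val + j.val) <;>
      cases w.testBit (if i.val = 0 ∨ j.val = 0 then i.val + j.val - 1 else i.val + j.val) <;> decide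

theorem nN_zero : nN 0 = 0 := by ext i j; simp [nN]

theorem nN_inj : ∀ u w : Fin 64, nN u = nN w → u = w := by decide +kernel

theorem nN_wedge_aux (i j : Fin 4) : ∀ a b : Fin 16,
    nN (wedge a b) i j = ev b i * ev a j + ev a i * ev b j := by
  revert i j
  intro i j
  fin_cases i <;> fin_cases j <;> decide +kernel

theorem nN_wedge (a b : Fin 16) (i j : Fin 4) :
    nN (wedge a b) i j = ev b i * ev a j + ev a i * ev b j := nN_wedge_aux i j a b

theorem nN_add_self (u : ℕ) : nN u + nN u = 0 := by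
  rw [← nN_xor, Nat.xor_self, nN_zero]

/-- The matrix of the radical element of a code. -/
def nMat (u : ℕ) : Matrix I8 I8 (ZMod 2) := Matrix.fromBlocks 1 (nN u) 0 1

theorem nMat_mul (u w : ℕ) : nMat u * nMat w = nMat (u ^^^ w) := by
  simp [nMat, Matrix.fromBlocks_multiply, nN_xor, add_comm]

theorem nMat_zero : nMat 0 = 1 := by simp [nMat, nN_zero]

/-- The radical element of a code. -/
def nU (u : ℕ) : GL I8 (ZMod 2) :=
  ⟨nMat u, nMat u, by rw [nMat_mul, Nat.xor_self, nMat_zero],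
    by rw [nMat_mul, Nat.xor_self, nMat_zero]⟩

theorem nU_xor (u w : ℕ) : nU u * nU w = nU (u ^^^ w) := Units.ext (nMat_mul u w)

theorem nU_zero : nU 0 = 1 := Units.ext nMat_zero

theorem nU_inj {u w : ℕ} (hu : u < 64) (hw : w < 64) (h : nU u = nU w) : u = w := by
  have h' : nMat u = nMat w := congrArg Units.val h
  exact congrArg Fin.val (nN_inj ⟨u, hu⟩ ⟨w, hw⟩ (Matrix.fromBlocks_inj.1 h').2.1)

theorem nU_inl (u : ℕ) (x : V8) (i : Fin 4) :
    ((nU u).val *ᵥ x) (.inl i) = x (.inl i) + ∑ j, nN u i j * x (.inr j) := by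
  show (nMat u *ᵥ x) (.inl i) = _
  rw [nMat, Matrix.fromBlocks_mulVec]
  simp [Matrix.mulVec, dotProduct]

theorem nU_inr (u : ℕ) (x : V8) (i : Fin 4) : ((nU u).val *ᵥ x) (.inr i) = x (.inr i) := by
  show (nMat u *ᵥ x) (.inr i) = _
  rw [nMat, Matrix.fromBlocks_mulVec]
  simp [Matrix.mulVec, dotProduct]

theorem nU_ve (u a : ℕ) : (nU u).val *ᵥ ve a = ve a := by
  funext i
  cases i with
  | inl i => rw [nU_inl]; simp [ve]
  | inr i => rw [nU_inr]

/-- The number of fixed vectors of a radical element. -/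
noncomputable def fixCard (g : GL I8 (ZMod 2)) : ℕ := Nat.card {x : V8 // g.val *ᵥ x = x}

theorem fixCard_conj (g h : GL I8 (ZMod 2)) : fixCard (h * g * h⁻¹) = fixCard g := by
  refine Nat.card_congr
    { toFun := fun x => ⟨(h⁻¹ : GL I8 (ZMod 2)).val *ᵥ x.1, ?_⟩
      invFun := fun x => ⟨h.val *ᵥ x.1, ?_⟩
      left_inv := fun x => Subtype.ext (act_inv h _)
      right_inv := fun x => Subtype.ext (inv_act h _) }
  · have e := x.2
    rw [mul_act, mul_act] at e
    exact act_injective h (by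
      show h.val *ᵥ _ = h.val *ᵥ _
      rw [e, act_inv])
  · rw [mul_act, mul_act, inv_act, x.2]

set_option maxRecDepth 20000 in
theorem fix_check : ∀ u : Fin 64,
    ((Finset.univ.filter fun f : Fin 4 → ZMod 2 => ∀ i, (∑ j, nN u i j * f j) = 0).card = 1 ↔
      pfB u = true) := by decide +kernel

theorem fixCard_nU (u : ℕ) : fixCard (nU u) =
    16 * (Finset.univ.filter fun f : Fin 4 → ZMod 2 => ∀ i, (∑ j, nN u i j * f j) = 0).card := by
  classical
  have e : {x : V8 // (nU u).val *ᵥ x = x} ≃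
      (Fin 4 → ZMod 2) × {f : Fin 4 → ZMod 2 // ∀ i, (∑ j, nN u i j * f j) = 0} :=
    { toFun := fun x => ⟨x.1 ∘ Sum.inl, x.1 ∘ Sum.inr, fun i => by
        have h := congrFun x.2 (Sum.inl i)
        rw [nU_inl] at h
        exact add_eq_left.1 h⟩
      invFun := fun p => ⟨Sum.elim p.1 p.2.1, funext fun i => by
        cases i with
        | inl i => rw [nU_inl]; simpa using p.2.2 i
        | inr i => rw [nU_inr]⟩
      left_inv := fun x => Subtype.ext (Sum.elim_comp_inl_inr x.1)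
      right_inv := fun p => by simp }
  rw [fixCard, Nat.card_congr e, Nat.card_prod, Nat.card_fun, Nat.card_zmod, Nat.card_eq_fintype_card,
    Fintype.card_fin, Nat.card_eq_fintype_card, Fintype.card_subtype]
  norm_num

/-- The rank-four elements of the radical are those outside the Klein quadric. -/
theorem fixCard_pfB {u : ℕ} (hu : u < 64) : fixCard (nU u) = 16 ↔ pfB u = true := by
  rw [fixCard_nU]
  exact Iff.trans ⟨fun h => Nat.eq_of_mul_eq_mul_left (by norm_num : 0 < 16) (h.trans (mul_one 16).symm),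
    fun h => by rw [h, mul_one]⟩ (fix_check ⟨u, hu⟩)

/-! ## Data over the model -/

variable {G : Type*} [Group G] {D : Data G I8}

theorem B_eq (hq : D.qf = Cfsg.quadFormPlus 4 (ZMod 2)) (u v : V8) : D.B u v = bf u v := by
  rw [← D.space.polar, QuadraticMap.polar, hq, bf]
  simp only [Cfsg.quadFormPlus, Pi.add_apply, ← Finset.sum_sub_distrib]
  exact Finset.sum_congr rfl fun i _ => by ring

theorem B_ve_ve (hq : D.qf = Cfsg.quadFormPlus 4 (ZMod 2)) (a b : ℕ) : D.B (ve a) (ve b) = 0 := by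
  rw [B_eq hq, bf_ve_ve]

theorem B_ve_vf (hq : D.qf = Cfsg.quadFormPlus 4 (ZMod 2)) (a b : ℕ) :
    D.B (ve a) (vf b) = dot a b := by
  rw [B_eq hq, bf_ve_vf]

theorem B_vf_ve (hq : D.qf = Cfsg.quadFormPlus 4 (ZMod 2)) (a b : ℕ) :
    D.B (vf a) (ve b) = dot a b := by
  rw [B_eq hq, bf_vf_ve]

theorem B_vf_vf (hq : D.qf = Cfsg.quadFormPlus 4 (ZMod 2)) (a b : ℕ) : D.B (vf a) (vf b) = 0 := by
  rw [B_eq hq, bf_vf_vf]

theorem qf_ve (hq : D.qf = Cfsg.quadFormPlus 4 (ZMod 2)) (a : ℕ) : D.qf (ve a) = 0 := by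
  rw [hq, qp_ve]

theorem qf_vf (hq : D.qf = Cfsg.quadFormPlus 4 (ZMod 2)) (a : ℕ) : D.qf (vf a) = 0 := by
  rw [hq, qp_vf]

/-- The Siegel element of two vectors of the first half. -/
theorem sGL_ve (hq : D.qf = Cfsg.quadFormPlus 4 (ZMod 2)) {a b : ℕ} (ha : a < 16) (hb : b < 16) :
    sGL D.qf D.B (ve a) (ve b) = nU (wedge a b) := by
  refine gl_ext fun x => ?_
  rw [sGL_apply D.space (qf_ve hq a) (B_ve_ve hq a b), qf_ve hq b, zero_mul, add_zero, B_eq hq,
    B_eq hq]
  funext i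
  cases i with
  | inl i =>
    rw [nU_inl]
    have := nN_wedge ⟨a, ha⟩ ⟨b, hb⟩ i
    simp only at this
    simp only [Pi.add_apply, Pi.smul_apply, smul_eq_mul, bf, ve, Sum.elim_inl, Sum.elim_inr,
      Pi.zero_apply, zero_mul, add_zero, Finset.sum_mul, this, add_mul, Finset.sum_add_distrib,
      add_assoc]
    congr 2 <;> exact Finset.sum_congr rfl fun j _ => by ring
  | inr i => rw [nU_inr]; simp [ve]

/-! ## Changing the model -/

theorem commutator_conj {H : Type*} [Group H] (x y : H) (hx : x ∈ commutator H) :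
    y * x * y⁻¹ ∈ commutator H :=
  Subgroup.Normal.conj_mem inferInstance x hx y

theorem omega_conj {q : V8 → ZMod 2} {h g : GL I8 (ZMod 2)}
    (hh : h ∈ isometryGroup (ZMod 2) q) (hg : g ∈ Cfsg.Geo.omegaGL q) :
    h * g * h⁻¹ ∈ Cfsg.Geo.omegaGL q := by
  obtain ⟨x, hx, e⟩ := Subgroup.mem_map.1 hg
  have h1 : (⟨h, hh⟩ : ↥(isometryGroup (ZMod 2) q)) * x * (⟨h, hh⟩)⁻¹ ∈ Cfsg.Omega (ZMod 2) q :=
    commutator_conj x _ hx
  refine Subgroup.mem_map.2 ⟨_, h1, ?_⟩
  simp only [map_mul, map_inv, Subgroup.subtype_apply]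
  rw [← e]
  rfl

/-- Data read in other coordinates. -/
def twist (D : Data G I8) (h : GL I8 (ZMod 2)) (hh : h ∈ isometryGroup (ZMod 2) D.qf) : Data G I8 where
  z := D.z
  Q := D.Q
  qf := D.qf
  B := D.B
  cls a := h.val *ᵥ D.cls a
  act c := h * D.act c * h⁻¹
  ctx := D.ctx
  space := D.space
  six := D.six
  ev := D.ev
  cls_mul a ha b hb := by rw [D.cls_mul a ha b hb, Matrix.mulVec_add]
  cls_surj v := by
    obtain ⟨a, ha, e⟩ := D.cls_surj ((h⁻¹ : GL I8 (ZMod 2)).val *ᵥ v)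
    exact ⟨a, ha, by rw [e, act_inv]⟩
  cls_ker a ha := by
    rw [← D.cls_ker a ha]
    exact ⟨fun e => act_injective h (by
      show h.val *ᵥ _ = h.val *ᵥ _
      rw [e, Matrix.mulVec_zero]), fun e => by rw [e, Matrix.mulVec_zero]⟩
  cls_sq a ha := by rw [D.cls_sq a ha, mem_iso.1 hh]
  cls_comm a ha b hb := (D.cls_comm a ha b hb).trans (by rw [D.space.B_act hh])
  act_mul c d hc hd := (congrArg (fun w => h * w * h⁻¹) (D.act_mul c d hc hd)).trans (conj_mul).symm
  act_mem c hc := omega_conj hh (D.act_mem c hc)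
  act_surj g hg := by
    have h2 := omega_conj (inv_mem hh) hg
    rw [inv_inv] at h2
    obtain ⟨c, hc, e'⟩ := D.act_surj (h⁻¹ * g * h) h2
    exact ⟨c, hc, (congrArg (fun w => h * w * h⁻¹) e').trans
      (by simp only [mul_assoc, mul_inv_cancel_left, mul_inv_cancel, mul_one])⟩
  act_ker c hc := conj_eq_one_iff.trans (D.act_ker c hc)
  act_cls c hc a ha := by rw [D.act_cls c hc a ha, mul_act, mul_act, inv_act]
  nwc := D.nwc

end Cfsg.Lib.CoOneLocal
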